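/-
helper61: Boolean table checks (on helper18's packed tables) used for the parabolic subgroups of the Chevalley groups:
* a certificate that every root is the image of a fundamental root under a word in fundamental reflections, where the
  reflections used and the fundamental root all lie in the support of the root;
* elementary facts on the coefficients of the coroots;
* an additive table of root coefficients (a grading of the module by the root lattice) compatible with the columns of
  the root elements;
* the support of the terms of the commutator formula of two positive roots.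
-/
import Cfsg.Agent.Lib.Helper18.RootFacts

set_option autoImplicit false

namespace Cfsg.Agent.Lib.Helper61.ChevJ

open Cfsg.Lie Cfsg.Agent.Lib.Helper18

/-! ### The certificate for words inside the support -/

/-- The support of the coroot of `r'` is contained in that of `r`. -/
def suppLe (T : FastDatum) (r' r : ℕ) : Bool :=
  (List.range T.rank).all fun k => decide (T.coroot r k = 0 → T.coroot r' k = 0)

/-- The check of the certificate. -/
def jCertOK (T : FastDatum) (tabs simples : List ℕ) (cert : ℕ) : Bool :=
  (List.range T.nroots).all fun r0 => forceNat r0 fun r => forceNat (certAt cert r) fun e =>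
    if e % 16 = 15 then decide (∃ j < T.rank, simples.getD j 0 = r ∧ T.coroot r j ≠ 0)
    else forceNat (tabRoot (tabs.getD (e % 16) 0) r) fun r' =>
      decide (e % 16 < T.rank) && decide (r' < T.nroots) && decide (certAt cert r' / 16 < e / 16) &&
      decide (T.coroot r (e % 16) ≠ 0) && suppLe T r' r

/-- Every root whose coroot is supported on `J` is the image of a fundamental root of `J` under a word in the
fundamental reflections of `J`. -/
theorem exists_jword (T : FastDatum) (tabs simples : List ℕ) (cert : ℕ) (hspec : T.ReflSpec tabs simples)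
    (h : jCertOK T tabs simples cert = true) (J : Set ℕ) (r : ℕ) (hr : r < T.nroots)
    (hJ : ∀ k < T.rank, k ∉ J → T.coroot r k = 0) :
    ∃ (ws : List ℕ) (j : ℕ), (∀ i ∈ ws, i < T.rank ∧ i ∈ J) ∧ j < T.rank ∧ j ∈ J ∧
      wordRootF tabs ws (simples.getD j 0) = r := by
  unfold jCertOK at h
  rw [List.all_eq_true] at h
  have main : ∀ d r, certAt cert r / 16 = d → r < T.nroots → (∀ k < T.rank, k ∉ J → T.coroot r k = 0) →
      ∃ (ws : List ℕ) (j : ℕ), (∀ i ∈ ws, i < T.rank ∧ i ∈ J) ∧ j < T.rank ∧ j ∈ J ∧
        wordRootF tabs ws (simples.getD j 0) = r := by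
    intro d
    induction d using Nat.strong_induction_on with
    | _ d ih =>
      intro r hd hr hJr
      have h0 := h r (List.mem_range.mpr hr)
      rw [forceNat_eq, forceNat_eq] at h0
      split_ifs at h0 with hb
      · rw [decide_eq_true_eq] at h0
        obtain ⟨j, hj, hjr, hne⟩ := h0
        refine ⟨[], j, by simp, hj, ?_, by simpa [wordRootF] using hjr⟩
        by_contra hjJ
        exact hne (hJr j hj hjJ)
      · rw [forceNat_eq] at h0
        simp only [Bool.and_eq_true, decide_eq_true_eq] at h0
        obtain ⟨⟨⟨⟨hi, hr'⟩, hdep⟩, hne⟩, hsup⟩ := h0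
        unfold suppLe at hsup
        rw [List.all_eq_true] at hsup
        have hJr' : ∀ k < T.rank, k ∉ J → T.coroot (tabRoot (tabs.getD (certAt cert r % 16) 0) r) k = 0 := by
          intro k hk hkJ
          have := hsup k (List.mem_range.mpr hk)
          rw [decide_eq_true_eq] at this
          exact this (hJr k hk hkJ)
        obtain ⟨ws, j, hws, hj, hjJ, hw⟩ := ih _ (hd ▸ hdep) _ rfl hr' hJr'
        refine ⟨(certAt cert r % 16) :: ws, j, ?_, hj, hjJ, ?_⟩
        · intro i hi'
          rcases List.mem_cons.mp hi' with rfl | hi'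
          · refine ⟨hi, ?_⟩
            by_contra hiJ
            exact hne (hJr _ hi hiJ)
          · exact hws i hi'
        · rw [wordRootF_cons, hw]
          exact hspec.refl_invol _ hi r hr
  exact main _ r rfl hr hJ

/-! ### Facts on the coefficients of the coroots -/

/-- The check of the coroot facts. -/
def corootOK (T : FastDatum) (tabs simples : List ℕ) : Bool :=
  ((List.range T.rank).all fun j0 => forceNat j0 fun j => forceNat (simples.getD j 0) fun p =>
    (List.range T.rank).all fun k => decide (T.coroot p k = if k = j then 1 else 0)) &&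
  ((List.range T.nroots).all fun r0 => forceNat r0 fun r =>
    (List.range T.rank).all fun k => decide (T.coroot (T.neg r) k = - T.coroot r k)) &&
  ((List.range T.rank).all fun i0 => forceNat i0 fun i => forceNat (tabs.getD i 0) fun tab =>
    (List.range T.nroots).all fun s0 => forceNat s0 fun s => forceNat (tabRoot tab s) fun s' =>
      (List.range T.rank).all fun k => decide (k = i) || decide (T.coroot s' k = T.coroot s k))

theorem corootOK_simple (T : FastDatum) (tabs simples : List ℕ) (h : corootOK T tabs simples = true)
    (j : ℕ) (hj : j < T.rank) (k : ℕ) (hk : k < T.rank) :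
    T.coroot (simples.getD j 0) k = if k = j then 1 else 0 := by
  unfold corootOK at h
  simp only [Bool.and_eq_true, List.all_eq_true, List.mem_range] at h
  have h1 := h.1.1 j hj
  rw [forceNat_eq, forceNat_eq, List.all_eq_true] at h1
  have h2 := h1 k (List.mem_range.mpr hk)
  rwa [decide_eq_true_eq] at h2

theorem corootOK_neg (T : FastDatum) (tabs simples : List ℕ) (h : corootOK T tabs simples = true)
    (r : ℕ) (hr : r < T.nroots) (k : ℕ) (hk : k < T.rank) :
    T.coroot (T.neg r) k = - T.coroot r k := by
  unfold corootOK at h
  simp only [Bool.and_eq_true, List.all_eq_true, List.mem_range] at h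
  have h1 := h.1.2 r hr
  rw [forceNat_eq, List.all_eq_true] at h1
  have h2 := h1 k (List.mem_range.mpr hk)
  rwa [decide_eq_true_eq] at h2

theorem corootOK_refl (T : FastDatum) (tabs simples : List ℕ) (h : corootOK T tabs simples = true)
    (i : ℕ) (hi : i < T.rank) (s : ℕ) (hs : s < T.nroots) (k : ℕ) (hk : k < T.rank) (hki : k ≠ i) :
    T.coroot (tabRoot (tabs.getD i 0) s) k = T.coroot s k := by
  unfold corootOK at h
  simp only [Bool.and_eq_true, List.all_eq_true, List.mem_range] at h
  have h1 := h.2 i hi
  rw [forceNat_eq, forceNat_eq, List.all_eq_true] at h1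
  have h2 := h1 s (List.mem_range.mpr hs)
  rw [forceNat_eq, forceNat_eq, List.all_eq_true] at h2
  have h3 := h2 k (List.mem_range.mpr hk)
  rw [Bool.or_eq_true, decide_eq_true_eq, decide_eq_true_eq] at h3
  rcases h3 with h3 | h3
  · exact absurd h3 hki
  · exact h3

/-! ### The grading by the root lattice -/

/-- The coefficient of the root `r` at the `k`-th fundamental root, read from a packed table (same format as the
table of the coroots). -/
def rcAt (tab rank r k : ℕ) : ℤ := Int.ofNat ((tab >>> ((r * rank + k) * 4)) % 16) - 8

/-- The degree of a coordinate: `0` for the coroot vectors, the coefficients of `s` for the root vector `e_s`. -/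
def lvC (tab rank : ℕ) : Code → ℕ → ℤ
  | Sum.inl _, _ => 0
  | Sum.inr s, k => rcAt tab rank s k

/-- The check of the grading for the root `r`: every entry of the column `c` of `x_r(τ)` with the power `τ^m` sits at a
coordinate whose degree is the degree of `c` plus `m` times `r`; the entries with `m = 0` are diagonal. -/
def gradeAt (T : FastDatum) (rcT : ℕ) (r : ℕ) : Bool :=
  T.allCodesF.all fun c => (T.skelF2 r c).all fun e =>
    (decide (e.2.2 ≠ 0) || decide (e.1 = c)) &&
    (List.range T.rank).all fun k =>
      decide (lvC rcT T.rank e.1 k = lvC rcT T.rank c k + Int.ofNat e.2.2 * rcAt rcT T.rank r k)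

/-- The check of the grading for the roots in `[a, a + m)`. -/
def gradeOn (T : FastDatum) (rcT : ℕ) (a m : ℕ) : Bool := allRange a m (gradeAt T rcT)

/-- The table of the root coefficients has the same signs as the table of the coroots. -/
def rcSignOK (T : FastDatum) (rcT : ℕ) : Bool :=
  (List.range T.nroots).all fun r0 => forceNat r0 fun r => (List.range T.rank).all fun k =>
    decide ((rcAt rcT T.rank r k = 0 ↔ T.coroot r k = 0) ∧ (0 < rcAt rcT T.rank r k ↔ 0 < T.coroot r k))

theorem gradeAt_of_gradeOn (T : FastDatum) (rcT : ℕ) (a m : ℕ) (h : gradeOn T rcT a m = true) (r : ℕ)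
    (h1 : a ≤ r) (h2 : r < a + m) : gradeAt T rcT r = true :=
  of_allRange h r h1 h2

theorem gradeAt_entry (T : FastDatum) (rcT : ℕ) (r : ℕ) (h : gradeAt T rcT r = true)
    (c : Code) (hc : c ∈ T.allCodesF) (e : Code × ℤ × ℕ) (he : e ∈ T.skelF r c) :
    (e.2.2 = 0 → e.1 = c) ∧
      ∀ k < T.rank, lvC rcT T.rank e.1 k = lvC rcT T.rank c k + (e.2.2 : ℤ) * rcAt rcT T.rank r k := by
  unfold gradeAt at h
  rw [List.all_eq_true] at h
  have h2 := h c hc
  rw [List.all_eq_true] at h2
  have h3 := h2 e (by rw [T.skelF2_eq]; exact he)
  simp only [Bool.and_eq_true, Bool.or_eq_true, decide_eq_true_eq, List.all_eq_true, List.mem_range] at h3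
  refine ⟨?_, fun k hk => ?_⟩
  · intro h0
    rcases h3.1 with h4 | h4
    · exact absurd h0 h4
    · exact h4
  · exact h3.2 k hk

theorem rcSignOK_spec (T : FastDatum) (rcT : ℕ) (h : rcSignOK T rcT = true) (r : ℕ) (hr : r < T.nroots)
    (k : ℕ) (hk : k < T.rank) :
    (rcAt rcT T.rank r k = 0 ↔ T.coroot r k = 0) ∧ (0 < rcAt rcT T.rank r k ↔ 0 < T.coroot r k) := by
  unfold rcSignOK at h
  rw [List.all_eq_true] at h
  have h1 := h r (List.mem_range.mpr hr)
  rw [forceNat_eq, List.all_eq_true] at h1
  have h2 := h1 k (List.mem_range.mpr hk)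
  rwa [decide_eq_true_eq] at h2

/-! ### The support of the terms of the commutator formula -/

/-- Table check: a term of the commutator formula of two distinct positive roots `r`, `s` is a positive root, whose
coroot is supported on a set containing the support of the coroot of `s`. -/
def commSuppOK (T : FastDatum) : Bool :=
  (List.range (T.nroots / 2)).all fun r0 => (List.range (T.nroots / 2)).all fun s0 =>
    r0 == s0 || (T.commTermsFast (r0 + T.nroots / 2) (s0 + T.nroots / 2)).all fun c =>
      decide (T.nroots / 2 ≤ c.1) && decide (c.1 < T.nroots) &&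
      (List.range T.rank).all fun k =>
        decide (T.coroot (s0 + T.nroots / 2) k = 0) || decide (T.coroot c.1 k ≠ 0)

theorem commSuppOK_spec (T : FastDatum) (h : commSuppOK T = true) (hev : T.nroots % 2 = 0) (r s : ℕ)
    (hr : T.nroots / 2 ≤ r) (hr2 : r < T.nroots)
    (hs : T.nroots / 2 ≤ s) (hs2 : s < T.nroots) (hsr : s ≠ r) (c : ℕ × ℤ × ℕ × ℕ)
    (hc : c ∈ T.commTermsF r s) :
    T.nroots / 2 ≤ c.1 ∧ c.1 < T.nroots ∧ ∀ k < T.rank, T.coroot s k ≠ 0 → T.coroot c.1 k ≠ 0 := by
  unfold commSuppOK at h
  rw [List.all_eq_true] at h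
  have hk2 : T.nroots = 2 * (T.nroots / 2) := by omega
  have e1 : r - T.nroots / 2 + T.nroots / 2 = r := Nat.sub_add_cancel hr
  have e2 : s - T.nroots / 2 + T.nroots / 2 = s := Nat.sub_add_cancel hs
  have b1 : r - T.nroots / 2 < T.nroots / 2 := by
    generalize T.nroots / 2 = m at *
    omega
  have b2 : s - T.nroots / 2 < T.nroots / 2 := by
    generalize T.nroots / 2 = m at *
    omega
  have h1 := h (r - T.nroots / 2) (List.mem_range.2 b1)
  rw [List.all_eq_true] at h1
  have h2 := h1 (s - T.nroots / 2) (List.mem_range.2 b2)
  rw [e1, e2, Bool.or_eq_true, beq_iff_eq, T.commTermsFast_eq, List.all_eq_true] at h2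
  rcases h2 with h2 | h2
  · exfalso
    apply hsr
    rw [← e1, ← e2, h2]
  · have h3 := h2 c hc
    simp only [Bool.and_eq_true, decide_eq_true_eq, List.all_eq_true, List.mem_range, Bool.or_eq_true] at h3
    refine ⟨h3.1.1, h3.1.2, fun k hk hne => ?_⟩
    rcases h3.2 k hk with h4 | h4
    · exact absurd h4 hne
    · exact h4

end Cfsg.Agent.Lib.Helper61.ChevJ
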