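/-
helper61: the table checks of `ChevJ.Tab` for type B2 (kernel computations).
-/
import Cfsg.Agent.Lib.Helper18.ChevDataB2
import Cfsg.Agent.Lib.Helper61.ChevJ.Tab

set_option autoImplicit false

namespace Cfsg.Agent.Lib.Helper61.ChevJ

open Cfsg.Lie Cfsg.Agent.Lib.Helper18

/-- The certificate for words inside the support. -/
def jCert_B2 : ℕ := 0x1001100f00f011010021020

/-- The table of the root coefficients. -/
def rcT_B2 : ℕ := 11140086441227810678

set_option maxRecDepth 1000000 in
theorem jCertOK_B2 : jCertOK fastB2 wTabs_B2 simples_B2 jCert_B2 = true := by decide +kernel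

set_option maxRecDepth 1000000 in
theorem corootOK_B2 : corootOK fastB2 wTabs_B2 simples_B2 = true := by decide +kernel

set_option maxRecDepth 1000000 in
theorem rcSignOK_B2 : rcSignOK fastB2 rcT_B2 = true := by decide +kernel

set_option maxRecDepth 1000000 in
theorem commSuppOK_B2 : commSuppOK fastB2 = true := by decide +kernel

set_option maxRecDepth 1000000 in
theorem gradeOn_B2_0 : gradeOn fastB2 rcT_B2 0 8 = true := by decide +kernel

theorem gradeAll_B2 : ∀ r < fastB2.nroots, gradeAt fastB2 rcT_B2 r = true := by
  intro r hr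
  have hr' : r < 8 := hr
  exact gradeAt_of_gradeOn _ _ _ _ gradeOn_B2_0 r (Nat.zero_le _) (by omega)

end Cfsg.Agent.Lib.Helper61.ChevJ
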