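/-
helper61: the table checks of `ChevJ.Tab` for type D4 (kernel computations).
-/
import Cfsg.Agent.Lib.Helper18.ChevDataD4
import Cfsg.Agent.Lib.Helper61.ChevJ.Tab

set_option autoImplicit false

namespace Cfsg.Agent.Lib.Helper61.ChevJ

open Cfsg.Lie Cfsg.Agent.Lib.Helper18

/-- The certificate for words inside the support. -/
def jCert_D4 : ℕ := 0x4103002002001000f02201101100f00f00f013012011021021032010020030030040051

/-- The table of the root coefficients. -/
def rcT_D4 : ℕ := fastD4.corootT

set_option maxRecDepth 1000000 in
theorem jCertOK_D4 : jCertOK fastD4 wTabs_D4 simples_D4 jCert_D4 = true := by decide +kernel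

set_option maxRecDepth 1000000 in
theorem corootOK_D4 : corootOK fastD4 wTabs_D4 simples_D4 = true := by decide +kernel

set_option maxRecDepth 1000000 in
theorem rcSignOK_D4 : rcSignOK fastD4 rcT_D4 = true := by decide +kernel

set_option maxRecDepth 1000000 in
theorem commSuppOK_D4 : commSuppOK fastD4 = true := by decide +kernel

set_option maxRecDepth 1000000 in
theorem gradeOn_D4_0 : gradeOn fastD4 rcT_D4 0 24 = true := by decide +kernel

theorem gradeAll_D4 : ∀ r < fastD4.nroots, gradeAt fastD4 rcT_D4 r = true := by
  intro r hr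
  have hr' : r < 24 := hr
  exact gradeAt_of_gradeOn _ _ _ _ gradeOn_D4_0 r (Nat.zero_le _) (by omega)

end Cfsg.Agent.Lib.Helper61.ChevJ
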