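/-
helper61: the table checks of `ChevJ.Tab` for type E6 (kernel computations).
-/
import Cfsg.Agent.Lib.Helper18.ChevDataE6
import Cfsg.Agent.Lib.Helper61.ChevJ.Tab

set_option autoImplicit false

namespace Cfsg.Agent.Lib.Helper61.ChevJ

open Cfsg.Lie Cfsg.Agent.Lib.Helper18

/-- The certificate for words inside the support. -/
def jCert_E6 : ℕ := 0xa109308207206207006005005004003004003002001000f06405304304103102103102101100f03202201200f02301300f01400f00f0150140240130230330120220320420110210310410310410510530630740100200300400500400500600600700800720820920a30b1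

/-- The table of the root coefficients. -/
def rcT_E6 : ℕ := fastE6.corootT

set_option maxRecDepth 1000000 in
theorem jCertOK_E6 : jCertOK fastE6 wTabs_E6 simples_E6 jCert_E6 = true := by decide +kernel

set_option maxRecDepth 1000000 in
theorem corootOK_E6 : corootOK fastE6 wTabs_E6 simples_E6 = true := by decide +kernel

set_option maxRecDepth 1000000 in
theorem rcSignOK_E6 : rcSignOK fastE6 rcT_E6 = true := by decide +kernel

set_option maxRecDepth 1000000 in
theorem commSuppOK_E6 : commSuppOK fastE6 = true := by decide +kernel

set_option maxRecDepth 1000000 in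
theorem gradeOn_E6_0 : gradeOn fastE6 rcT_E6 0 72 = true := by decide +kernel

theorem gradeAll_E6 : ∀ r < fastE6.nroots, gradeAt fastE6 rcT_E6 r = true := by
  intro r hr
  have hr' : r < 72 := hr
  exact gradeAt_of_gradeOn _ _ _ _ gradeOn_E6_0 r (Nat.zero_le _) (by omega)

end Cfsg.Agent.Lib.Helper61.ChevJ
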