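/-
helper61: the table checks of `ChevJ.Tab` for type E7 (kernel computations), base part.
-/
import Cfsg.Agent.Lib.Helper18.ChevDataE7
import Cfsg.Agent.Lib.Helper61.ChevJ.Tab

set_option autoImplicit false

namespace Cfsg.Agent.Lib.Helper61.ChevJ

open Cfsg.Lie Cfsg.Agent.Lib.Helper18

/-- The certificate for words inside the support. -/
def jCert_E7 : ℕ := 0x1000f20e30d10c10b10a10c40b30a30930a209208208207206209008007007006005006005004003005004003002001000f08507406406305304305104103102104103102101100f04203202201200f03302301300f02401400f01500f00f0160150250140240340130230330430120220320420520110210310410510310410510610530630730740840950100200300400500600400500600700600700800800900a00720820920920a20b20a30b30c30d40b10c10d10e10f3102110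

/-- The table of the root coefficients. -/
def rcT_E7 : ℕ := fastE7.corootT

set_option maxRecDepth 1000000 in
theorem jCertOK_E7 : jCertOK fastE7 wTabs_E7 simples_E7 jCert_E7 = true := by decide +kernel

set_option maxRecDepth 1000000 in
theorem corootOK_E7 : corootOK fastE7 wTabs_E7 simples_E7 = true := by decide +kernel

set_option maxRecDepth 1000000 in
theorem rcSignOK_E7 : rcSignOK fastE7 rcT_E7 = true := by decide +kernel

set_option maxRecDepth 1000000 in
theorem commSuppOK_E7 : commSuppOK fastE7 = true := by decide +kernel

end Cfsg.Agent.Lib.Helper61.ChevJ
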