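/-
helper61: the grading check of `ChevJ.Tab` for type E7, roots 0 to 62 (kernel computation).
-/
import Cfsg.Agent.Lib.Helper61.ChevJ.TabE7a

set_option autoImplicit false

namespace Cfsg.Agent.Lib.Helper61.ChevJ

open Cfsg.Lie Cfsg.Agent.Lib.Helper18

set_option maxRecDepth 1000000 in
theorem gradeOn_E7_0 : gradeOn fastE7 rcT_E7 0 63 = true := by decide +kernel

end Cfsg.Agent.Lib.Helper61.ChevJ
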