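/-
helper61: the table checks of `ChevJ.Tab` for type E7, assembled.
-/
import Cfsg.Agent.Lib.Helper61.ChevJ.TabE7g0
import Cfsg.Agent.Lib.Helper61.ChevJ.TabE7g1

set_option autoImplicit false

namespace Cfsg.Agent.Lib.Helper61.ChevJ

open Cfsg.Lie Cfsg.Agent.Lib.Helper18

theorem gradeAll_E7 : ∀ r < fastE7.nroots, gradeAt fastE7 rcT_E7 r = true := by
  intro r hr
  have hr' : r < 126 := hr
  by_cases h0 : r < 63
  · exact gradeAt_of_gradeOn _ _ _ _ gradeOn_E7_0 r (by omega) (by omega)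
  exact gradeAt_of_gradeOn _ _ _ _ gradeOn_E7_1 r (by omega) (by omega)

end Cfsg.Agent.Lib.Helper61.ChevJ
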