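/-
helper61: the table checks of `ChevJ.Tab` for type E8 (kernel computations), base part.
-/
import Cfsg.Agent.Lib.Helper18.ChevDataE8
import Cfsg.Agent.Lib.Helper61.ChevJ.Tab

set_option autoImplicit false

namespace Cfsg.Agent.Lib.Helper61.ChevJ

open Cfsg.Lie Cfsg.Agent.Lib.Helper18

/-- The certificate for words inside the support. -/
def jCert_E8 : ℕ := 0x1c71b61a51941831711601621501401301201101001511431321221121020f21241131030f30e31010f10e10d10e10d10c10c10b10a10f50e40d40c40d30c30b30b30a30930c20b20a20a20920820920820720620b00a009009008007008007006005007006005004003006005004003002001000f0a609508508407406407306305304306105104103102105104103102101100f05204203202201200f04303302301300f03402401400f02501500f01600f00f0170160260150250350140240340440130230330430530120220320420520620110210310410510610310410510610710530630730830740840940950a50b60100200300400500600700400500600700800600700800900800900a00a00b00c00720820920a20920a20b20b20c20d20a30b30c30c30d30e30d40e40f41050b10c10d10d10e10f10e10f11011110f31031131231341021121221321421531611101201301401501601721701811931a41b51c61d7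

/-- The table of the root coefficients. -/
def rcT_E8 : ℕ := fastE8.corootT

set_option maxRecDepth 1000000 in
theorem jCertOK_E8 : jCertOK fastE8 wTabs_E8 simples_E8 jCert_E8 = true := by decide +kernel

set_option maxRecDepth 1000000 in
theorem corootOK_E8 : corootOK fastE8 wTabs_E8 simples_E8 = true := by decide +kernel

set_option maxRecDepth 1000000 in
theorem rcSignOK_E8 : rcSignOK fastE8 rcT_E8 = true := by decide +kernel

set_option maxRecDepth 1000000 in
theorem commSuppOK_E8 : commSuppOK fastE8 = true := by decide +kernel

end Cfsg.Agent.Lib.Helper61.ChevJ
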