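/-
helper61: the grading check of `ChevJ.Tab` for type E8, roots 120 to 179 (kernel computation).
-/
import Cfsg.Agent.Lib.Helper61.ChevJ.TabE8a

set_option autoImplicit false

namespace Cfsg.Agent.Lib.Helper61.ChevJ

open Cfsg.Lie Cfsg.Agent.Lib.Helper18

set_option maxRecDepth 1000000 in
theorem gradeOn_E8_2 : gradeOn fastE8 rcT_E8 120 60 = true := by decide +kernel

end Cfsg.Agent.Lib.Helper61.ChevJ
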