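/-
helper61: the table checks of `ChevJ.Tab` for type E8, assembled.
-/
import Cfsg.Agent.Lib.Helper61.ChevJ.TabE8g0
import Cfsg.Agent.Lib.Helper61.ChevJ.TabE8g1
import Cfsg.Agent.Lib.Helper61.ChevJ.TabE8g2
import Cfsg.Agent.Lib.Helper61.ChevJ.TabE8g3

set_option autoImplicit false

namespace Cfsg.Agent.Lib.Helper61.ChevJ

open Cfsg.Lie Cfsg.Agent.Lib.Helper18

theorem gradeAll_E8 : ∀ r < fastE8.nroots, gradeAt fastE8 rcT_E8 r = true := by
  intro r hr
  have hr' : r < 240 := hr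
  by_cases h0 : r < 60
  · exact gradeAt_of_gradeOn _ _ _ _ gradeOn_E8_0 r (by omega) (by omega)
  by_cases h1 : r < 120
  · exact gradeAt_of_gradeOn _ _ _ _ gradeOn_E8_1 r (by omega) (by omega)
  by_cases h2 : r < 180
  · exact gradeAt_of_gradeOn _ _ _ _ gradeOn_E8_2 r (by omega) (by omega)
  exact gradeAt_of_gradeOn _ _ _ _ gradeOn_E8_3 r (by omega) (by omega)

end Cfsg.Agent.Lib.Helper61.ChevJ
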