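/-
helper61: the table checks of `ChevJ.Tab` for type F4 (kernel computations).
-/
import Cfsg.Agent.Lib.Helper18.ChevDataF4
import Cfsg.Agent.Lib.Helper61.ChevJ.Tab

set_option autoImplicit false

namespace Cfsg.Agent.Lib.Helper61.ChevJ

open Cfsg.Lie Cfsg.Agent.Lib.Helper18

/-- The certificate for words inside the support. -/
def jCert_F4 : ℕ := 0x7306205107004003002006105204103103002001000f03202101102301200f01200f00f013012022011022033021031042010020030040041051062071030040050080061072083

/-- The table of the root coefficients. -/
def rcT_F4 : ℕ := 1041833274292016043000269155843206394471266916112457439085816790804815346532943482031450675788796047906237763560192541202165794517984347027398114553198091088314917712201796461136432216242827958383307406181805499032560661207391298886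

set_option maxRecDepth 1000000 in
theorem jCertOK_F4 : jCertOK fastF4 wTabs_F4 simples_F4 jCert_F4 = true := by decide +kernel

set_option maxRecDepth 1000000 in
theorem corootOK_F4 : corootOK fastF4 wTabs_F4 simples_F4 = true := by decide +kernel

set_option maxRecDepth 1000000 in
theorem rcSignOK_F4 : rcSignOK fastF4 rcT_F4 = true := by decide +kernel

set_option maxRecDepth 1000000 in
theorem commSuppOK_F4 : commSuppOK fastF4 = true := by decide +kernel

set_option maxRecDepth 1000000 in
theorem gradeOn_F4_0 : gradeOn fastF4 rcT_F4 0 48 = true := by decide +kernel

theorem gradeAll_F4 : ∀ r < fastF4.nroots, gradeAt fastF4 rcT_F4 r = true := by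
  intro r hr
  have hr' : r < 48 := hr
  exact gradeAt_of_gradeOn _ _ _ _ gradeOn_F4_0 r (Nat.zero_le _) (by omega)

end Cfsg.Agent.Lib.Helper61.ChevJ
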