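/-
helper61: the table checks of `ChevJ.Tab` for type G2 (kernel computations).
-/
import Cfsg.Agent.Lib.Helper18.ChevDataG2
import Cfsg.Agent.Lib.Helper61.ChevJ.Tab

set_option autoImplicit false

namespace Cfsg.Agent.Lib.Helper61.ChevJ

open Cfsg.Lie Cfsg.Agent.Lib.Helper18

/-- The certificate for words inside the support. -/
def jCert_G2 : ℕ := 0x2101002001100f00f011010021030020031

/-- The table of the root coefficients. -/
def rcT_G2 : ℕ := 53110050258195286579817641317

set_option maxRecDepth 1000000 in
theorem jCertOK_G2 : jCertOK fastG2 wTabs_G2 simples_G2 jCert_G2 = true := by decide +kernel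

set_option maxRecDepth 1000000 in
theorem corootOK_G2 : corootOK fastG2 wTabs_G2 simples_G2 = true := by decide +kernel

set_option maxRecDepth 1000000 in
theorem rcSignOK_G2 : rcSignOK fastG2 rcT_G2 = true := by decide +kernel

set_option maxRecDepth 1000000 in
theorem commSuppOK_G2 : commSuppOK fastG2 = true := by decide +kernel

set_option maxRecDepth 1000000 in
theorem gradeOn_G2_0 : gradeOn fastG2 rcT_G2 0 12 = true := by decide +kernel

theorem gradeAll_G2 : ∀ r < fastG2.nroots, gradeAt fastG2 rcT_G2 r = true := by
  intro r hr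
  have hr' : r < 12 := hr
  exact gradeAt_of_gradeOn _ _ _ _ gradeOn_G2_0 r (Nat.zero_le _) (by omega)

end Cfsg.Agent.Lib.Helper61.ChevJ
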