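/-
helper61: the bundle of helper18's table facts together with the table checks of `ChevJ.Tab`, for each of the seven
tabulated data.
-/
import Cfsg.Agent.Lib.Helper18.ChevDataAll
import Cfsg.Agent.Lib.Helper61.ChevJ.TabG2
import Cfsg.Agent.Lib.Helper61.ChevJ.TabB2
import Cfsg.Agent.Lib.Helper61.ChevJ.TabD4
import Cfsg.Agent.Lib.Helper61.ChevJ.TabF4
import Cfsg.Agent.Lib.Helper61.ChevJ.TabE6
import Cfsg.Agent.Lib.Helper61.ChevJ.TabE7
import Cfsg.Agent.Lib.Helper61.ChevJ.TabE8

set_option autoImplicit false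

namespace Cfsg.Agent.Lib.Helper61.ChevJ

open Cfsg.Lie Cfsg.Agent.Lib.Helper18

/-- helper18's bundle of table facts together with the checks of `ChevJ.Tab`. -/
structure JData.{u} (D : ChevalleyDatum) where
  C : ChevData.{u} D
  cert : ℕ
  rcT : ℕ
  hcert : jCertOK C.T C.tabs C.simples cert = true
  hcoroot : corootOK C.T C.tabs C.simples = true
  hsign : rcSignOK C.T rcT = true
  hsupp : commSuppOK C.T = true
  hgrade : ∀ r < C.T.nroots, gradeAt C.T rcT r = true

/-- The bundle for type G2. -/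
def jData_G2.{u} : JData.{u} chevG2 where
  C := chevData_G2
  cert := jCert_G2
  rcT := rcT_G2
  hcert := jCertOK_G2
  hcoroot := corootOK_G2
  hsign := rcSignOK_G2
  hsupp := commSuppOK_G2
  hgrade := gradeAll_G2

/-- The bundle for type B2. -/
def jData_B2.{u} : JData.{u} chevB2 where
  C := chevData_B2
  cert := jCert_B2
  rcT := rcT_B2
  hcert := jCertOK_B2
  hcoroot := corootOK_B2
  hsign := rcSignOK_B2
  hsupp := commSuppOK_B2
  hgrade := gradeAll_B2

/-- The bundle for type D4. -/
def jData_D4.{u} : JData.{u} chevD4 where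
  C := chevData_D4
  cert := jCert_D4
  rcT := rcT_D4
  hcert := jCertOK_D4
  hcoroot := corootOK_D4
  hsign := rcSignOK_D4
  hsupp := commSuppOK_D4
  hgrade := gradeAll_D4

/-- The bundle for type F4. -/
def jData_F4.{u} : JData.{u} chevF4 where
  C := chevData_F4
  cert := jCert_F4
  rcT := rcT_F4
  hcert := jCertOK_F4
  hcoroot := corootOK_F4
  hsign := rcSignOK_F4
  hsupp := commSuppOK_F4
  hgrade := gradeAll_F4

/-- The bundle for type E6. -/
def jData_E6.{u} : JData.{u} chevE6 where
  C := chevData_E6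
  cert := jCert_E6
  rcT := rcT_E6
  hcert := jCertOK_E6
  hcoroot := corootOK_E6
  hsign := rcSignOK_E6
  hsupp := commSuppOK_E6
  hgrade := gradeAll_E6

/-- The bundle for type E7. -/
def jData_E7.{u} : JData.{u} chevE7 where
  C := chevData_E7
  cert := jCert_E7
  rcT := rcT_E7
  hcert := jCertOK_E7
  hcoroot := corootOK_E7
  hsign := rcSignOK_E7
  hsupp := commSuppOK_E7
  hgrade := gradeAll_E7

/-- The bundle for type E8. -/
def jData_E8.{u} : JData.{u} chevE8 where
  C := chevData_E8
  cert := jCert_E8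
  rcT := rcT_E8
  hcert := jCertOK_E8
  hcoroot := corootOK_E8
  hsign := rcSignOK_E8
  hsupp := commSuppOK_E8
  hgrade := gradeAll_E8

theorem nonempty_jData.{u} (D : ChevalleyDatum)
    (hD : D ∈ [chevG2, chevB2, chevD4, chevF4, chevE6, chevE7, chevE8]) : Nonempty (JData.{u} D) := by
  simp only [List.mem_cons, List.not_mem_nil, or_false] at hD
  rcases hD with rfl | rfl | rfl | rfl | rfl | rfl | rfl
  · exact ⟨jData_G2⟩
  · exact ⟨jData_B2⟩
  · exact ⟨jData_D4⟩
  · exact ⟨jData_F4⟩
  · exact ⟨jData_E6⟩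
  · exact ⟨jData_E7⟩
  · exact ⟨jData_E8⟩

end Cfsg.Agent.Lib.Helper61.ChevJ
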