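/-
helper61: further Boolean table checks (on helper18's packed tables), used for the centraliser of the unipotent radical
of a parabolic subgroup of a Chevalley group:
* the coefficients of the opposite root are the opposites;
* a fundamental reflection fixes a root or changes its height;
* a certificate that, for fundamental roots `p_i ≠ p_j`, there are positive roots `s₁`, `s₂` involving `p_i` whose
  Cartan integers differ by those of `p_j`, not both fixed by the reflection `w_j`.
-/
import Cfsg.Agent.Lib.Helper61.ChevJ.Tab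

set_option autoImplicit false

namespace Cfsg.Agent.Lib.Helper61.ChevJ

open Cfsg.Lie Cfsg.Agent.Lib.Helper18

/-- The check: the coefficients of the opposite root are the opposites. -/
def rcNegOK (T : FastDatum) (rcT : ℕ) : Bool :=
  (List.range T.nroots).all fun r0 => forceNat r0 fun r => (List.range T.rank).all fun k =>
    decide (rcAt rcT T.rank (T.neg r) k = - rcAt rcT T.rank r k)

theorem rcNegOK_spec (T : FastDatum) (rcT : ℕ) (h : rcNegOK T rcT = true) (r : ℕ) (hr : r < T.nroots)
    (k : ℕ) (hk : k < T.rank) : rcAt rcT T.rank (T.neg r) k = - rcAt rcT T.rank r k := by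
  unfold rcNegOK at h
  rw [List.all_eq_true] at h
  have h1 := h r (List.mem_range.mpr hr)
  rw [forceNat_eq, List.all_eq_true] at h1
  have h2 := h1 k (List.mem_range.mpr hk)
  rwa [decide_eq_true_eq] at h2

/-- The height of the root `r`. -/
def htAt (rcT rank r : ℕ) : ℤ := ((List.range rank).map fun k => rcAt rcT rank r k).sum

/-- The check: a fundamental reflection fixes a root or changes its height. -/
def reflHtOK (T : FastDatum) (tabs : List ℕ) (rcT : ℕ) : Bool :=
  (List.range T.rank).all fun i0 => forceNat i0 fun i => forceNat (tabs.getD i 0) fun tab =>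
    (List.range T.nroots).all fun s0 => forceNat s0 fun s => forceNat (tabRoot tab s) fun s' =>
      decide (s' = s) || decide (htAt rcT T.rank s' ≠ htAt rcT T.rank s)

theorem reflHtOK_spec (T : FastDatum) (tabs : List ℕ) (rcT : ℕ) (h : reflHtOK T tabs rcT = true)
    (i : ℕ) (hi : i < T.rank) (s : ℕ) (hs : s < T.nroots) (hne : tabRoot (tabs.getD i 0) s ≠ s) :
    htAt rcT T.rank (tabRoot (tabs.getD i 0) s) ≠ htAt rcT T.rank s := by
  unfold reflHtOK at h
  rw [List.all_eq_true] at h
  have h1 := h i (List.mem_range.mpr hi)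
  rw [forceNat_eq, forceNat_eq, List.all_eq_true] at h1
  have h2 := h1 s (List.mem_range.mpr hs)
  rw [forceNat_eq, forceNat_eq, Bool.or_eq_true, decide_eq_true_eq, decide_eq_true_eq] at h2
  rcases h2 with h2 | h2
  · exact absurd h2 hne
  · exact h2

/-- The check of the certificate of pairs of roots. -/
def pairOK (T : FastDatum) (tabs simples : List ℕ) (cert : List (ℕ × ℕ)) : Bool :=
  (List.range T.rank).all fun i => (List.range T.rank).all fun j => decide (i = j) ||
    forceNat (cert.getD (i * T.rank + j) (0, 0)).1 fun s₁ => forceNat (cert.getD (i * T.rank + j) (0, 0)).2 fun s₂ =>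
      decide (T.nroots / 2 ≤ s₁) && decide (s₁ < T.nroots) && decide (T.nroots / 2 ≤ s₂) && decide (s₂ < T.nroots) &&
      decide (T.coroot s₁ i ≠ 0) && decide (T.coroot s₂ i ≠ 0) &&
      ((List.range T.rank).all fun l =>
        decide (T.cartan l s₁ = T.cartan l s₂ + T.cartan l (simples.getD j 0))) &&
      (decide (tabRoot (tabs.getD j 0) s₁ ≠ s₁) || decide (tabRoot (tabs.getD j 0) s₂ ≠ s₂))

theorem pairOK_spec (T : FastDatum) (tabs simples : List ℕ) (cert : List (ℕ × ℕ))
    (h : pairOK T tabs simples cert = true) (i : ℕ) (hi : i < T.rank) (j : ℕ) (hj : j < T.rank) (hij : i ≠ j) :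
    ∃ s₁ s₂ : ℕ, (T.nroots / 2 ≤ s₁ ∧ s₁ < T.nroots) ∧ (T.nroots / 2 ≤ s₂ ∧ s₂ < T.nroots) ∧
      T.coroot s₁ i ≠ 0 ∧ T.coroot s₂ i ≠ 0 ∧
      (∀ l < T.rank, T.cartan l s₁ = T.cartan l s₂ + T.cartan l (simples.getD j 0)) ∧
      (tabRoot (tabs.getD j 0) s₁ ≠ s₁ ∨ tabRoot (tabs.getD j 0) s₂ ≠ s₂) := by
  unfold pairOK at h
  rw [List.all_eq_true] at h
  have h1 := h i (List.mem_range.mpr hi)
  rw [List.all_eq_true] at h1
  have h2 := h1 j (List.mem_range.mpr hj)
  rw [Bool.or_eq_true, decide_eq_true_eq, forceNat_eq, forceNat_eq] at h2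
  rcases h2 with h2 | h2
  · exact absurd h2 hij
  · simp only [Bool.and_eq_true, Bool.or_eq_true, decide_eq_true_eq, List.all_eq_true, List.mem_range] at h2
    obtain ⟨⟨⟨⟨⟨⟨⟨a1, a2⟩, a3⟩, a4⟩, a5⟩, a6⟩, a7⟩, a8⟩ := h2
    exact ⟨_, _, ⟨a1, a2⟩, ⟨a3, a4⟩, a5, a6, a7, a8⟩

end Cfsg.Agent.Lib.Helper61.ChevJ
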