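/-
helper61: the table checks of `ChevJ.Tab2` for type B2 (kernel computations).
-/
import Cfsg.Agent.Lib.Helper61.ChevJ.TabB2
import Cfsg.Agent.Lib.Helper61.ChevJ.Tab2

set_option autoImplicit false

namespace Cfsg.Agent.Lib.Helper61.ChevJ

open Cfsg.Lie Cfsg.Agent.Lib.Helper18

/-- The certificate of pairs of roots. -/
def pairCert_B2 : List (ℕ × ℕ) := [(0, 0), (6, 5), (6, 4), (0, 0)]

set_option maxRecDepth 1000000 in
theorem rcNegOK_B2 : rcNegOK fastB2 rcT_B2 = true := by decide +kernel

set_option maxRecDepth 1000000 in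
theorem reflHtOK_B2 : reflHtOK fastB2 wTabs_B2 rcT_B2 = true := by decide +kernel

set_option maxRecDepth 1000000 in
theorem pairOK_B2 : pairOK fastB2 wTabs_B2 simples_B2 pairCert_B2 = true := by decide +kernel

end Cfsg.Agent.Lib.Helper61.ChevJ
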