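/-
helper61: the table checks of `ChevJ.Tab2` for type D4 (kernel computations).
-/
import Cfsg.Agent.Lib.Helper61.ChevJ.TabD4
import Cfsg.Agent.Lib.Helper61.ChevJ.Tab2

set_option autoImplicit false

namespace Cfsg.Agent.Lib.Helper61.ChevJ

open Cfsg.Lie Cfsg.Agent.Lib.Helper18

/-- The certificate of pairs of roots. -/
def pairCert_D4 : List (ℕ × ℕ) :=
  [(0, 0), (19, 18), (21, 19), (20, 19), (19, 14), (0, 0), (16, 14), (15, 14), (21, 16), (16, 13), (0, 0),
    (17, 16), (20, 15), (15, 12), (17, 15), (0, 0)]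

set_option maxRecDepth 1000000 in
theorem rcNegOK_D4 : rcNegOK fastD4 rcT_D4 = true := by decide +kernel

set_option maxRecDepth 1000000 in
theorem reflHtOK_D4 : reflHtOK fastD4 wTabs_D4 rcT_D4 = true := by decide +kernel

set_option maxRecDepth 1000000 in
theorem pairOK_D4 : pairOK fastD4 wTabs_D4 simples_D4 pairCert_D4 = true := by decide +kernel

end Cfsg.Agent.Lib.Helper61.ChevJ
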