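/-
helper61: the table checks of `ChevJ.Tab2` for type E6 (kernel computations).
-/
import Cfsg.Agent.Lib.Helper61.ChevJ.TabE6
import Cfsg.Agent.Lib.Helper61.ChevJ.Tab2

set_option autoImplicit false

namespace Cfsg.Agent.Lib.Helper61.ChevJ

open Cfsg.Lie Cfsg.Agent.Lib.Helper18

/-- The certificate of pairs of roots. -/
def pairCert_E6 : List (ℕ × ℕ) :=
  [(0, 0), (61, 58), (57, 56), (58, 57), (59, 58), (60, 59), (61, 50), (0, 0), (50, 47), (47, 46), (48, 47),
    (49, 48), (57, 42), (50, 43), (0, 0), (43, 42), (44, 43), (45, 44), (58, 43), (47, 39), (43, 39), (0, 0),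
    (40, 39), (41, 40), (59, 44), (48, 40), (44, 40), (40, 37), (0, 0), (38, 37), (60, 45), (49, 41),
    (45, 41), (41, 38), (38, 36), (0, 0)]

set_option maxRecDepth 1000000 in
theorem rcNegOK_E6 : rcNegOK fastE6 rcT_E6 = true := by decide +kernel

set_option maxRecDepth 1000000 in
theorem reflHtOK_E6 : reflHtOK fastE6 wTabs_E6 rcT_E6 = true := by decide +kernel

set_option maxRecDepth 1000000 in
theorem pairOK_E6 : pairOK fastE6 wTabs_E6 simples_E6 pairCert_E6 = true := by decide +kernel

end Cfsg.Agent.Lib.Helper61.ChevJ
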