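/-
helper61: the table checks of `ChevJ.Tab2` for type E7 (kernel computations).
-/
import Cfsg.Agent.Lib.Helper61.ChevJ.TabE7
import Cfsg.Agent.Lib.Helper61.ChevJ.Tab2

set_option autoImplicit false

namespace Cfsg.Agent.Lib.Helper61.ChevJ

open Cfsg.Lie Cfsg.Agent.Lib.Helper18

/-- The certificate of pairs of roots. -/
def pairCert_E7 : List (ℕ × ℕ) :=
  [(0, 0), (99, 95), (94, 93), (95, 94), (96, 95), (97, 96), (98, 97), (99, 83), (0, 0), (83, 79), (79, 78),
    (80, 79), (81, 80), (82, 81), (94, 73), (83, 74), (0, 0), (74, 73), (75, 74), (76, 75), (77, 76),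
    (95, 74), (79, 69), (74, 69), (0, 0), (70, 69), (71, 70), (72, 71), (96, 75), (80, 70), (75, 70),
    (70, 66), (0, 0), (67, 66), (68, 67), (97, 76), (81, 71), (76, 71), (71, 67), (67, 64), (0, 0), (65, 64),
    (98, 77), (82, 72), (77, 72), (72, 68), (68, 65), (65, 63), (0, 0)]

set_option maxRecDepth 1000000 in
theorem rcNegOK_E7 : rcNegOK fastE7 rcT_E7 = true := by decide +kernel

set_option maxRecDepth 1000000 in
theorem reflHtOK_E7 : reflHtOK fastE7 wTabs_E7 rcT_E7 = true := by decide +kernel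

set_option maxRecDepth 1000000 in
theorem pairOK_E7 : pairOK fastE7 wTabs_E7 simples_E7 pairCert_E7 = true := by decide +kernel

end Cfsg.Agent.Lib.Helper61.ChevJ
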