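/-
helper61: the table checks of `ChevJ.Tab2` for type E8 (kernel computations).
-/
import Cfsg.Agent.Lib.Helper61.ChevJ.TabE8
import Cfsg.Agent.Lib.Helper61.ChevJ.Tab2

set_option autoImplicit false

namespace Cfsg.Agent.Lib.Helper61.ChevJ

open Cfsg.Lie Cfsg.Agent.Lib.Helper18

/-- The certificate of pairs of roots. -/
def pairCert_E8 : List (ℕ × ℕ) :=
  [(0, 0), (169, 164), (163, 162), (164, 163), (165, 164), (166, 165), (167, 166), (168, 167), (169, 147),
    (0, 0), (147, 142), (142, 141), (143, 142), (144, 143), (145, 144), (146, 145), (163, 135), (147, 136),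
    (0, 0), (136, 135), (137, 136), (138, 137), (139, 138), (140, 139), (164, 136), (142, 130), (136, 130),
    (0, 0), (131, 130), (132, 131), (133, 132), (134, 133), (165, 137), (143, 131), (137, 131), (131, 126),
    (0, 0), (127, 126), (128, 127), (129, 128), (166, 138), (144, 132), (138, 132), (132, 127), (127, 123),
    (0, 0), (124, 123), (125, 124), (167, 139), (145, 133), (139, 133), (133, 128), (128, 124), (124, 121),
    (0, 0), (122, 121), (168, 140), (146, 134), (140, 134), (134, 129), (129, 125), (125, 122), (122, 120),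
    (0, 0)]

set_option maxRecDepth 1000000 in
theorem rcNegOK_E8 : rcNegOK fastE8 rcT_E8 = true := by decide +kernel

set_option maxRecDepth 1000000 in
theorem reflHtOK_E8 : reflHtOK fastE8 wTabs_E8 rcT_E8 = true := by decide +kernel

set_option maxRecDepth 1000000 in
theorem pairOK_E8 : pairOK fastE8 wTabs_E8 simples_E8 pairCert_E8 = true := by decide +kernel

end Cfsg.Agent.Lib.Helper61.ChevJ
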