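/-
helper61: the table checks of `ChevJ.Tab2` for type F4 (kernel computations).
-/
import Cfsg.Agent.Lib.Helper61.ChevJ.TabF4
import Cfsg.Agent.Lib.Helper61.ChevJ.Tab2

set_option autoImplicit false

namespace Cfsg.Agent.Lib.Helper61.ChevJ

open Cfsg.Lie Cfsg.Agent.Lib.Helper18

/-- The certificate of pairs of roots. -/
def pairCert_F4 : List (ℕ × ℕ) :=
  [(0, 0), (34, 33), (35, 34), (36, 35), (34, 27), (0, 0), (28, 27), (29, 28), (35, 28), (28, 25), (0, 0),
    (26, 25), (36, 29), (29, 26), (26, 24), (0, 0)]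

set_option maxRecDepth 1000000 in
theorem rcNegOK_F4 : rcNegOK fastF4 rcT_F4 = true := by decide +kernel

set_option maxRecDepth 1000000 in
theorem reflHtOK_F4 : reflHtOK fastF4 wTabs_F4 rcT_F4 = true := by decide +kernel

set_option maxRecDepth 1000000 in
theorem pairOK_F4 : pairOK fastF4 wTabs_F4 simples_F4 pairCert_F4 = true := by decide +kernel

end Cfsg.Agent.Lib.Helper61.ChevJ
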