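/-
helper61: the table checks of `ChevJ.Tab2` for type G2 (kernel computations).
-/
import Cfsg.Agent.Lib.Helper61.ChevJ.TabG2
import Cfsg.Agent.Lib.Helper61.ChevJ.Tab2

set_option autoImplicit false

namespace Cfsg.Agent.Lib.Helper61.ChevJ

open Cfsg.Lie Cfsg.Agent.Lib.Helper18

/-- The certificate of pairs of roots. -/
def pairCert_G2 : List (ℕ × ℕ) := [(0, 0), (8, 7), (8, 6), (0, 0)]

set_option maxRecDepth 1000000 in
theorem rcNegOK_G2 : rcNegOK fastG2 rcT_G2 = true := by decide +kernel

set_option maxRecDepth 1000000 in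
theorem reflHtOK_G2 : reflHtOK fastG2 wTabs_G2 rcT_G2 = true := by decide +kernel

set_option maxRecDepth 1000000 in
theorem pairOK_G2 : pairOK fastG2 wTabs_G2 simples_G2 pairCert_G2 = true := by decide +kernel

end Cfsg.Agent.Lib.Helper61.ChevJ
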