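/-
helper61: the bundle `JData` extended by the table checks of `ChevJ.Tab2`, for each of the seven tabulated data.
-/
import Cfsg.Agent.Lib.Helper61.ChevJ.Data
import Cfsg.Agent.Lib.Helper61.ChevJ.Tab2G2
import Cfsg.Agent.Lib.Helper61.ChevJ.Tab2B2
import Cfsg.Agent.Lib.Helper61.ChevJ.Tab2D4
import Cfsg.Agent.Lib.Helper61.ChevJ.Tab2F4
import Cfsg.Agent.Lib.Helper61.ChevJ.Tab2E6
import Cfsg.Agent.Lib.Helper61.ChevJ.Tab2E7
import Cfsg.Agent.Lib.Helper61.ChevJ.Tab2E8

set_option autoImplicit false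

namespace Cfsg.Agent.Lib.Helper61.ChevJ

open Cfsg.Lie Cfsg.Agent.Lib.Helper18

/-- The bundle `JData` together with the checks of `ChevJ.Tab2`. -/
structure JData2.{u} (D : ChevalleyDatum) where
  X : JData.{u} D
  pcert : List (ℕ × ℕ)
  hneg : rcNegOK X.C.T X.rcT = true
  hrefl : reflHtOK X.C.T X.C.tabs X.rcT = true
  hpair : pairOK X.C.T X.C.tabs X.C.simples pcert = true

/-- The extended bundle for type G2. -/
def jData2_G2.{u} : JData2.{u} chevG2 where
  X := jData_G2
  pcert := pairCert_G2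
  hneg := rcNegOK_G2
  hrefl := reflHtOK_G2
  hpair := pairOK_G2

/-- The extended bundle for type B2. -/
def jData2_B2.{u} : JData2.{u} chevB2 where
  X := jData_B2
  pcert := pairCert_B2
  hneg := rcNegOK_B2
  hrefl := reflHtOK_B2
  hpair := pairOK_B2

/-- The extended bundle for type D4. -/
def jData2_D4.{u} : JData2.{u} chevD4 where
  X := jData_D4
  pcert := pairCert_D4
  hneg := rcNegOK_D4
  hrefl := reflHtOK_D4
  hpair := pairOK_D4

/-- The extended bundle for type F4. -/
def jData2_F4.{u} : JData2.{u} chevF4 where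
  X := jData_F4
  pcert := pairCert_F4
  hneg := rcNegOK_F4
  hrefl := reflHtOK_F4
  hpair := pairOK_F4

/-- The extended bundle for type E6. -/
def jData2_E6.{u} : JData2.{u} chevE6 where
  X := jData_E6
  pcert := pairCert_E6
  hneg := rcNegOK_E6
  hrefl := reflHtOK_E6
  hpair := pairOK_E6

/-- The extended bundle for type E7. -/
def jData2_E7.{u} : JData2.{u} chevE7 where
  X := jData_E7
  pcert := pairCert_E7
  hneg := rcNegOK_E7
  hrefl := reflHtOK_E7
  hpair := pairOK_E7

/-- The extended bundle for type E8. -/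
def jData2_E8.{u} : JData2.{u} chevE8 where
  X := jData_E8
  pcert := pairCert_E8
  hneg := rcNegOK_E8
  hrefl := reflHtOK_E8
  hpair := pairOK_E8

theorem nonempty_jData2.{u} (D : ChevalleyDatum)
    (hD : D ∈ [chevG2, chevB2, chevD4, chevF4, chevE6, chevE7, chevE8]) : Nonempty (JData2.{u} D) := by
  simp only [List.mem_cons, List.not_mem_nil, or_false] at hD
  rcases hD with rfl | rfl | rfl | rfl | rfl | rfl | rfl
  · exact ⟨jData2_G2⟩
  · exact ⟨jData2_B2⟩
  · exact ⟨jData2_D4⟩
  · exact ⟨jData2_F4⟩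
  · exact ⟨jData2_E6⟩
  · exact ⟨jData2_E7⟩
  · exact ⟨jData2_E8⟩

end Cfsg.Agent.Lib.Helper61.ChevJ
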