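/-
helper61: root subsystems `Φ_J` of the seven tabulated Chevalley data: consequences of the table checks of `ChevJ.Tab`
in terms of the Prelude's `InRootSub`.
-/
import Cfsg.Agent.Lib.Helper61.ChevJ.Data
import Cfsg.Agent.Lib.Helper18.BN6

set_option autoImplicit false

namespace Cfsg.Agent.Lib.Helper61.ChevJ

open Cfsg.Lie Cfsg.Agent.Lib.Helper18

universe u

variable {D : ChevalleyDatum}

namespace JData

variable (X : JData.{u} D)

include X

theorem coroot_eq (r : ℕ) (hr : r < D.nroots) (k : ℕ) (hk : k < D.rank) :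
    (D.coroot.getD r #[]).getD k 0 = X.C.T.coroot r k :=
  X.C.T.coroot_eq D X.C.hag r hr k hk

theorem inRootSub_iff (J : Set ℕ) (r : ℕ) :
    D.InRootSub J r ↔ r < D.nroots ∧ ∀ k < D.rank, k ∉ J → X.C.T.coroot r k = 0 := by
  unfold ChevalleyDatum.InRootSub
  constructor
  · rintro ⟨hr, h⟩
    exact ⟨hr, fun k hk hkJ => by rw [← X.coroot_eq r hr k hk]; exact h k hk hkJ⟩
  · rintro ⟨hr, h⟩
    exact ⟨hr, fun k hk hkJ => by rw [X.coroot_eq r hr k hk]; exact h k hk hkJ⟩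

/-- Every root of `Φ_J` is the image of a fundamental root of `J` under a word in the fundamental reflections of
`J`. -/
theorem exists_jword (J : Set ℕ) (r : ℕ) (hr : D.InRootSub J r) :
    ∃ (ws : List ℕ) (j : ℕ), (∀ i ∈ ws, i < D.rank ∧ i ∈ J) ∧ j < D.rank ∧ j ∈ J ∧
      wordRootF X.C.tabs ws (D.simple j) = r := by
  obtain ⟨hr1, hr2⟩ := (X.inRootSub_iff J r).mp hr
  have hn := X.C.nroots_eq
  have hl := X.C.rank_eq
  obtain ⟨ws, j, hws, hj, hjJ, hw⟩ := ChevJ.exists_jword X.C.T X.C.tabs X.C.simples X.cert X.C.spec X.hcert J r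
    (hn ▸ hr1) (fun k hk hkJ => hr2 k (hl ▸ hk) hkJ)
  refine ⟨ws, j, fun i hi => ⟨hl ▸ (hws i hi).1, (hws i hi).2⟩, hl ▸ hj, hjJ, ?_⟩
  rw [X.C.hsimple j (hl ▸ hj)]
  exact hw

theorem coroot_simple (j : ℕ) (hj : j < D.rank) (k : ℕ) (hk : k < D.rank) :
    X.C.T.coroot (D.simple j) k = if k = j then 1 else 0 := by
  have hl := X.C.rank_eq
  rw [X.C.hsimple j hj]
  exact corootOK_simple X.C.T X.C.tabs X.C.simples X.hcoroot j (hl.symm ▸ hj) k (hl.symm ▸ hk)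

theorem coroot_neg (r : ℕ) (hr : r < D.nroots) (k : ℕ) (hk : k < D.rank) :
    X.C.T.coroot (D.neg r) k = - X.C.T.coroot r k := by
  have hl := X.C.rank_eq
  have hn := X.C.nroots_eq
  rw [X.C.neg_eq r hr]
  exact corootOK_neg X.C.T X.C.tabs X.C.simples X.hcoroot r (hn.symm ▸ hr) k (hl.symm ▸ hk)

theorem coroot_w (i : ℕ) (hi : i < D.rank) (s : ℕ) (hs : s < D.nroots) (k : ℕ) (hk : k < D.rank)
    (hki : k ≠ i) : X.C.T.coroot (X.C.w i s) k = X.C.T.coroot s k := by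
  have hl := X.C.rank_eq
  have hn := X.C.nroots_eq
  exact corootOK_refl X.C.T X.C.tabs X.C.simples X.hcoroot i (hl.symm ▸ hi) s (hn.symm ▸ hs) k
    (hl.symm ▸ hk) hki

theorem neg_lt (r : ℕ) (hr : r < D.nroots) : D.neg r < D.nroots := by
  rw [X.C.neg_eq r hr]
  have hn := X.C.nroots_eq
  unfold FastDatum.neg
  omega

theorem inRootSub_simple (J : Set ℕ) (j : ℕ) (hj : j < D.rank) (hjJ : j ∈ J) :
    D.InRootSub J (D.simple j) := by
  rw [X.inRootSub_iff]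
  refine ⟨X.C.simple_lt j hj, fun k hk hkJ => ?_⟩
  rw [X.coroot_simple j hj k hk, if_neg]
  rintro rfl
  exact hkJ hjJ

theorem not_inRootSub_simple (J : Set ℕ) (j : ℕ) (hj : j < D.rank) (hjJ : j ∉ J) :
    ¬ D.InRootSub J (D.simple j) := by
  rw [X.inRootSub_iff]
  rintro ⟨-, h⟩
  have := h j hj hjJ
  rw [X.coroot_simple j hj j hj, if_pos rfl] at this
  exact one_ne_zero this

theorem inRootSub_neg (J : Set ℕ) (r : ℕ) (h : D.InRootSub J r) : D.InRootSub J (D.neg r) := by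
  rw [X.inRootSub_iff] at h ⊢
  obtain ⟨hr, h⟩ := h
  refine ⟨X.neg_lt r hr, fun k hk hkJ => ?_⟩
  rw [X.coroot_neg r hr k hk, h k hk hkJ, neg_zero]

theorem inRootSub_w (J : Set ℕ) (i : ℕ) (hi : i < D.rank) (hiJ : i ∈ J) (s : ℕ) (hs : s < D.nroots) :
    D.InRootSub J (X.C.w i s) ↔ D.InRootSub J s := by
  rw [X.inRootSub_iff, X.inRootSub_iff]
  have hne : ∀ k, k ∉ J → k ≠ i := by
    rintro k hk rfl
    exact hk hiJ
  constructor
  · rintro ⟨-, h⟩
    exact ⟨hs, fun k hk hkJ => by rw [← X.coroot_w i hi s hs k hk (hne k hkJ)]; exact h k hk hkJ⟩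
  · rintro ⟨-, h⟩
    exact ⟨X.C.w_lt i s hi hs, fun k hk hkJ => by rw [X.coroot_w i hi s hs k hk (hne k hkJ)]; exact h k hk hkJ⟩

end JData

end Cfsg.Agent.Lib.Helper61.ChevJ
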