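/-
helper61: the grading of the module of a Chevalley datum by the root lattice modulo the span of the fundamental roots of
`J`: the Levi subgroup `L_J` consists of block diagonal matrices, the elements of `U_J` are strictly block upper
unitriangular; hence `U_J ∩ L_J = 1`.
-/
import Cfsg.Agent.Lib.Helper61.ChevJ.Basic
import Cfsg.Agent.S1034
import Cfsg.Agent.Lib.Helper17.ChevUnipotent

set_option autoImplicit false

namespace Cfsg.Agent.Lib.Helper61.ChevJ

open Cfsg.Lie Cfsg.Agent.Lib.Helper18 Matrix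

universe u

variable {F : Type u} [Field F] {D : ChevalleyDatum}

namespace JData

variable (X : JData.{u} D)

include X

open Classical

/-- The degree of the root `r`: the sum of its coefficients at the fundamental roots outside `J`. -/
noncomputable def lvlR (J : Set ℕ) (r : ℕ) : ℤ :=
  ∑ k ∈ (Finset.range D.rank).filter (fun k => k ∉ J), rcAt X.rcT X.C.T.rank r k

/-- The degree of a coordinate. -/
noncomputable def lvl (J : Set ℕ) (a : D.Idx) : ℤ :=
  ∑ k ∈ (Finset.range D.rank).filter (fun k => k ∉ J), lvC X.rcT X.C.T.rank (code D a) k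

/-- A non-zero entry of `x_r(t)` comes from an entry of the skeleton of the column. -/
theorem exists_skel_of_ne_zero (r : ℕ) (hr : r < D.nroots) (t : F) (a b : D.Idx)
    (h : D.x F r t a b ≠ 0) : ∃ e ∈ X.C.T.skelF r (code D b), e.1 = code D a := by
  by_contra hcon
  push Not at hcon
  apply h
  have hx : D.x F r t = D.xMat F ⟨r, hr⟩ t := by
    unfold ChevalleyDatum.x
    rw [dif_pos hr]
  rw [hx]
  have h1 := evVec_colX D (fun _ => t) ⟨r, hr⟩ (varPoly 0) b a
  rw [evPoly_varPoly] at h1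
  rw [← h1, ← congrFun (evVec_instSkel_skelD D (fun _ => t) r (varPoly 0) (code D b)) a,
    ← X.C.T.skelF_eq_skelD D X.C.hag r hr]
  apply evVec_eq_zero_of_forall
  intro e he
  unfold instSkel at he
  rw [List.mem_map] at he
  obtain ⟨x, hx, rfl⟩ := he
  exact hcon x hx

/-- A non-zero entry of `x_r(t)` at `(a, b)`: the degree of `a` is the degree of `b` plus a multiple of the degree of
`r`, the multiple being non-zero off the diagonal. -/
theorem lvl_of_entry (J : Set ℕ) (r : ℕ) (hr : r < D.nroots) (t : F) (a b : D.Idx)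
    (h : D.x F r t a b ≠ 0) :
    ∃ m : ℕ, X.lvl J a = X.lvl J b + (m : ℤ) * X.lvlR J r ∧ (m = 0 → a = b) := by
  obtain ⟨e, he, hea⟩ := X.exists_skel_of_ne_zero r hr t a b h
  have hn := X.C.nroots_eq
  have hl := X.C.rank_eq
  have hc : code D b ∈ X.C.T.allCodesF := by
    rw [X.C.T.allCodesF_eq D X.C.hag]
    exact mem_allCodes D b
  obtain ⟨h0, hk⟩ := gradeAt_entry X.C.T X.rcT r (X.hgrade r (hn.symm ▸ hr)) (code D b) hc e he
  refine ⟨e.2.2, ?_, fun hm => code_injective D (hea.symm.trans (h0 hm))⟩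
  unfold lvl lvlR
  rw [Finset.mul_sum, ← Finset.sum_add_distrib]
  apply Finset.sum_congr rfl
  intro k hk'
  rw [Finset.mem_filter, Finset.mem_range] at hk'
  rw [← hea]
  exact hk k (hl.symm ▸ hk'.1)

theorem lvlR_eq_zero (J : Set ℕ) (r : ℕ) (hr : D.InRootSub J r) : X.lvlR J r = 0 := by
  obtain ⟨hr1, hr2⟩ := (X.inRootSub_iff J r).mp hr
  have hn := X.C.nroots_eq
  have hl := X.C.rank_eq
  unfold lvlR
  apply Finset.sum_eq_zero
  intro k hk
  rw [Finset.mem_filter, Finset.mem_range] at hk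
  exact ((rcSignOK_spec X.C.T X.rcT X.hsign r (hn.symm ▸ hr1) k (hl.symm ▸ hk.1)).1).mpr (hr2 k hk.1 hk.2)

theorem coroot_nonneg (r : ℕ) (hr : D.IsPosRoot r) (k : ℕ) (hk : k < D.rank) : 0 ≤ X.C.T.coroot r k := by
  rw [← X.coroot_eq r hr.1 k hk]
  have h2 := hr.2
  have h1 : (D.coroot.getD r #[]).getD k 0 = (D.coroot.getD r #[]).toList.getD k 0 := by
    simp [Array.getD_eq_getD_getElem?, List.getD_eq_getElem?_getD]
  rw [h1]
  generalize (D.coroot.getD r #[]).toList = l at h2 ⊢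
  by_cases hks : k < l.length
  · rw [List.getD_eq_getElem l 0 hks]
    exact h2 _ (List.getElem_mem hks)
  · rw [List.getD_eq_default l 0 (by omega)]

theorem lvlR_pos (J : Set ℕ) (r : ℕ) (hr : D.IsPosRoot r) (hnot : ¬ D.InRootSub J r) : 0 < X.lvlR J r := by
  have hn := X.C.nroots_eq
  have hl := X.C.rank_eq
  have hnn : ∀ k < D.rank, 0 ≤ rcAt X.rcT X.C.T.rank r k := by
    intro k hk
    have hs := rcSignOK_spec X.C.T X.rcT X.hsign r (hn.symm ▸ hr.1) k (hl.symm ▸ hk)
    rcases (X.coroot_nonneg r hr k hk).lt_or_eq with h | h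
    · exact le_of_lt (hs.2.mpr h)
    · exact le_of_eq (hs.1.mpr h.symm).symm
  rw [X.inRootSub_iff] at hnot
  push Not at hnot
  obtain ⟨k, hk, hkJ, hne⟩ := hnot hr.1
  unfold lvlR
  apply Finset.sum_pos'
  · intro i hi
    rw [Finset.mem_filter, Finset.mem_range] at hi
    exact hnn i hi.1
  · refine ⟨k, ?_, ?_⟩
    · rw [Finset.mem_filter, Finset.mem_range]
      exact ⟨hk, hkJ⟩
    · have hs := rcSignOK_spec X.C.T X.rcT X.hsign r (hn.symm ▸ hr.1) k (hl.symm ▸ hk)
      rcases (hnn k hk).lt_or_eq with h | h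
      · exact h
      · exact absurd (hs.1.mp h.symm) hne

/-! ### Block diagonal matrices -/

/-- Block diagonal matrices for the grading. -/
def IsBD (J : Set ℕ) (M : Matrix D.Idx D.Idx F) : Prop := ∀ a b, M a b ≠ 0 → X.lvl J a = X.lvl J b

theorem isBD_one (J : Set ℕ) : X.IsBD J (1 : Matrix D.Idx D.Idx F) := by
  intro a b h
  by_cases hab : a = b
  · rw [hab]
  · exact absurd (Matrix.one_apply_ne hab) h

theorem isBD_mul (J : Set ℕ) (M N : Matrix D.Idx D.Idx F) (hM : X.IsBD J M) (hN : X.IsBD J N) :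
    X.IsBD J (M * N) := by
  intro a b h
  rw [Matrix.mul_apply] at h
  obtain ⟨c, -, hc⟩ := Finset.exists_ne_zero_of_sum_ne_zero h
  have h1 : M a c ≠ 0 := left_ne_zero_of_mul hc
  have h2 : N c b ≠ 0 := right_ne_zero_of_mul hc
  rw [hM a c h1, hN c b h2]

theorem isBD_diagonal (J : Set ℕ) (d : D.Idx → F) : X.IsBD J (Matrix.diagonal d) := by
  intro a b h
  by_cases hab : a = b
  · rw [hab]
  · exact absurd (Matrix.diagonal_apply_ne d hab) h

/-- The group of the invertible block diagonal matrices. -/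
def bdSubgroup (J : Set ℕ) : Subgroup (GL D.Idx F) where
  carrier := {g | X.IsBD J (g : Matrix D.Idx D.Idx F) ∧ X.IsBD J ((g⁻¹ : GL D.Idx F) : Matrix D.Idx D.Idx F)}
  mul_mem' := by
    rintro g h ⟨hg1, hg2⟩ ⟨hh1, hh2⟩
    refine ⟨?_, ?_⟩
    · rw [Units.val_mul]
      exact X.isBD_mul J _ _ hg1 hh1
    · rw [_root_.mul_inv_rev, Units.val_mul]
      exact X.isBD_mul J _ _ hh2 hg2
  one_mem' := by
    refine ⟨?_, ?_⟩
    · rw [Units.val_one]
      exact X.isBD_one J
    · rw [inv_one, Units.val_one]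
      exact X.isBD_one J
  inv_mem' := by
    rintro g ⟨hg1, hg2⟩
    exact ⟨hg2, by rw [inv_inv]; exact hg1⟩

theorem x_isBD (J : Set ℕ) (r : ℕ) (hr : D.InRootSub J r) (t : F) : X.IsBD J (D.x F r t) := by
  intro a b h
  obtain ⟨m, hm, -⟩ := X.lvl_of_entry J r hr.1 t a b h
  rw [hm, X.lvlR_eq_zero J r hr, mul_zero, add_zero]

theorem xG_mem_bd (hD : D ∈ [chevG2, chevB2, chevD4, chevF4, chevE6, chevE7, chevE8]) (J : Set ℕ) (r : ℕ)
    (hr : D.InRootSub J r) (t : F) : xG hD r t ∈ X.bdSubgroup (F := F) J := by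
  refine ⟨?_, ?_⟩
  · rw [coe_xG]
    exact X.x_isBD J r hr t
  · rw [xG_inv, coe_xG]
    exact X.x_isBD J r hr (-t)

theorem diagonal_le_bd (hD : D ∈ [chevG2, chevB2, chevD4, chevF4, chevE6, chevE7, chevE8]) (J : Set ℕ) :
    D.diagonalSubgroup F ≤ X.bdSubgroup (F := F) J := by
  intro h hh
  refine ⟨?_, ?_⟩
  · obtain ⟨c, -, hc⟩ := Cfsg.Agent.S1034.mem_diagonalSubgroup_torus D hD h hh
    rw [hc]
    exact X.isBD_diagonal J _
  · obtain ⟨c, -, hc⟩ := Cfsg.Agent.S1034.mem_diagonalSubgroup_torus D hD h⁻¹ (inv_mem hh)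
    rw [hc]
    exact X.isBD_diagonal J _

theorem levi_le_bd (hD : D ∈ [chevG2, chevB2, chevD4, chevF4, chevE6, chevE7, chevE8]) (J : Set ℕ) :
    D.leviSubgroup F J ≤ X.bdSubgroup (F := F) J := by
  unfold ChevalleyDatum.leviSubgroup
  refine sup_le (X.diagonal_le_bd hD J) ?_
  rw [Subgroup.closure_le]
  rintro g ⟨r, t, hr, hg⟩
  rw [eq_xG hD g r t hg]
  exact X.xG_mem_bd hD J r hr t

/-! ### Strictly block upper triangular matrices -/

/-- Matrices raising the degree strictly. -/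
def IsSU (J : Set ℕ) (M : Matrix D.Idx D.Idx F) : Prop := ∀ a b, X.lvl J a ≤ X.lvl J b → M a b = 0

theorem isSU_zero (J : Set ℕ) : X.IsSU J (0 : Matrix D.Idx D.Idx F) := fun _ _ _ => rfl

theorem isSU_add (J : Set ℕ) (M N : Matrix D.Idx D.Idx F) (hM : X.IsSU J M) (hN : X.IsSU J N) :
    X.IsSU J (M + N) := by
  intro a b h
  rw [Matrix.add_apply, hM a b h, hN a b h, add_zero]

theorem isSU_mul (J : Set ℕ) (M N : Matrix D.Idx D.Idx F) (hM : X.IsSU J M) (hN : X.IsSU J N) :
    X.IsSU J (M * N) := by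
  intro a b h
  rw [Matrix.mul_apply]
  apply Finset.sum_eq_zero
  intro c _
  by_cases h1 : X.lvl J a ≤ X.lvl J c
  · rw [hM a c h1, zero_mul]
  · have h2 : X.lvl J c ≤ X.lvl J b := by
      push Not at h1
      exact le_trans (le_of_lt h1) h
    rw [hN c b h2, mul_zero]

theorem isSU_mul_sub_one (J : Set ℕ) (g h : Matrix D.Idx D.Idx F) (hg : X.IsSU J (g - 1))
    (hh : X.IsSU J (h - 1)) : X.IsSU J (g * h - 1) := by
  have e : g * h - 1 = (g - 1) * (h - 1) + ((g - 1) + (h - 1)) := by noncomm_ring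
  rw [e]
  exact X.isSU_add J _ _ (X.isSU_mul J _ _ hg hh) (X.isSU_add J _ _ hg hh)

theorem x_isSU (hD : D ∈ [chevG2, chevB2, chevD4, chevF4, chevE6, chevE7, chevE8]) (J : Set ℕ) (r : ℕ)
    (hr : D.IsPosRoot r) (hnot : ¬ D.InRootSub J r) (t : F) : X.IsSU J (D.x F r t - 1) := by
  intro a b hab
  rw [Matrix.sub_apply, sub_eq_zero]
  by_cases heq : a = b
  · subst heq
    rw [Matrix.one_apply_eq]
    have hmem : xG hD r t ∈ Cfsg.Agent.Lib.Helper17.chevUT D F :=
      Cfsg.Agent.Lib.Helper17.posUnipotent_le_chevUT (Cfsg.Agent.Lib.Helper17.posOK_of_mem D hD)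
        (xG_mem_posUnipotent hD r t hr)
    have hd : Cfsg.Agent.Lib.Helper17.Depth (Cfsg.Agent.Lib.Helper17.chevWeight D) 1
        ((xG hD r t : Matrix D.Idx D.Idx F) - 1) := Cfsg.Agent.Lib.Helper17.mem_UT.mp hmem
    have := hd a a (Nat.lt_succ_self _)
    rw [coe_xG, Matrix.sub_apply, Matrix.one_apply_eq, sub_eq_zero] at this
    exact this
  · rw [Matrix.one_apply_ne heq]
    by_contra hne
    obtain ⟨m, hm, hm0⟩ := X.lvl_of_entry J r hr.1 t a b hne
    have hpos := X.lvlR_pos J r hr hnot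
    have hm1 : 1 ≤ m := by
      rcases Nat.eq_zero_or_pos m with h0 | h0
      · exact absurd (hm0 h0) heq
      · exact h0
    have : X.lvl J b < X.lvl J a := by
      rw [hm]
      have : (0 : ℤ) < (m : ℤ) * X.lvlR J r := mul_pos (by exact_mod_cast hm1) hpos
      linarith
    exact absurd hab (not_le.mpr this)

theorem isSU_of_mem_unipotentRadical (hD : D ∈ [chevG2, chevB2, chevD4, chevF4, chevE6, chevE7, chevE8])
    (J : Set ℕ) (g : GL D.Idx F) (hg : g ∈ D.unipotentRadical F J) :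
    X.IsSU J ((g : Matrix D.Idx D.Idx F) - 1) := by
  unfold ChevalleyDatum.unipotentRadical at hg
  induction hg using Subgroup.closure_induction'' with
  | mem x hx =>
    obtain ⟨r, t, hr, hnot, hx⟩ := hx
    rw [hx]
    exact X.x_isSU hD J r hr hnot t
  | inv_mem x hx =>
    obtain ⟨r, t, hr, hnot, hx⟩ := hx
    rw [eq_xG hD x r t hx, xG_inv, coe_xG]
    exact X.x_isSU hD J r hr hnot (-t)
  | one =>
    rw [Units.val_one, sub_self]
    exact X.isSU_zero J
  | mul x y _ _ hx hy =>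
    rw [Units.val_mul]
    exact X.isSU_mul_sub_one J _ _ hx hy

/-- `U_J ∩ L_J = 1`. -/
theorem unipotentRadical_inf_levi (hD : D ∈ [chevG2, chevB2, chevD4, chevF4, chevE6, chevE7, chevE8])
    (J : Set ℕ) : D.unipotentRadical F J ⊓ D.leviSubgroup F J = ⊥ := by
  rw [eq_bot_iff]
  intro g hg
  rw [Subgroup.mem_inf] at hg
  have h1 := X.isSU_of_mem_unipotentRadical hD J g hg.1
  have h2 := (X.levi_le_bd hD J hg.2).1
  rw [Subgroup.mem_bot]
  apply Units.ext
  rw [Units.val_one]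
  ext a b
  by_cases hab : a = b
  · subst hab
    have := h1 a a le_rfl
    rw [Matrix.sub_apply, sub_eq_zero] at this
    exact this
  · rw [Matrix.one_apply_ne hab]
    by_contra hne
    have hl := h2 a b hne
    have := h1 a b (le_of_eq hl)
    rw [Matrix.sub_apply, Matrix.one_apply_ne hab, sub_zero] at this
    exact hne this

end JData

end Cfsg.Agent.Lib.Helper61.ChevJ
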