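/-
helper61: the standard parabolic subgroup `P_J` normalises `U_J` (seven tabulated Chevalley data).
-/
import Cfsg.Agent.Lib.Helper61.ChevJ.Basic
import Cfsg.Agent.S1036

set_option autoImplicit false

namespace Cfsg.Agent.Lib.Helper61.ChevJ

open Cfsg.Lie Cfsg.Agent.Lib.Helper18

universe u

variable {F : Type u} [Field F] {D : ChevalleyDatum}

/-- An element conjugating, together with its inverse, a generating set into the subgroup generated normalises that
subgroup. -/
theorem mem_normalizer_closure_of_conj {G : Type*} [Group G] (T : Set G) (g : G)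
    (h1 : ∀ x ∈ T, g * x * g⁻¹ ∈ Subgroup.closure T) (h2 : ∀ x ∈ T, g⁻¹ * x * g ∈ Subgroup.closure T) :
    g ∈ Subgroup.normalizer (Subgroup.closure T : Set G) := by
  have key : ∀ k : G, (∀ x ∈ T, k * x * k⁻¹ ∈ Subgroup.closure T) →
      ∀ n ∈ Subgroup.closure T, k * n * k⁻¹ ∈ Subgroup.closure T := by
    intro k hk n hn
    have hle : Subgroup.closure T ≤ (Subgroup.closure T).comap (MulAut.conj k).toMonoidHom := by
      rw [Subgroup.closure_le]
      intro x hx
      exact hk x hx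
    exact hle hn
  rw [Subgroup.mem_normalizer_iff]
  intro n
  constructor
  · exact key g h1 n
  · intro hn
    have h3 : ∀ x ∈ T, g⁻¹ * x * g⁻¹⁻¹ ∈ Subgroup.closure T := by
      intro x hx
      rw [inv_inv]
      exact h2 x hx
    have := key g⁻¹ h3 _ hn
    have e : g⁻¹ * (g * n * g⁻¹) * g⁻¹⁻¹ = n := by group
    rwa [e] at this

/-- The generating set of `U_J`. -/
def UJSet (D : ChevalleyDatum) (F : Type u) [Field F] (J : Set ℕ) : Set (GL D.Idx F) :=
  {g : GL D.Idx F | ∃ (r : ℕ) (t : F), D.IsPosRoot r ∧ ¬ D.InRootSub J r ∧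
    (g : Matrix D.Idx D.Idx F) = D.x F r t}

theorem unipotentRadical_eq (J : Set ℕ) : D.unipotentRadical F J = Subgroup.closure (UJSet D F J) := rfl

theorem xG_mem_UJ (hD : D ∈ [chevG2, chevB2, chevD4, chevF4, chevE6, chevE7, chevE8]) (J : Set ℕ) (s : ℕ)
    (t : F) (hs : D.IsPosRoot s) (hnot : ¬ D.InRootSub J s) : xG hD s t ∈ D.unipotentRadical F J :=
  Subgroup.subset_closure ⟨s, t, hs, hnot, rfl⟩

theorem unipotentRadical_le_posUnipotent (J : Set ℕ) : D.unipotentRadical F J ≤ D.posUnipotent F := by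
  unfold ChevalleyDatum.unipotentRadical ChevalleyDatum.posUnipotent
  apply Subgroup.closure_mono
  rintro g ⟨r, t, hr, -, hg⟩
  exact ⟨r, t, hr, hg⟩

/-- A word all of whose roots are positive and outside `Φ_J` is in `U_J`. -/
theorem exists_mem_UJ_wordMat (hD : D ∈ [chevG2, chevB2, chevD4, chevF4, chevE6, chevE7, chevE8]) (J : Set ℕ)
    (L : List (ℕ × F)) (hL : ∀ a ∈ L, D.IsPosRoot a.1 ∧ ¬ D.InRootSub J a.1) :
    ∃ g ∈ D.unipotentRadical F J, (g : Matrix D.Idx D.Idx F) = D.wordMat F L := by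
  induction L with
  | nil => exact ⟨1, one_mem _, by simp [ChevalleyDatum.wordMat]⟩
  | cons a L ih =>
    obtain ⟨g, hg, hgm⟩ := ih fun b hb => hL b (List.mem_cons_of_mem _ hb)
    refine ⟨xG hD a.1 a.2 * g, mul_mem (xG_mem_UJ hD J a.1 a.2 (hL a List.mem_cons_self).1
      (hL a List.mem_cons_self).2) hg, ?_⟩
    rw [Units.val_mul, hgm, coe_xG, wordMat_cons']

/-- Conjugation of a generator of `U_J` by a positive root element stays in `U_J`. -/
theorem xG_conj_mem_UJ (hD : D ∈ [chevG2, chevB2, chevD4, chevF4, chevE6, chevE7, chevE8]) (X : JData.{u} D)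
    (J : Set ℕ) (r : ℕ) (hr : D.IsPosRoot r) (t : F) (g : GL D.Idx F) (hg : g ∈ UJSet D F J) :
    xG hD r t * g * (xG hD r t)⁻¹ ∈ D.unipotentRadical F J := by
  obtain ⟨s, u, hs, hnot, hgs⟩ := hg
  have hgs' : g = xG hD s u := Units.ext hgs
  by_cases hsr : s = r
  · subst hsr
    have e : xG hD s t * g * (xG hD s t)⁻¹ = xG hD s u := by
      rw [hgs', xG_inv, xG_mul, xG_mul]
      congr 1
      ring
    rw [e]
    exact xG_mem_UJ hD J s u hs hnot
  · have hrp := (isPosRoot_iff hD r).mp hr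
    have hsp := (isPosRoot_iff hD s).mp hs
    have hn := X.C.nroots_eq
    have hl := X.C.rank_eq
    have hev := X.C.heven
    have hsn : s ≠ X.C.T.neg r := by
      unfold FastDatum.neg
      omega
    have hcomm := X.C.comm F r s hrp.1 hsp.1 hsr hsn (-t) u
    have hterms : ∀ a ∈ D.commWord F r s (-t) u, D.IsPosRoot a.1 ∧ ¬ D.InRootSub J a.1 := by
      intro a ha
      unfold ChevalleyDatum.commWord at ha
      rw [List.mem_map] at ha
      obtain ⟨c, hc, rfl⟩ := ha
      rw [← X.C.T.commTermsF_eq D X.C.hag X.C.hin r s hrp.1 hsp.1] at hc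
      obtain ⟨k1, k2, k3⟩ := commSuppOK_spec X.C.T X.hsupp hev r s (hn ▸ hrp.2) (hn ▸ hrp.1)
        (hn ▸ hsp.2) (hn ▸ hsp.1) hsr c hc
      rw [hn] at k1 k2
      refine ⟨(isPosRoot_iff hD c.1).mpr ⟨k2, k1⟩, ?_⟩
      intro hin
      apply hnot
      rw [X.inRootSub_iff] at hin ⊢
      refine ⟨hsp.1, fun k hk hkJ => ?_⟩
      by_contra hne
      exact k3 k (hl.symm ▸ hk) hne (hin.2 k hk hkJ)
    obtain ⟨wg, hwg, hwgm⟩ := exists_mem_UJ_wordMat hD J _ hterms
    have e : xG hD r t * g * (xG hD r t)⁻¹ = xG hD s u * wg := by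
      rw [hgs', xG_inv]
      apply Units.ext
      rw [Units.val_mul, Units.val_mul, Units.val_mul, coe_xG, coe_xG, coe_xG, hwgm, mul_assoc, hcomm,
        ← mul_assoc, ← mul_assoc, x_add' hD, add_neg_cancel, x_zero hD, one_mul]
    rw [e]
    exact mul_mem (xG_mem_UJ hD J s u hs hnot) hwg

/-- Conjugation of a generator of `U_J` by an element of `H` is a generator of `U_J`. -/
theorem diag_conj_mem_UJ (hD : D ∈ [chevG2, chevB2, chevD4, chevF4, chevE6, chevE7, chevE8]) (J : Set ℕ)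
    (h : GL D.Idx F) (hh : h ∈ D.diagonalSubgroup F) (g : GL D.Idx F) (hg : g ∈ UJSet D F J) :
    h * g * h⁻¹ ∈ D.unipotentRadical F J := by
  obtain ⟨s, u, hs, hnot, hgs⟩ := hg
  obtain ⟨t', ht'⟩ := Cfsg.Agent.S1036.conj_root_elem D hD h hh g s hs.1 u hgs
  exact Subgroup.subset_closure ⟨s, t', hs, hnot, ht'⟩

/-- The image under a fundamental reflection of `J` of a positive root outside `Φ_J` is such a root. -/
theorem w_pos_not_inRootSub (hD : D ∈ [chevG2, chevB2, chevD4, chevF4, chevE6, chevE7, chevE8])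
    (X : JData.{u} D) (J : Set ℕ) (i : ℕ) (hi : i < D.rank) (hiJ : i ∈ J) (s : ℕ) (hs : D.IsPosRoot s)
    (hnot : ¬ D.InRootSub J s) : D.IsPosRoot (X.C.w i s) ∧ ¬ D.InRootSub J (X.C.w i s) := by
  have hsp := (isPosRoot_iff hD s).mp hs
  have hn := X.C.nroots_eq
  have hl := X.C.rank_eq
  have hne : s ≠ X.C.simples.getD i 0 := by
    rw [← X.C.hsimple i hi]
    rintro rfl
    exact hnot (X.inRootSub_simple J i hi hiJ)
  have h1 := X.C.spec.refl_pos i (hl.symm ▸ hi) s (hn.symm ▸ hsp.2) (hn.symm ▸ hsp.1) hne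
  rw [hn] at h1
  refine ⟨(isPosRoot_iff hD _).mpr ⟨X.C.w_lt i s hi hsp.1, h1.1⟩, ?_⟩
  rw [X.inRootSub_w J i hi hiJ s hsp.1]
  exact hnot

/-- Conjugation of a generator of `U_J` by `n_{p_i}(1)`, `i ∈ J`, is a generator of `U_J`. -/
theorem sG_conj_mem_UJ (hD : D ∈ [chevG2, chevB2, chevD4, chevF4, chevE6, chevE7, chevE8]) (X : JData.{u} D)
    (J : Set ℕ) (i : ℕ) (hi : i < D.rank) (hiJ : i ∈ J) (g : GL D.Idx F) (hg : g ∈ UJSet D F J) :
    sG hD X.C i * g * (sG hD X.C i)⁻¹ ∈ D.unipotentRadical F J ∧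
      (sG hD X.C i)⁻¹ * g * sG hD X.C i ∈ D.unipotentRadical F J := by
  obtain ⟨s, u, hs, hnot, hgs⟩ := hg
  have hgs' : g = xG hD s u := Units.ext hgs
  obtain ⟨hw1, hw2⟩ := w_pos_not_inRootSub hD X J i hi hiJ s hs hnot
  rw [hgs', sG_of_lt hD X.C i hi]
  constructor
  · rw [nG_conj_xG hD X.C i s hi hs.1]
    exact xG_mem_UJ hD J _ _ hw1 hw2
  · rw [nG_inv_conj_xG hD X.C i s hi hs.1]
    exact xG_mem_UJ hD J _ _ hw1 hw2

/-- `P_J` normalises `U_J`. -/
theorem parabolic_le_normalizer (hD : D ∈ [chevG2, chevB2, chevD4, chevF4, chevE6, chevE7, chevE8])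
    (X : JData.{u} D) (J : Set ℕ) :
    D.parabolicSubgroup F J ≤ Subgroup.normalizer (D.unipotentRadical F J : Set (GL D.Idx F)) := by
  rw [unipotentRadical_eq]
  unfold ChevalleyDatum.parabolicSubgroup ChevalleyDatum.borelSubgroup
  refine sup_le (sup_le ?_ ?_) ?_
  · unfold ChevalleyDatum.posUnipotent
    rw [Subgroup.closure_le]
    rintro g ⟨r, t, hr, hg⟩
    rw [eq_xG hD g r t hg]
    apply mem_normalizer_closure_of_conj
    · intro x hx
      exact xG_conj_mem_UJ hD X J r hr t x hx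
    · intro x hx
      have := xG_conj_mem_UJ hD X J r hr (-t) x hx
      rw [← xG_inv, inv_inv] at this
      exact this
  · intro h hh
    apply mem_normalizer_closure_of_conj
    · intro x hx
      exact diag_conj_mem_UJ hD J h hh x hx
    · intro x hx
      have := diag_conj_mem_UJ hD J h⁻¹ (inv_mem hh) x hx
      rw [inv_inv] at this
      exact this
  · rw [Subgroup.closure_le]
    rintro g ⟨j, hjJ, hj, hg⟩
    have hg' : g = sG hD X.C j := Units.ext (by rw [hg, coe_sG hD X.C j hj])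
    rw [hg']
    apply mem_normalizer_closure_of_conj
    · intro x hx
      exact (sG_conj_mem_UJ hD X J j hj hjJ x hx).1
    · intro x hx
      exact (sG_conj_mem_UJ hD X J j hj hjJ x hx).2

end Cfsg.Agent.Lib.Helper61.ChevJ
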