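/-
helper61: matrices raising the degree (for the grading of `ChevJ.Grade`) by at least `d`.  Conjugation by an element of
`U` does not change the leading part of a root element; hence `u x_s(a) u⁻¹ = x_{s'}(b)` with `s`, `s'` positive roots
of different heights forces `a = 0`, and `u x_s(a) u⁻¹ = x_s(b)` forces `a = b`.
-/
import Cfsg.Agent.Lib.Helper61.ChevJ.Grade
import Cfsg.Agent.Lib.Helper61.ChevJ.Norm
import Cfsg.Agent.Lib.Helper61.ChevJ.Data2
import Cfsg.Agent.Lib.Helper18.UFactTabs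

set_option autoImplicit false

namespace Cfsg.Agent.Lib.Helper61.ChevJ

open Cfsg.Lie Cfsg.Agent.Lib.Helper18 Matrix

universe u

variable {F : Type u} [Field F] {D : ChevalleyDatum}

/-- The coordinates of a positive coroot generate the unit ideal: a scalar killed by all of them is zero. -/
theorem eq_zero_of_coroot_mul (hD : D ∈ [chevG2, chevB2, chevD4, chevF4, chevE6, chevE7, chevE8]) (s : ℕ)
    (hs : D.IsPosRoot s) (c : F)
    (key : ∀ i : Fin D.rank, (((D.coroot.getD s #[]).getD i.val 0 : ℤ) : F) * c = 0) : c = 0 := by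
  have hs2 := ((isPosRoot_iff hD s).mp hs).2
  obtain ⟨i, hi, j, hj, m, m', hmm⟩ := bezOK_spec (bezOK_of_mem D hD) s hs.1 hs2
  have h1 := key ⟨i, hi⟩
  have h2 := key ⟨j, hj⟩
  simp only at h1 h2
  have h3 : ((m * (D.coroot.getD s #[]).getD i 0 + m' * (D.coroot.getD s #[]).getD j 0 : ℤ) : F) * c = 0 := by
    push_cast
    rw [add_mul, mul_assoc, mul_assoc, h1, h2, mul_zero, mul_zero, add_zero]
  rw [hmm] at h3
  simpa using h3

/-- No positive root lies in the root subsystem of the empty set. -/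
theorem not_inRootSub_empty (hD : D ∈ [chevG2, chevB2, chevD4, chevF4, chevE6, chevE7, chevE8]) (r : ℕ)
    (hr : D.IsPosRoot r) : ¬ D.InRootSub ∅ r := by
  intro h
  have h0 : (1 : ℚ) = 0 := by
    apply eq_zero_of_coroot_mul hD r hr (1 : ℚ)
    intro i
    rw [h.2 i.val i.isLt (Set.notMem_empty _)]
    simp
  exact one_ne_zero h0

namespace JData

variable (X : JData.{u} D)

include X

open Classical

/-- Matrices raising the degree by at least `d`. -/
def IsSUd (J : Set ℕ) (d : ℤ) (M : Matrix D.Idx D.Idx F) : Prop :=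
  ∀ a b, X.lvl J a < X.lvl J b + d → M a b = 0

theorem isSUd_zero (J : Set ℕ) (d : ℤ) : X.IsSUd J d (0 : Matrix D.Idx D.Idx F) := fun _ _ _ => rfl

theorem isSUd_add (J : Set ℕ) (d : ℤ) (M N : Matrix D.Idx D.Idx F) (hM : X.IsSUd J d M) (hN : X.IsSUd J d N) :
    X.IsSUd J d (M + N) := by
  intro a b h
  rw [Matrix.add_apply, hM a b h, hN a b h, add_zero]

theorem isSUd_mono (J : Set ℕ) (d e : ℤ) (hde : d ≤ e) (M : Matrix D.Idx D.Idx F) (hM : X.IsSUd J e M) :
    X.IsSUd J d M := fun a b h => hM a b (by linarith)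

theorem isSUd_mul (J : Set ℕ) (d e : ℤ) (M N : Matrix D.Idx D.Idx F) (hM : X.IsSUd J d M) (hN : X.IsSUd J e N) :
    X.IsSUd J (d + e) (M * N) := by
  intro a b h
  rw [Matrix.mul_apply]
  apply Finset.sum_eq_zero
  intro c _
  by_cases h1 : X.lvl J a < X.lvl J c + d
  · rw [hM a c h1, zero_mul]
  · have h2 : X.lvl J c < X.lvl J b + e := by
      push Not at h1
      linarith
    rw [hN c b h2, mul_zero]

theorem isSUd_of_isSU (J : Set ℕ) (M : Matrix D.Idx D.Idx F) (h : X.IsSU J M) : X.IsSUd J 1 M :=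
  fun a b hab => h a b (by omega)

/-- `x_r(t) - 1` raises the degree by at least the degree of `r`. -/
theorem x_isSUd (hD : D ∈ [chevG2, chevB2, chevD4, chevF4, chevE6, chevE7, chevE8]) (J : Set ℕ) (r : ℕ)
    (hr : D.IsPosRoot r) (hnot : ¬ D.InRootSub J r) (t : F) : X.IsSUd J (X.lvlR J r) (D.x F r t - 1) := by
  intro a b hab
  by_cases heq : a = b
  · subst heq
    exact X.x_isSU hD J r hr hnot t a a le_rfl
  · rw [Matrix.sub_apply, Matrix.one_apply_ne heq, sub_zero]
    by_contra hne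
    obtain ⟨m, hm, hm0⟩ := X.lvl_of_entry J r hr.1 t a b hne
    have hpos := X.lvlR_pos J r hr hnot
    have hm1 : (1 : ℤ) ≤ (m : ℤ) := by
      rcases Nat.eq_zero_or_pos m with h0 | h0
      · exact absurd (hm0 h0) heq
      · exact_mod_cast h0
    have h2 : X.lvlR J r ≤ (m : ℤ) * X.lvlR J r := le_mul_of_one_le_left hpos.le hm1
    linarith

/-- Conjugation by a unitriangular matrix changes a matrix raising the degree by `d` by a matrix raising the degree
by `d + 1`. -/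
theorem isSUd_conj_sub (J : Set ℕ) (d : ℤ) (g g' N : Matrix D.Idx D.Idx F) (hg : X.IsSUd J 1 (g - 1))
    (hg' : X.IsSUd J 1 (g' - 1)) (hN : X.IsSUd J d N) : X.IsSUd J (d + 1) (g * N * g' - N) := by
  have e : g * N * g' - N = (g - 1) * N + (N * (g' - 1) + (g - 1) * N * (g' - 1)) := by noncomm_ring
  rw [e]
  have h1 : X.IsSUd J (d + 1) ((g - 1) * N) := by
    have := X.isSUd_mul J 1 d _ _ hg hN
    rwa [add_comm] at this
  refine X.isSUd_add J _ _ _ h1 (X.isSUd_add J _ _ _ (X.isSUd_mul J d 1 _ _ hN hg') ?_)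
  have := X.isSUd_mul J (d + 1) 1 _ _ h1 hg'
  exact X.isSUd_mono J (d + 1) (d + 1 + 1) (by linarith) _ this

/-- The elements of `U` are unitriangular for the grading by the height. -/
theorem isSUd_of_mem_posUnipotent (hD : D ∈ [chevG2, chevB2, chevD4, chevF4, chevE6, chevE7, chevE8])
    (g : GL D.Idx F) (hg : g ∈ D.posUnipotent F) : X.IsSUd ∅ 1 ((g : Matrix D.Idx D.Idx F) - 1) := by
  apply X.isSUd_of_isSU
  apply X.isSU_of_mem_unipotentRadical hD ∅ g
  unfold ChevalleyDatum.posUnipotent at hg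
  unfold ChevalleyDatum.unipotentRadical
  refine Subgroup.closure_mono ?_ hg
  rintro x ⟨r, t, hr, hx⟩
  exact ⟨r, t, hr, not_inRootSub_empty hD r hr, hx⟩

theorem lvl_inl (J : Set ℕ) (i : Fin D.rank) : X.lvl J (Sum.inl i) = 0 := by
  unfold lvl
  apply Finset.sum_eq_zero
  intro k _
  rfl

theorem lvl_inr (J : Set ℕ) (j : Fin D.nroots) : X.lvl J (Sum.inr j) = X.lvlR J j.val := rfl

end JData

namespace JData2

variable (Y : JData2.{u} D)

include Y

open Classical

theorem lvlR_neg (J : Set ℕ) (s : ℕ) (hs : s < D.nroots) :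
    Y.X.lvlR J (D.nroots - 1 - s) = - Y.X.lvlR J s := by
  have hn := Y.X.C.nroots_eq
  have hl := Y.X.C.rank_eq
  unfold JData.lvlR
  rw [← Finset.sum_neg_distrib]
  apply Finset.sum_congr rfl
  intro k hk
  rw [Finset.mem_filter, Finset.mem_range] at hk
  have := rcNegOK_spec Y.X.C.T Y.X.rcT Y.hneg s (hn.symm ▸ hs) k (hl.symm ▸ hk.1)
  unfold FastDatum.neg at this
  rw [hn] at this
  exact this

/-- The entries in the rows of the coroot vectors and the column of `e_{-s}` of a conjugate of `x_s(t)` by an element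
of `U` are those of `x_s(t)`. -/
theorem entry_conj (hD : D ∈ [chevG2, chevB2, chevD4, chevF4, chevE6, chevE7, chevE8]) (g : GL D.Idx F)
    (hg : g ∈ D.posUnipotent F) (s : ℕ) (hs : D.IsPosRoot s) (t : F) (i : Fin D.rank) (j : Fin D.nroots)
    (hj : j.val + s + 1 = D.nroots) :
    ((g * xG hD s t * g⁻¹ : GL D.Idx F) : Matrix D.Idx D.Idx F) (Sum.inl i) (Sum.inr j)
      = (((D.coroot.getD s #[]).getD i.val 0 : ℤ) : F) * t := by
  have hnot := not_inRootSub_empty hD s hs
  have h1 := Y.X.isSUd_conj_sub ∅ (Y.X.lvlR ∅ s) (g : Matrix D.Idx D.Idx F) ((g⁻¹ : GL D.Idx F) : Matrix D.Idx D.Idx F)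
    (D.x F s t - 1) (Y.X.isSUd_of_mem_posUnipotent hD g hg) (Y.X.isSUd_of_mem_posUnipotent hD g⁻¹ (inv_mem hg))
    (Y.X.x_isSUd hD ∅ s hs hnot t)
  have e : (g : Matrix D.Idx D.Idx F) * (D.x F s t - 1) * ((g⁻¹ : GL D.Idx F) : Matrix D.Idx D.Idx F)
      - (D.x F s t - 1)
      = ((g * xG hD s t * g⁻¹ : GL D.Idx F) : Matrix D.Idx D.Idx F) - D.x F s t := by
    rw [Units.val_mul, Units.val_mul, coe_xG, mul_sub, sub_mul, mul_one, Units.mul_inv]
    abel
  rw [e] at h1
  have hjs : j.val = D.nroots - 1 - s := by omega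
  have h2 := h1 (Sum.inl i) (Sum.inr j) (by
    rw [Y.X.lvl_inl, Y.X.lvl_inr, hjs, Y.lvlR_neg ∅ s hs.1]
    linarith)
  rw [Matrix.sub_apply, sub_eq_zero] at h2
  rw [h2]
  exact x_apply_inl_neg hD s hs t i j hj

/-- An entry of `x_{s'}(b)` in the row of a coroot vector and the column of `e_{-s}` vanishes when `s'` is higher than
`s`. -/
theorem entry_x_of_lt (hD : D ∈ [chevG2, chevB2, chevD4, chevF4, chevE6, chevE7, chevE8]) (s s' : ℕ)
    (hs : D.IsPosRoot s) (hs' : D.IsPosRoot s') (hlt : Y.X.lvlR ∅ s < Y.X.lvlR ∅ s') (b : F) (i : Fin D.rank)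
    (j : Fin D.nroots) (hj : j.val + s + 1 = D.nroots) : D.x F s' b (Sum.inl i) (Sum.inr j) = 0 := by
  have hnot := not_inRootSub_empty hD s' hs'
  have hjs : j.val = D.nroots - 1 - s := by omega
  have h2 := Y.X.x_isSUd hD ∅ s' hs' hnot b (Sum.inl i) (Sum.inr j) (by
    rw [Y.X.lvl_inl, Y.X.lvl_inr, hjs, Y.lvlR_neg ∅ s hs.1]
    linarith)
  rw [Matrix.sub_apply, Matrix.one_apply_ne (by simp), sub_zero] at h2
  exact h2

/-- If `u x_s(a) u⁻¹ = x_{s'}(b)` with `u ∈ U` and `s'` higher than `s`, then `a = 0`. -/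
theorem eq_zero_of_conj_eq_of_lt (hD : D ∈ [chevG2, chevB2, chevD4, chevF4, chevE6, chevE7, chevE8])
    (g : GL D.Idx F) (hg : g ∈ D.posUnipotent F) (s s' : ℕ) (hs : D.IsPosRoot s) (hs' : D.IsPosRoot s')
    (hlt : Y.X.lvlR ∅ s < Y.X.lvlR ∅ s') (a b : F) (h : g * xG hD s a * g⁻¹ = xG hD s' b) : a = 0 := by
  have hsn := hs.1
  apply eq_zero_of_coroot_mul hD s hs a
  intro i
  have hj : (⟨D.nroots - 1 - s, by omega⟩ : Fin D.nroots).val + s + 1 = D.nroots := by
    simp only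
    omega
  rw [← Y.entry_conj hD g hg s hs a i _ hj, h, coe_xG]
  exact Y.entry_x_of_lt hD s s' hs hs' hlt b i _ hj

/-- If `u x_s(a) u⁻¹ = x_{s'}(b)` with `u ∈ U` and `s`, `s'` of different heights, then `a = 0`. -/
theorem eq_zero_of_conj_eq_of_ne (hD : D ∈ [chevG2, chevB2, chevD4, chevF4, chevE6, chevE7, chevE8])
    (g : GL D.Idx F) (hg : g ∈ D.posUnipotent F) (s s' : ℕ) (hs : D.IsPosRoot s) (hs' : D.IsPosRoot s')
    (hne : Y.X.lvlR ∅ s ≠ Y.X.lvlR ∅ s') (a b : F) (h : g * xG hD s a * g⁻¹ = xG hD s' b) : a = 0 := by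
  rcases lt_or_gt_of_ne hne with hlt | hlt
  · exact Y.eq_zero_of_conj_eq_of_lt hD g hg s s' hs hs' hlt a b h
  · have h' : g⁻¹ * xG hD s' b * g⁻¹⁻¹ = xG hD s a := by
      rw [← h]
      group
    have hb := Y.eq_zero_of_conj_eq_of_lt hD g⁻¹ (inv_mem hg) s' s hs' hs hlt b a h'
    have hsn := hs.1
    apply eq_zero_of_coroot_mul hD s hs a
    intro i
    have hj : (⟨D.nroots - 1 - s, by omega⟩ : Fin D.nroots).val + s + 1 = D.nroots := by
      simp only
      omega
    rw [← Y.entry_conj hD g hg s hs a i _ hj, h, hb, coe_xG, x_zero hD, Matrix.one_apply_ne (by simp)]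

/-- If `u x_s(a) u⁻¹ = x_s(b)` with `u ∈ U`, then `a = b`. -/
theorem eq_of_conj_eq (hD : D ∈ [chevG2, chevB2, chevD4, chevF4, chevE6, chevE7, chevE8])
    (g : GL D.Idx F) (hg : g ∈ D.posUnipotent F) (s : ℕ) (hs : D.IsPosRoot s) (a b : F)
    (h : g * xG hD s a * g⁻¹ = xG hD s b) : a = b := by
  have hsn := hs.1
  rw [← sub_eq_zero]
  apply eq_zero_of_coroot_mul hD s hs (a - b)
  intro i
  have hj : (⟨D.nroots - 1 - s, by omega⟩ : Fin D.nroots).val + s + 1 = D.nroots := by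
    simp only
    omega
  rw [mul_sub, ← Y.entry_conj hD g hg s hs a i _ hj, h, coe_xG, x_apply_inl_neg hD s hs b i _ hj, sub_self]

end JData2

end Cfsg.Agent.Lib.Helper61.ChevJ
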