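/-
helper61: the centraliser of the short root element `x_{2a+b}(1)` in the Chevalley group of type G₂ over a field of
characteristic two (root numbering of the Chevalley data module: `a = 7`, `b = 6`, `a+b = 8`, `2a+b = 9`, `3a+b = 10`,
`3a+2b = 11`, opposite roots `11 - r`): it is generated by `X_9, X_10, X_11, X_6, X_5`.
-/
import Cfsg.Agent.Lib.Helper91.HighRoot
import Cfsg.Agent.Lib.Helper18.Bruhat1
import Cfsg.Agent.Lib.Helper61.ChevJ.Depth
import Cfsg.Agent.Lib.Helper61.ChevJ.RootPair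
import Cfsg.Agent.S1048

set_option autoImplicit false

namespace Cfsg.Agent.Lib.Helper61.ChevJ.G2Short

open Cfsg.Lie Cfsg.Agent.Lib.Helper18 Cfsg.Agent.Lib.Helper91.HighRoot Cfsg.Agent.Lib.Helper61.ChevJ

universe u

variable {F : Type u} [Field F]

theorem hG2 : chevG2 ∈ [chevG2, chevB2, chevD4, chevF4, chevE6, chevE7, chevE8] := by simp

/-! ### Commutation of root elements -/

set_option maxRecDepth 100000 in
theorem commTerms_empty : ∀ p ∈ [(9, 10), (9, 11), (10, 11), (9, 6), (9, 5), (7, 10), (7, 11), (8, 10), (8, 11),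
    (6, 11), (5, 10)], chevG2.commTerms p.1 p.2 = [] := by decide +kernel

/-- Root elements whose commutator formula is empty commute. -/
theorem xG_comm (r s : ℕ) (hr : r < 12) (hs : s < 12) (hsr : s ≠ r) (hsn : s + r + 1 ≠ 12)
    (he : chevG2.commTerms r s = []) (a b : F) :
    xG hG2 s b * xG hG2 r a = xG hG2 r a * xG hG2 s b :=
  xG_comm_rho (p := 0) hG2 chevData_G2 (by simp) hr s hs hsr hsn (by rw [he]; simp) a b

theorem comm_9_10 (a b : F) : xG hG2 10 b * xG hG2 9 a = xG hG2 9 a * xG hG2 10 b :=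
  xG_comm 9 10 (by norm_num) (by norm_num) (by norm_num) (by norm_num) (commTerms_empty (9, 10) (by simp)) a b

theorem comm_9_11 (a b : F) : xG hG2 11 b * xG hG2 9 a = xG hG2 9 a * xG hG2 11 b :=
  xG_comm 9 11 (by norm_num) (by norm_num) (by norm_num) (by norm_num) (commTerms_empty (9, 11) (by simp)) a b

theorem comm_10_11 (a b : F) : xG hG2 11 b * xG hG2 10 a = xG hG2 10 a * xG hG2 11 b :=
  xG_comm 10 11 (by norm_num) (by norm_num) (by norm_num) (by norm_num) (commTerms_empty (10, 11) (by simp)) a b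

theorem comm_9_6 (a b : F) : xG hG2 6 b * xG hG2 9 a = xG hG2 9 a * xG hG2 6 b :=
  xG_comm 9 6 (by norm_num) (by norm_num) (by norm_num) (by norm_num) (commTerms_empty (9, 6) (by simp)) a b

theorem comm_9_5 (a b : F) : xG hG2 5 b * xG hG2 9 a = xG hG2 9 a * xG hG2 5 b :=
  xG_comm 9 5 (by norm_num) (by norm_num) (by norm_num) (by norm_num) (commTerms_empty (9, 5) (by simp)) a b

theorem comm_7_10 (a b : F) : xG hG2 10 b * xG hG2 7 a = xG hG2 7 a * xG hG2 10 b :=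
  xG_comm 7 10 (by norm_num) (by norm_num) (by norm_num) (by norm_num) (commTerms_empty (7, 10) (by simp)) a b

theorem comm_7_11 (a b : F) : xG hG2 11 b * xG hG2 7 a = xG hG2 7 a * xG hG2 11 b :=
  xG_comm 7 11 (by norm_num) (by norm_num) (by norm_num) (by norm_num) (commTerms_empty (7, 11) (by simp)) a b

theorem comm_8_10 (a b : F) : xG hG2 10 b * xG hG2 8 a = xG hG2 8 a * xG hG2 10 b :=
  xG_comm 8 10 (by norm_num) (by norm_num) (by norm_num) (by norm_num) (commTerms_empty (8, 10) (by simp)) a b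

theorem comm_8_11 (a b : F) : xG hG2 11 b * xG hG2 8 a = xG hG2 8 a * xG hG2 11 b :=
  xG_comm 8 11 (by norm_num) (by norm_num) (by norm_num) (by norm_num) (commTerms_empty (8, 11) (by simp)) a b

set_option maxRecDepth 100000 in
theorem commTerms_9_7 : chevG2.commTerms 9 7 = [(10, -3, 1, 1)] := by decide +kernel

set_option maxRecDepth 100000 in
theorem commTerms_9_8 : chevG2.commTerms 9 8 = [(11, -3, 1, 1)] := by decide +kernel

/-- `x_a(u) x_{2a+b}(t) = x_{2a+b}(t) x_a(u) x_{3a+b}(3tu)`. -/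
theorem comm_9_7 (t v : F) :
    xG hG2 7 v * xG hG2 9 t = xG hG2 9 t * xG hG2 7 v * xG hG2 10 (3 * t * v) := by
  have h1 := chevData_G2.comm F 9 7 (by decide) (by decide) (by norm_num) (by decide) t v
  apply Units.ext
  rw [Units.val_mul, Units.val_mul, Units.val_mul, coe_xG, coe_xG, coe_xG, h1]
  unfold ChevalleyDatum.commWord
  rw [commTerms_9_7]
  simp only [List.map_cons, List.map_nil, wordMat_cons', wordMat_nil', mul_one]
  congr 2
  push_cast
  ring

/-- `x_{a+b}(u) x_{2a+b}(t) = x_{2a+b}(t) x_{a+b}(u) x_{3a+2b}(3tu)`. -/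
theorem comm_9_8 (t v : F) :
    xG hG2 8 v * xG hG2 9 t = xG hG2 9 t * xG hG2 8 v * xG hG2 11 (3 * t * v) := by
  have h1 := chevData_G2.comm F 9 8 (by decide) (by decide) (by norm_num) (by decide) t v
  apply Units.ext
  rw [Units.val_mul, Units.val_mul, Units.val_mul, coe_xG, coe_xG, coe_xG, h1]
  unfold ChevalleyDatum.commWord
  rw [commTerms_9_8]
  simp only [List.map_cons, List.map_nil, wordMat_cons', wordMat_nil', mul_one]
  congr 2
  push_cast
  ring

/-! ### The elementary abelian group `Q = X_9 X_10 X_11` -/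

/-- The element `x_9(a) x_10(b) x_11(c)`. -/
noncomputable def q3 (a b c : F) : GL chevG2.Idx F := xG hG2 9 a * xG hG2 10 b * xG hG2 11 c

theorem q3_mul (a b c a' b' c' : F) : q3 a b c * q3 a' b' c' = q3 (a + a') (b + b') (c + c') := by
  unfold q3
  have h1 := comm_9_11 a' c
  have h2 := comm_9_10 a' b
  have h3 := comm_10_11 b' c
  calc xG hG2 9 a * xG hG2 10 b * xG hG2 11 c * (xG hG2 9 a' * xG hG2 10 b' * xG hG2 11 c')
      = xG hG2 9 a * xG hG2 10 b * (xG hG2 11 c * xG hG2 9 a') * xG hG2 10 b' * xG hG2 11 c' := by group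
    _ = xG hG2 9 a * (xG hG2 10 b * xG hG2 9 a') * (xG hG2 11 c * xG hG2 10 b') * xG hG2 11 c' := by
        rw [h1]; group
    _ = (xG hG2 9 a * xG hG2 9 a') * (xG hG2 10 b * xG hG2 10 b') * (xG hG2 11 c * xG hG2 11 c') := by
        rw [h2, h3]; group
    _ = _ := by rw [xG_mul, xG_mul, xG_mul]

theorem q3_zero : q3 (0 : F) 0 0 = 1 := by
  unfold q3
  rw [xG_zero, xG_zero, xG_zero, mul_one, mul_one]

theorem q3_inv (a b c : F) : (q3 a b c)⁻¹ = q3 (-a) (-b) (-c) := by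
  rw [inv_eq_iff_mul_eq_one, q3_mul, add_neg_cancel, add_neg_cancel, add_neg_cancel, q3_zero]

theorem isPosRoot_of (r : ℕ) (h1 : 6 ≤ r) (h2 : r < 12) : chevG2.IsPosRoot r :=
  (isPosRoot_iff hG2 r).mpr ⟨h2, h1⟩

theorem lt_of_isPosRoot (r : ℕ) (h : chevG2.IsPosRoot r) : 6 ≤ r ∧ r < 12 := by
  have := (isPosRoot_iff hG2 r).mp h
  exact ⟨this.2, this.1⟩

theorem q3_mem_Ulev3 (a b c : F) : q3 a b c ∈ Ulev chevG2 F levelData_G2 3 := by
  unfold q3
  refine mul_mem (mul_mem ?_ ?_) ?_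
  · exact xG_mem_Ulev hG2 _ 3 9 a (isPosRoot_of 9 (by norm_num) (by norm_num)) (by decide)
  · exact xG_mem_Ulev hG2 _ 3 10 b (isPosRoot_of 10 (by norm_num) (by norm_num)) (by decide)
  · exact xG_mem_Ulev hG2 _ 3 11 c (isPosRoot_of 11 (by norm_num) (by norm_num)) (by decide)

theorem q3_mem_Ulev4 (b c : F) : q3 0 b c ∈ Ulev chevG2 F levelData_G2 4 := by
  unfold q3
  rw [xG_zero, one_mul]
  refine mul_mem ?_ ?_
  · exact xG_mem_Ulev hG2 _ 4 10 b (isPosRoot_of 10 (by norm_num) (by norm_num)) (by decide)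
  · exact xG_mem_Ulev hG2 _ 4 11 c (isPosRoot_of 11 (by norm_num) (by norm_num)) (by decide)

/-- Every element of `U_3` is `x_9(a) x_10(b) x_11(c)`. -/
theorem exists_of_mem_Ulev3 (g : GL chevG2.Idx F) (hg : g ∈ Ulev chevG2 F levelData_G2 3) :
    ∃ a b c : F, g = q3 a b c := by
  unfold Ulev at hg
  induction hg using Subgroup.closure_induction with
  | mem g hg =>
    obtain ⟨s, t, hs, hl, hgs⟩ := hg
    have hg' : g = xG hG2 s t := Units.ext hgs
    obtain ⟨h6, h12⟩ := lt_of_isPosRoot s hs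
    interval_cases s
    · exact absurd hl (by decide)
    · exact absurd hl (by decide)
    · exact absurd hl (by decide)
    · exact ⟨t, 0, 0, by rw [hg', q3, xG_zero, xG_zero, mul_one, mul_one]⟩
    · exact ⟨0, t, 0, by rw [hg', q3, xG_zero, xG_zero, mul_one, one_mul]⟩
    · exact ⟨0, 0, t, by rw [hg', q3, xG_zero, xG_zero, one_mul, one_mul]⟩
  | one => exact ⟨0, 0, 0, q3_zero.symm⟩
  | mul g₁ g₂ _ _ h1 h2 =>
    obtain ⟨a, b, c, rfl⟩ := h1
    obtain ⟨a', b', c', rfl⟩ := h2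
    exact ⟨_, _, _, q3_mul a b c a' b' c'⟩
  | inv g _ h1 =>
    obtain ⟨a, b, c, rfl⟩ := h1
    exact ⟨_, _, _, q3_inv a b c⟩

/-- Every element of `U_4` is `x_10(b) x_11(c)`. -/
theorem exists_of_mem_Ulev4 (g : GL chevG2.Idx F) (hg : g ∈ Ulev chevG2 F levelData_G2 4) :
    ∃ b c : F, g = q3 0 b c := by
  unfold Ulev at hg
  induction hg using Subgroup.closure_induction with
  | mem g hg =>
    obtain ⟨s, t, hs, hl, hgs⟩ := hg
    have hg' : g = xG hG2 s t := Units.ext hgs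
    obtain ⟨h6, h12⟩ := lt_of_isPosRoot s hs
    interval_cases s
    · exact absurd hl (by decide)
    · exact absurd hl (by decide)
    · exact absurd hl (by decide)
    · exact absurd hl (by decide)
    · exact ⟨t, 0, by rw [hg', q3, xG_zero, xG_zero, mul_one, one_mul]⟩
    · exact ⟨0, t, by rw [hg', q3, xG_zero, xG_zero, one_mul, one_mul]⟩
  | one => exact ⟨0, 0, q3_zero.symm⟩
  | mul g₁ g₂ _ _ h1 h2 =>
    obtain ⟨b, c, rfl⟩ := h1
    obtain ⟨b', c', rfl⟩ := h2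
    exact ⟨_, _, by rw [q3_mul, add_zero]⟩
  | inv g _ h1 =>
    obtain ⟨b, c, rfl⟩ := h1
    exact ⟨_, _, by rw [q3_inv, neg_zero]⟩


/-! ### Uniqueness of coefficients -/

/-- The coefficient function of a product of three root elements. -/
def tf (r₁ r₂ r₃ : ℕ) (c₁ c₂ c₃ : F) : ℕ → F :=
  fun r => if r = r₁ then c₁ else if r = r₂ then c₂ else if r = r₃ then c₃ else 0

theorem prod3_eq (r₁ r₂ r₃ : ℕ) (h1 : 6 ≤ r₁) (h2 : r₁ < r₂) (h3 : r₂ < r₃) (h4 : r₃ < 12) (c₁ c₂ c₃ : F) :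
    xG hG2 r₁ c₁ * xG hG2 r₂ c₂ * xG hG2 r₃ c₃ = prodL hG2 [6, 7, 8, 9, 10, 11] (tf r₁ r₂ r₃ c₁ c₂ c₃) := by
  have h5 : r₁ < 12 := by omega
  have h6 : r₂ < 12 := by omega
  interval_cases r₁ <;> interval_cases r₂ <;> interval_cases r₃ <;>
    simp [prodL_cons, prodL_nil, xG_zero, tf, mul_assoc]

theorem posList : ∀ r ∈ [6, 7, 8, 9, 10, 11], chevG2.IsPosRoot r := by
  intro r hr
  simp only [List.mem_cons, List.not_mem_nil, or_false] at hr
  rcases hr with rfl | rfl | rfl | rfl | rfl | rfl <;> exact isPosRoot_of _ (by norm_num) (by norm_num)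

/-- Uniqueness of the coefficients of a product of root elements of three increasing positive roots. -/
theorem triple_unique (r₁ r₂ r₃ s₁ s₂ s₃ : ℕ) (h1 : 6 ≤ r₁) (h2 : r₁ < r₂) (h3 : r₂ < r₃) (h4 : r₃ < 12)
    (k1 : 6 ≤ s₁) (k2 : s₁ < s₂) (k3 : s₂ < s₃) (k4 : s₃ < 12) (c₁ c₂ c₃ d₁ d₂ d₃ : F)
    (h : xG hG2 r₁ c₁ * xG hG2 r₂ c₂ * xG hG2 r₃ c₃ = xG hG2 s₁ d₁ * xG hG2 s₂ d₂ * xG hG2 s₃ d₃) :
    ∀ r ∈ [6, 7, 8, 9, 10, 11], tf r₁ r₂ r₃ c₁ c₂ c₃ r = tf s₁ s₂ s₃ d₁ d₂ d₃ r := by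
  rw [prod3_eq r₁ r₂ r₃ h1 h2 h3 h4, prod3_eq s₁ s₂ s₃ k1 k2 k3 k4] at h
  exact prodL_injective hG2 (lexOK_of_mem _ hG2) (bezOK_of_mem _ hG2) _ posList (by decide) _ _ h

theorem q3_inj (a b c a' b' c' : F) (h : q3 a b c = q3 a' b' c') : a = a' ∧ b = b' ∧ c = c' := by
  have := triple_unique 9 10 11 9 10 11 (by norm_num) (by norm_num) (by norm_num) (by norm_num) (by norm_num)
    (by norm_num) (by norm_num) (by norm_num) a b c a' b' c' h
  refine ⟨?_, ?_, ?_⟩
  · simpa [tf] using this 9 (by simp)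
  · simpa [tf] using this 10 (by simp)
  · simpa [tf] using this 11 (by simp)


end Cfsg.Agent.Lib.Helper61.ChevJ.G2Short
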