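/-
helper61: the centraliser of the short root element `x_{2a+b}(1)` in the Chevalley group of type G₂ over a field of
characteristic two, second part: the Bruhat decomposition of a centralising element.
-/
import Cfsg.Agent.Lib.Helper61.ChevJ.G2Short

set_option autoImplicit false

namespace Cfsg.Agent.Lib.Helper61.ChevJ.G2Short

open Cfsg.Lie Cfsg.Agent.Lib.Helper18 Cfsg.Agent.Lib.Helper91.HighRoot Cfsg.Agent.Lib.Helper61.ChevJ

universe u

variable {F : Type u} [Field F]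

theorem xG_mem_U (r : ℕ) (h1 : 6 ≤ r) (h2 : r < 12) (c : F) : xG hG2 r c ∈ chevG2.posUnipotent F :=
  xG_mem_posUnipotent hG2 r c (isPosRoot_of r h1 h2)

theorem xG_mem_V (r : ℕ) (h1 : r < 6) (c : F) : xG hG2 r c ∈ chevG2.negUnipotent F :=
  Subgroup.subset_closure ⟨r, c, isNegRoot_of_lt chevG2 (signOK_of_mem chevG2 hG2) r (by
    show r < 12
    omega) (by
    show r < 12 / 2
    omega), rfl⟩

theorem U_inf_V (g : GL chevG2.Idx F) (h1 : g ∈ chevG2.posUnipotent F) (h2 : g ∈ chevG2.negUnipotent F) : g = 1 := by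
  have h := (Cfsg.Agent.S1037.result (F := F) chevG2 hG2).1
  have h3 : g ∈ chevG2.borelSubgroup F ⊓ chevG2.negUnipotent F :=
    ⟨(le_sup_left : chevG2.posUnipotent F ≤ chevG2.borelSubgroup F) h1, h2⟩
  rw [h] at h3
  exact Subgroup.mem_bot.mp h3

theorem q3_mem_U (a b c : F) : q3 a b c ∈ chevG2.posUnipotent F :=
  Ulev_le_posUnipotent levelData_G2 3 (q3_mem_Ulev3 a b c)

/-- Conjugates of `x_9(a)` by elements of `U`. -/
theorem conj_U_x9 (u : GL chevG2.Idx F) (hu : u ∈ chevG2.posUnipotent F) (a : F) :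
    ∃ b c : F, u * xG hG2 9 a * u⁻¹ = q3 a b c := by
  have h1 := comm_mem_Ulev hG2 chevData_G2 levelData_G2 3 u⁻¹ (xG hG2 9 a)⁻¹ (inv_mem hu)
    (inv_mem (xG_mem_Ulev hG2 _ 3 9 a (isPosRoot_of 9 (by norm_num) (by norm_num)) (by decide)))
  rw [inv_inv, inv_inv] at h1
  obtain ⟨b, c, e⟩ := exists_of_mem_Ulev4 _ h1
  refine ⟨b, c, ?_⟩
  have e2 : u * xG hG2 9 a * u⁻¹ = (u * xG hG2 9 a * u⁻¹ * (xG hG2 9 a)⁻¹) * xG hG2 9 a := by group
  rw [e2, e]
  have e3 : xG hG2 9 a = q3 a 0 0 := by rw [q3, xG_zero, xG_zero, mul_one, mul_one]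
  rw [e3, q3_mul, zero_add, add_zero, add_zero]

theorem q3_ne_one (b c : F) : q3 (1 : F) b c ≠ 1 := by
  intro h
  rw [← q3_zero] at h
  exact one_ne_zero (q3_inj _ _ _ _ _ _ h).1

/-- A monomial-type element cannot send `x_9` to a negative root element while sending an element
`x_9(1) x_10(β) x_11(γ)` into `U`. -/
theorem not_neg (m : GL chevG2.Idx F) (r₁ r₂ r₃ : ℕ) (h1 : r₁ < 6) (h2 : r₂ < 12) (h3 : r₃ < 12)
    (β γ c₁ c₂ c₃ : F) (e1 : m * xG hG2 9 1 * m⁻¹ = xG hG2 r₁ c₁) (e2 : m * xG hG2 10 β * m⁻¹ = xG hG2 r₂ c₂)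
    (e3 : m * xG hG2 11 γ * m⁻¹ = xG hG2 r₃ c₃) (hU : m * q3 1 β γ * m⁻¹ ∈ chevG2.posUnipotent F) : False := by
  have key : ∀ b c : F, m * q3 1 b c * m⁻¹ ∈ chevG2.posUnipotent F →
      m * q3 1 b c * m⁻¹ ∈ chevG2.negUnipotent F → False := by
    intro b c k1 k2
    have := U_inf_V _ k1 k2
    have e : q3 1 b c = m⁻¹ * (m * q3 1 b c * m⁻¹) * m := by group
    rw [this] at e
    exact q3_ne_one b c (by rw [e]; group)
  have hA : m * xG hG2 9 1 * m⁻¹ ∈ chevG2.negUnipotent F := by rw [e1]; exact xG_mem_V r₁ h1 c₁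
  have eABC : m * q3 1 β γ * m⁻¹ = (m * xG hG2 9 1 * m⁻¹) * (m * xG hG2 10 β * m⁻¹) * (m * xG hG2 11 γ * m⁻¹) := by
    unfold q3; group
  have eACB : m * q3 1 β γ * m⁻¹ = (m * xG hG2 9 1 * m⁻¹) * (m * xG hG2 11 γ * m⁻¹) * (m * xG hG2 10 β * m⁻¹) := by
    unfold q3
    have := comm_10_11 β γ
    calc m * (xG hG2 9 1 * xG hG2 10 β * xG hG2 11 γ) * m⁻¹
        = m * xG hG2 9 1 * (xG hG2 10 β * xG hG2 11 γ) * m⁻¹ := by group
      _ = m * xG hG2 9 1 * (xG hG2 11 γ * xG hG2 10 β) * m⁻¹ := by rw [this]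
      _ = _ := by group
  by_cases k2 : r₂ < 6 <;> by_cases k3 : r₃ < 6
  · -- all negative
    apply key β γ hU
    rw [eABC, e1, e2, e3]
    exact mul_mem (mul_mem (xG_mem_V _ h1 _) (xG_mem_V _ k2 _)) (xG_mem_V _ k3 _)
  · -- `C` positive
    have hC : m * xG hG2 11 γ * m⁻¹ ∈ chevG2.posUnipotent F := by rw [e3]; exact xG_mem_U _ (by omega) h3 _
    have e : m * q3 1 β 0 * m⁻¹ = m * q3 1 β γ * m⁻¹ * (m * xG hG2 11 γ * m⁻¹)⁻¹ := by
      unfold q3; rw [xG_zero]; group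
    apply key β 0
    · rw [e]; exact mul_mem hU (inv_mem hC)
    · have e' : m * q3 1 β 0 * m⁻¹ = (m * xG hG2 9 1 * m⁻¹) * (m * xG hG2 10 β * m⁻¹) := by
        unfold q3; rw [xG_zero]; group
      rw [e', e1, e2]
      exact mul_mem (xG_mem_V _ h1 _) (xG_mem_V _ k2 _)
  · -- `B` positive
    have hB : m * xG hG2 10 β * m⁻¹ ∈ chevG2.posUnipotent F := by rw [e2]; exact xG_mem_U _ (by omega) h2 _
    have e : m * q3 1 0 γ * m⁻¹ = m * q3 1 β γ * m⁻¹ * (m * xG hG2 10 β * m⁻¹)⁻¹ := by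
      rw [eACB]; unfold q3; rw [xG_zero]; group
    apply key 0 γ
    · rw [e]; exact mul_mem hU (inv_mem hB)
    · have e' : m * q3 1 0 γ * m⁻¹ = (m * xG hG2 9 1 * m⁻¹) * (m * xG hG2 11 γ * m⁻¹) := by
        unfold q3; rw [xG_zero]; group
      rw [e', e1, e3]
      exact mul_mem (xG_mem_V _ h1 _) (xG_mem_V _ k3 _)
  · -- `B`, `C` positive
    have hB : m * xG hG2 10 β * m⁻¹ ∈ chevG2.posUnipotent F := by rw [e2]; exact xG_mem_U _ (by omega) h2 _
    have hC : m * xG hG2 11 γ * m⁻¹ ∈ chevG2.posUnipotent F := by rw [e3]; exact xG_mem_U _ (by omega) h3 _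
    have e : m * q3 1 0 0 * m⁻¹
        = m * q3 1 β γ * m⁻¹ * (m * xG hG2 11 γ * m⁻¹)⁻¹ * (m * xG hG2 10 β * m⁻¹)⁻¹ := by
      unfold q3; rw [xG_zero, xG_zero]; group
    apply key 0 0
    · rw [e]; exact mul_mem (mul_mem hU (inv_mem hC)) (inv_mem hB)
    · have e' : m * q3 1 0 0 * m⁻¹ = m * xG hG2 9 1 * m⁻¹ := by
        unfold q3; rw [xG_zero, xG_zero]; group
      rw [e', e1]
      exact xG_mem_V _ h1 _


/-! ### The Weyl group -/

set_option maxRecDepth 100000 in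
theorem commTerms_empty2 : ∀ p ∈ [(6, 8), (6, 11), (5, 10)], chevG2.commTerms p.1 p.2 = [] := by decide +kernel

theorem comm_6_8 (a b : F) : xG hG2 8 b * xG hG2 6 a = xG hG2 6 a * xG hG2 8 b :=
  xG_comm 6 8 (by norm_num) (by norm_num) (by norm_num) (by norm_num) (commTerms_empty2 (6, 8) (by simp)) a b

theorem comm_6_11 (a b : F) : xG hG2 11 b * xG hG2 6 a = xG hG2 6 a * xG hG2 11 b :=
  xG_comm 6 11 (by norm_num) (by norm_num) (by norm_num) (by norm_num) (commTerms_empty2 (6, 11) (by simp)) a b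

theorem comm_5_10 (a b : F) : xG hG2 10 b * xG hG2 5 a = xG hG2 5 a * xG hG2 10 b :=
  xG_comm 5 10 (by norm_num) (by norm_num) (by norm_num) (by norm_num) (commTerms_empty2 (5, 10) (by simp)) a b

/-- The images of the positive roots under the twelve elements of the Weyl group. -/
def wImgs : List (List ℕ) :=
  [[6, 7, 8, 9, 10, 11], [10, 4, 9, 8, 6, 11], [5, 8, 7, 9, 11, 10], [1, 9, 4, 8, 11, 6], [11, 3, 9, 7, 5, 10],
    [11, 2, 8, 4, 1, 6], [0, 9, 3, 7, 10, 5], [0, 8, 2, 4, 6, 1], [10, 2, 7, 3, 0, 5], [6, 3, 4, 2, 0, 1],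
    [1, 7, 2, 3, 5, 0], [5, 4, 3, 2, 1, 0]]

set_option maxRecDepth 100000 in
theorem wImgs_closed : ∀ l ∈ wImgs, ∀ i < 2, l.map (tabRoot (wTabs_G2.getD i 0)) ∈ wImgs := by decide +kernel

theorem wordImg_mem (ws : List ℕ) (hws : ∀ i ∈ ws, i < 2) :
    [6, 7, 8, 9, 10, 11].map (wordRootF wTabs_G2 ws) ∈ wImgs := by
  induction ws with
  | nil => simp [wordRootF, wImgs]
  | cons i ws ih =>
    have h1 := wImgs_closed _ (ih fun j hj => hws j (List.mem_cons_of_mem _ hj)) i (hws i List.mem_cons_self)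
    rw [List.map_map] at h1
    exact h1


theorem not_pos7 (c₁ c₂ c₃ b c : F) (h : xG hG2 7 c₁ * xG hG2 10 c₂ * xG hG2 5 c₃ = q3 1 b c) : False := by
  have h5 : xG hG2 5 c₃ = 1 := by
    apply U_inf_V
    · have e : xG hG2 5 c₃ = (xG hG2 7 c₁ * xG hG2 10 c₂)⁻¹ * q3 1 b c := by rw [← h]; group
      rw [e]
      exact mul_mem (inv_mem (mul_mem (xG_mem_U 7 (by norm_num) (by norm_num) _)
        (xG_mem_U 10 (by norm_num) (by norm_num) _))) (q3_mem_U _ _ _)
    · exact xG_mem_V 5 (by norm_num) c₃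
  rw [h5, mul_one] at h
  have h' : xG hG2 7 c₁ * xG hG2 10 c₂ * xG hG2 11 0 = xG hG2 9 1 * xG hG2 10 b * xG hG2 11 c := by
    rw [xG_zero, mul_one, h]; rfl
  have := triple_unique 7 10 11 9 10 11 (by norm_num) (by norm_num) (by norm_num) (by norm_num) (by norm_num)
    (by norm_num) (by norm_num) (by norm_num) c₁ c₂ 0 1 b c h' 9 (by simp)
  simp [tf] at this

theorem not_pos8 (c₁ c₂ c₃ b c : F) (h : xG hG2 6 c₁ * xG hG2 8 c₂ * xG hG2 11 c₃ = q3 1 b c) : False := by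
  have := triple_unique 6 8 11 9 10 11 (by norm_num) (by norm_num) (by norm_num) (by norm_num) (by norm_num)
    (by norm_num) (by norm_num) (by norm_num) c₁ c₂ c₃ 1 b c h 9 (by simp)
  simp [tf] at this

theorem tabs_eq : (chevData_G2.{u}).tabs = wTabs_G2 := rfl

/-- If a monomial-type element conjugates `x_9(1) x_10(β) x_11(γ)` to `x_9(1) x_10(β') x_11(γ')`, its Weyl group
element is trivial or the reflection in the long fundamental root. -/
theorem weyl_cases (ws : List ℕ) (hws : ∀ i ∈ ws, i < chevG2.rank) (h₀ : GL chevG2.Idx F)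
    (hh₀ : h₀ ∈ chevG2.diagonalSubgroup F) (β γ β' γ' : F)
    (h : nW hG2 chevData_G2 ws * h₀ * q3 1 β γ * (nW hG2 chevData_G2 ws * h₀)⁻¹ = q3 1 β' γ') :
    [6, 7, 8, 9, 10, 11].map (wordRootF wTabs_G2 ws) = [6, 7, 8, 9, 10, 11] ∨
      [6, 7, 8, 9, 10, 11].map (wordRootF wTabs_G2 ws) = [5, 8, 7, 9, 11, 10] := by
  obtain ⟨c₁, -, e1⟩ := word_conj_xG hG2 chevData_G2 ws hws h₀ hh₀ 9 (by decide) (1 : F)
  obtain ⟨c₂, -, e2⟩ := word_conj_xG hG2 chevData_G2 ws hws h₀ hh₀ 10 (by decide) β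
  obtain ⟨c₃, -, e3⟩ := word_conj_xG hG2 chevData_G2 ws hws h₀ hh₀ 11 (by decide) γ
  rw [tabs_eq] at e1 e2 e3
  generalize nW hG2 chevData_G2 ws * h₀ = m at h e1 e2 e3
  have eABC : m * q3 1 β γ * m⁻¹ = (m * xG hG2 9 1 * m⁻¹) * (m * xG hG2 10 β * m⁻¹) * (m * xG hG2 11 γ * m⁻¹) := by
    unfold q3; group
  have hU : m * q3 1 β γ * m⁻¹ ∈ chevG2.posUnipotent F := by rw [h]; exact q3_mem_U _ _ _
  have hw9 := wordRootF_lt chevData_G2.{u} ws hws 9 (by decide)
  have hw10 := wordRootF_lt chevData_G2.{u} ws hws 10 (by decide)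
  have hw11 := wordRootF_lt chevData_G2.{u} ws hws 11 (by decide)
  rw [tabs_eq] at hw9 hw10 hw11
  have hmem := wordImg_mem ws hws
  by_cases hneg : wordRootF wTabs_G2 ws 9 < 6
  · exact absurd (not_neg m _ _ _ hneg hw10 hw11 β γ c₁ c₂ c₃ e1 e2 e3 hU) not_false
  rw [h, e1, e2, e3] at eABC
  simp only [wImgs, List.mem_cons, List.map_cons, List.map_nil, List.not_mem_nil, or_false, List.cons.injEq,
    and_true] at hmem
  rcases hmem with hc | hc | hc | hc | hc | hc | hc | hc | hc | hc | hc | hc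
  · left
    simp only [List.map_cons, List.map_nil, hc.1, hc.2.1, hc.2.2.1, hc.2.2.2.1, hc.2.2.2.2.1, hc.2.2.2.2.2]
  · -- (8, 6, 11)
    exfalso
    rw [hc.2.2.2.1, hc.2.2.2.2.1, hc.2.2.2.2.2, comm_6_8] at eABC
    exact not_pos8 _ _ _ _ _ eABC.symm
  · right
    simp only [List.map_cons, List.map_nil, hc.1, hc.2.1, hc.2.2.1, hc.2.2.2.1, hc.2.2.2.2.1, hc.2.2.2.2.2]
  · -- (8, 11, 6)
    exfalso
    rw [hc.2.2.2.1, hc.2.2.2.2.1, hc.2.2.2.2.2, mul_assoc, comm_6_11, ← mul_assoc, comm_6_8] at eABC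
    exact not_pos8 _ _ _ _ _ eABC.symm
  · -- (7, 5, 10)
    exfalso
    rw [hc.2.2.2.1, hc.2.2.2.2.1, hc.2.2.2.2.2, mul_assoc, ← comm_5_10, ← mul_assoc] at eABC
    exact not_pos7 _ _ _ _ _ eABC.symm
  · exact absurd (by rw [hc.2.2.2.1]; norm_num) hneg
  · -- (7, 10, 5)
    exfalso
    rw [hc.2.2.2.1, hc.2.2.2.2.1, hc.2.2.2.2.2] at eABC
    exact not_pos7 _ _ _ _ _ eABC.symm
  · exact absurd (by rw [hc.2.2.2.1]; norm_num) hneg
  · exact absurd (by rw [hc.2.2.2.1]; norm_num) hneg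
  · exact absurd (by rw [hc.2.2.2.1]; norm_num) hneg
  · exact absurd (by rw [hc.2.2.2.1]; norm_num) hneg
  · exact absurd (by rw [hc.2.2.2.1]; norm_num) hneg


set_option maxRecDepth 100000 in
theorem tab1_vals : [5, 8, 7, 9, 11, 10].map (tabRoot (wTabs_G2.getD 1 0)) = [6, 7, 8, 9, 10, 11] := by
  decide +kernel

theorem sG1_mem_parabolic : sG (F := F) hG2 chevData_G2 1 ∈ chevG2.parabolicSubgroup F {1} :=
  Subgroup.mem_sup_right (Subgroup.subset_closure ⟨1, rfl, by decide, coe_sG hG2 chevData_G2 1 (by decide)⟩)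

/-- An element of the Chevalley group commuting with `x_9(1)` lies in the parabolic subgroup of the long fundamental
root. -/
theorem mem_parabolic_of_comm (g : GL chevG2.Idx F) (hgG : g ∈ chevG2.group F)
    (hgC : g * xG hG2 9 1 = xG hG2 9 1 * g) : g ∈ chevG2.parabolicSubgroup F {1} := by
  obtain ⟨b, hb, n, hn, u, hu, e⟩ := exists_bruhat_form hG2 chevData_G2 levelData_G2 g hgG
  have huU : u ∈ chevG2.posUnipotent F := closure_UnegSet_le chevG2 n hu
  obtain ⟨u', hu', h, hh, rfl⟩ := (mem_borel_iff chevG2 hG2 b).mp hb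
  have hmN : h * n ∈ chevG2.monomialSubgroup F :=
    mul_mem ((le_sup_left : chevG2.diagonalSubgroup F ≤ chevG2.monomialSubgroup F) hh) hn
  obtain ⟨ws, h₀, hws, hh₀, em⟩ := isWordH_of_mem_monomial hG2 chevData_G2 (h * n) hmN
  obtain ⟨β, γ, e1⟩ := conj_U_x9 u huU 1
  obtain ⟨β', γ', e2⟩ := conj_U_x9 u'⁻¹ (inv_mem hu') 1
  have e3 : (h * n) * q3 1 β γ * (h * n)⁻¹ = q3 1 β' γ' := by
    rw [← e1, ← e2]
    have e4 : g * xG hG2 9 1 * g⁻¹ = xG hG2 9 1 := by rw [hgC]; group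
    have e5 : h * n * (u * xG hG2 9 1 * u⁻¹) * (h * n)⁻¹ = u'⁻¹ * (g * xG hG2 9 1 * g⁻¹) * u'⁻¹⁻¹ := by
      rw [e]; group
    rw [e5, e4]
  rw [em] at e3
  have hUB : chevG2.posUnipotent F ≤ chevG2.parabolicSubgroup F {1} :=
    le_trans (le_sup_left : chevG2.posUnipotent F ≤ chevG2.borelSubgroup F) le_sup_left
  have hHB : chevG2.diagonalSubgroup F ≤ chevG2.parabolicSubgroup F {1} :=
    le_trans (le_sup_right : chevG2.diagonalSubgroup F ≤ chevG2.borelSubgroup F) le_sup_left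
  have eg : g = u' * (nW hG2 chevData_G2 ws * h₀) * u := by rw [← em, e]; group
  rw [eg]
  refine mul_mem (mul_mem (hUB hu') (mul_mem ?_ (hHB hh₀))) (hUB huU)
  rcases weyl_cases ws hws h₀ hh₀ β γ β' γ' e3 with hc | hc
  · apply hHB
    apply mem_diagonal_of_pos hG2 chevData_G2 ws hws
    intro r hr
    obtain ⟨h6, h12⟩ := lt_of_isPosRoot r hr
    simp only [List.map_cons, List.map_nil, List.cons.injEq, and_true] at hc
    obtain ⟨k6, k7, k8, k9, k10, k11⟩ := hc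
    rw [tabs_eq]
    show 6 ≤ _
    interval_cases r
    · rw [k6]
    · rw [k7]; norm_num
    · rw [k8]; norm_num
    · rw [k9]; norm_num
    · rw [k10]; norm_num
    · rw [k11]; norm_num
  · have h1 : nW (F := F) hG2 chevData_G2 (1 :: ws) ∈ chevG2.diagonalSubgroup F := by
      apply mem_diagonal_of_pos hG2 chevData_G2 (1 :: ws)
      · intro i hi
        rcases List.mem_cons.mp hi with rfl | hi
        · decide
        · exact hws i hi
      intro r hr
      obtain ⟨h6, h12⟩ := lt_of_isPosRoot r hr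
      have hv := tab1_vals
      rw [← hc, List.map_map] at hv
      simp only [List.map_cons, List.map_nil, List.cons.injEq, and_true, Function.comp] at hv
      obtain ⟨k6, k7, k8, k9, k10, k11⟩ := hv
      rw [tabs_eq, wordRootF_cons]
      show 6 ≤ _
      interval_cases r
      · rw [k6]
      · rw [k7]; norm_num
      · rw [k8]; norm_num
      · rw [k9]; norm_num
      · rw [k10]; norm_num
      · rw [k11]; norm_num
    rw [nW_cons] at h1
    have e6 : nW (F := F) hG2 chevData_G2 ws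
        = (sG hG2 chevData_G2 1)⁻¹ * (sG hG2 chevData_G2 1 * nW hG2 chevData_G2 ws) := by group
    rw [e6]
    exact mul_mem (inv_mem sG1_mem_parabolic) (hHB h1)

end Cfsg.Agent.Lib.Helper61.ChevJ.G2Short
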