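/-
helper61: the centraliser of the short root element `x_{2a+b}(1)` in the Chevalley group of type G₂ over a field in
which `3 ≠ 0`, third part: the centraliser inside the parabolic subgroup of the long fundamental root, and the result.
-/
import Cfsg.Agent.Lib.Helper61.ChevJ.G2Short2

set_option autoImplicit false

namespace Cfsg.Agent.Lib.Helper61.ChevJ.G2Short

open Cfsg.Lie Cfsg.Agent.Lib.Helper18 Cfsg.Agent.Lib.Helper91.HighRoot Cfsg.Agent.Lib.Helper61.ChevJ

universe u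

variable {F : Type u} [Field F]

/-- The subgroup generated by `X_9, X_10, X_11, X_6, X_5`. -/
def Rsub (F : Type u) [Field F] : Subgroup (GL chevG2.Idx F) :=
  chevG2.rootSubgroup F 9 ⊔ chevG2.rootSubgroup F 10 ⊔ chevG2.rootSubgroup F 11 ⊔ chevG2.rootSubgroup F 6
    ⊔ chevG2.rootSubgroup F 5

theorem xG_mem_Rsub (r : ℕ) (hr : r = 9 ∨ r = 10 ∨ r = 11 ∨ r = 6 ∨ r = 5) (c : F) : xG hG2 r c ∈ Rsub F := by
  have h : xG hG2 r c ∈ chevG2.rootSubgroup F r := (mem_rootSubgroup_iff hG2 r _).mpr ⟨c, rfl⟩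
  unfold Rsub
  rcases hr with rfl | rfl | rfl | rfl | rfl
  · exact Subgroup.mem_sup_left (Subgroup.mem_sup_left (Subgroup.mem_sup_left (Subgroup.mem_sup_left h)))
  · exact Subgroup.mem_sup_left (Subgroup.mem_sup_left (Subgroup.mem_sup_left (Subgroup.mem_sup_right h)))
  · exact Subgroup.mem_sup_left (Subgroup.mem_sup_left (Subgroup.mem_sup_right h))
  · exact Subgroup.mem_sup_left (Subgroup.mem_sup_right h)
  · exact Subgroup.mem_sup_right h

theorem q3_mem_Rsub (a b c : F) : q3 a b c ∈ Rsub F :=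
  mul_mem (mul_mem (xG_mem_Rsub 9 (by simp) a) (xG_mem_Rsub 10 (by simp) b)) (xG_mem_Rsub 11 (by simp) c)

theorem rootSubgroup_le_centralizer (r : ℕ) (hr : r = 9 ∨ r = 10 ∨ r = 11 ∨ r = 6 ∨ r = 5) (a : F) :
    chevG2.rootSubgroup F r ≤ Subgroup.centralizer {xG hG2 9 a} := by
  intro x hx
  obtain ⟨c, rfl⟩ := (mem_rootSubgroup_iff hG2 r x).mp hx
  rw [Subgroup.mem_centralizer_iff]
  intro y hy
  rw [Set.mem_singleton_iff] at hy
  rw [hy]
  rcases hr with rfl | rfl | rfl | rfl | rfl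
  · rw [xG_mul, xG_mul, add_comm]
  · exact (comm_9_10 a c).symm
  · exact (comm_9_11 a c).symm
  · exact (comm_9_6 a c).symm
  · exact (comm_9_5 a c).symm

theorem Rsub_le_centralizer (a : F) : Rsub F ≤ Subgroup.centralizer {xG hG2 9 a} := by
  unfold Rsub
  refine sup_le (sup_le (sup_le (sup_le ?_ ?_) ?_) ?_) ?_
  · exact rootSubgroup_le_centralizer 9 (by simp) a
  · exact rootSubgroup_le_centralizer 10 (by simp) a
  · exact rootSubgroup_le_centralizer 11 (by simp) a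
  · exact rootSubgroup_le_centralizer 6 (by simp) a
  · exact rootSubgroup_le_centralizer 5 (by simp) a

theorem Rsub_le_group : Rsub F ≤ chevG2.group F := by
  have h : ∀ r < 12, chevG2.rootSubgroup F r ≤ chevG2.group F := by
    intro r hr x hx
    obtain ⟨c, rfl⟩ := (mem_rootSubgroup_iff hG2 r x).mp hx
    exact xG_mem_group' hG2 r hr c
  unfold Rsub
  exact sup_le (sup_le (sup_le (sup_le (h 9 (by norm_num)) (h 10 (by norm_num))) (h 11 (by norm_num)))
    (h 6 (by norm_num))) (h 5 (by norm_num))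

theorem comm_of_mem_Rsub (x : GL chevG2.Idx F) (hx : x ∈ Rsub F) (a : F) : x * xG hG2 9 a = xG hG2 9 a * x :=
  (Subgroup.mem_centralizer_iff.mp (Rsub_le_centralizer a hx) _ rfl).symm

/-! ### The root subsystem of the long fundamental root -/

set_option maxRecDepth 100000 in
theorem coroot_zero : ∀ r < 12, (chevG2.coroot.getD r #[]).getD 0 0 = 0 → r = 5 ∨ r = 6 := by decide +kernel

theorem inRootSub_one (r : ℕ) (h : chevG2.InRootSub {1} r) : r = 5 ∨ r = 6 :=
  coroot_zero r h.1 (h.2 0 (by decide) (by simp))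

/-- The subgroup generated by the root subgroups of the root subsystem of the long fundamental root. -/
def Lb (F : Type u) [Field F] : Subgroup (GL chevG2.Idx F) :=
  Subgroup.closure {g | ∃ (r : ℕ) (t : F), chevG2.InRootSub {1} r ∧
    (g : Matrix chevG2.Idx chevG2.Idx F) = chevG2.x F r t}

theorem Lb_le_Rsub : Lb F ≤ Rsub F := by
  unfold Lb
  rw [Subgroup.closure_le]
  rintro g ⟨r, t, hr, hg⟩
  rw [eq_xG hG2 g r t hg]
  rcases inRootSub_one r hr with rfl | rfl
  · exact xG_mem_Rsub 5 (by simp) t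
  · exact xG_mem_Rsub 6 (by simp) t

theorem diagonal_le_normalizer_Lb : chevG2.diagonalSubgroup F ≤ Subgroup.normalizer (Lb F : Set (GL chevG2.Idx F)) := by
  unfold Lb
  rw [Subgroup.le_normalizer_closure_iff]
  rintro h hh g ⟨r, t, hr, hg⟩
  obtain ⟨c', hc'⟩ := Cfsg.Agent.S1036.conj_root_elem chevG2 hG2 h hh g r hr.1 t hg
  exact Subgroup.subset_closure ⟨r, c', hr, hc'⟩


/-! ### The torus -/

set_option maxRecDepth 100000 in
theorem cartan_9 : chevG2.cartan 0 9 = 1 ∧ chevG2.cartan 1 9 = 0 := by decide +kernel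

theorem torusFun_9 (c : ℕ → F) : torusFun chevG2 c (Sum.inr ⟨9, by decide⟩) = c 0 := by
  have h1 : torusFun chevG2 c (Sum.inr ⟨9, by decide⟩)
      = ((List.range chevG2.rank).map fun i => c i ^ chevG2.cartan i 9).prod := rfl
  have h2 : List.range chevG2.rank = [0, 1] := by decide
  rw [h1, h2]
  simp only [List.map_cons, List.map_nil, List.prod_cons, List.prod_nil, cartan_9.1, cartan_9.2, zpow_one,
    zpow_zero, mul_one]

set_option maxRecDepth 100000 in
theorem simple_one : chevG2.simple 1 = 6 ∧ chevG2.neg 6 = 5 := by decide +kernel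

/-- An element of `H` commuting with `x_9(1)` lies in `⟨X_6, X_5⟩`. -/
theorem diag_mem_Rsub (h : GL chevG2.Idx F) (hh : h ∈ chevG2.diagonalSubgroup F)
    (hc : h * xG hG2 9 1 = xG hG2 9 1 * h) : h ∈ Rsub F := by
  obtain ⟨c, hc0, hhc⟩ := Cfsg.Agent.S1034.mem_diagonalSubgroup_torus chevG2 hG2 h hh
  have e1 : h * xG hG2 9 1 = xG hG2 9 (torusFun chevG2 c (Sum.inr ⟨9, by decide⟩) * 1) * h := by
    apply Units.ext
    rw [Units.val_mul, Units.val_mul, coe_xG, coe_xG, hhc]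
    exact torus_mul_x chevG2 hG2 c hc0 9 (by decide) 1
  rw [hc] at e1
  have e2 := xG_inj_param hG2 9 (by decide) _ _ (mul_right_cancel e1)
  rw [mul_one, torusFun_9 c] at e2
  have e3 : h = wordG hG2 (torusWord chevG2 c) := by
    apply Units.ext
    rw [coe_wordG, hhc]
    exact (wordMat_torusWord chevG2 (fun i hi c hc => Cfsg.Agent.S1033.result chevG2 hG2 i hi c hc) c hc0).symm
  rw [e3]
  unfold torusWord
  apply wordG_flatMap_mem
  intro i hi
  have hi' : i < 2 := List.mem_range.mp hi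
  interval_cases i
  · rw [← e2, wordG_hWord_one hG2 0 (by decide)]
    exact one_mem _
  · apply wordG_mem
    intro a ha
    unfold ChevalleyDatum.hWord ChevalleyDatum.nWord at ha
    rw [simple_one.1, simple_one.2] at ha
    simp only [List.cons_append, List.nil_append, List.mem_cons, List.not_mem_nil, or_false] at ha
    rcases ha with rfl | rfl | rfl | rfl | rfl | rfl
    · exact xG_mem_Rsub 6 (by simp) _
    · exact xG_mem_Rsub 5 (by simp) _
    · exact xG_mem_Rsub 6 (by simp) _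
    · exact xG_mem_Rsub 6 (by simp) _
    · exact xG_mem_Rsub 5 (by simp) _
    · exact xG_mem_Rsub 6 (by simp) _

/-! ### The unipotent part -/

/-- An element of `U` commuting with `x_9(1)` lies in `X_6 X_9 X_10 X_11` (when `3 ≠ 0`). -/
theorem unip_mem_Rsub (h3 : (3 : F) ≠ 0) (v : GL chevG2.Idx F) (hv : v ∈ chevG2.posUnipotent F)
    (hc : v * xG hG2 9 1 = xG hG2 9 1 * v) : v ∈ Rsub F := by
  obtain ⟨f, rfl⟩ := exists_prodL hG2 chevData_G2 levelData_G2 [6, 7, 8, 9, 10, 11] posList (by decide)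
    (fun r hr => by
      obtain ⟨h6, h12⟩ := lt_of_isPosRoot r hr
      interval_cases r <;> simp) v hv
  simp only [prodL_cons, prodL_nil, mul_one] at hc ⊢
  have eq : xG hG2 9 (f 9) * (xG hG2 10 (f 10) * xG hG2 11 (f 11)) = q3 (f 9) (f 10) (f 11) := by
    unfold q3; rw [mul_assoc]
  rw [eq] at hc ⊢
  set A := xG hG2 6 (f 6) with hA
  set Y := xG hG2 7 (f 7) with hY
  set Z := xG hG2 8 (f 8) with hZ
  set q := q3 (f 9) (f 10) (f 11) with hq
  set t := xG hG2 9 (1 : F) with ht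
  have cA : A * t = t * A := comm_of_mem_Rsub A (xG_mem_Rsub 6 (by simp) _) 1
  have cq : q * t = t * q := comm_of_mem_Rsub q (q3_mem_Rsub _ _ _) 1
  -- `Y Z` commutes with `t`
  have cYZ : Y * Z * t = t * (Y * Z) := by
    have e1 : Y * Z = A⁻¹ * (A * (Y * (Z * q))) * q⁻¹ := by group
    have cA' : A⁻¹ * t = t * A⁻¹ := by
      rw [inv_mul_eq_iff_eq_mul, ← mul_assoc, cA, mul_assoc, mul_inv_cancel, mul_one]
    have cq' : q⁻¹ * t = t * q⁻¹ := by
      rw [inv_mul_eq_iff_eq_mul, ← mul_assoc, cq, mul_assoc, mul_inv_cancel, mul_one]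
    calc Y * Z * t = A⁻¹ * (A * (Y * (Z * q))) * (q⁻¹ * t) := by rw [e1]; group
      _ = A⁻¹ * ((A * (Y * (Z * q))) * t) * q⁻¹ := by rw [cq']; group
      _ = (A⁻¹ * t) * (A * (Y * (Z * q))) * q⁻¹ := by rw [hc]; group
      _ = t * (A⁻¹ * (A * (Y * (Z * q))) * q⁻¹) := by rw [cA']; group
      _ = t * (Y * Z) := by rw [← e1]
  have cZ : Z * t = t * Z * xG hG2 11 (3 * 1 * f 8) := comm_9_8 1 (f 8)
  have cY : Y * t = t * Y * xG hG2 10 (3 * 1 * f 7) := comm_9_7 1 (f 7)
  have c810 : xG hG2 10 (3 * 1 * f 7) * Z = Z * xG hG2 10 (3 * 1 * f 7) := comm_8_10 (f 8) _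
  have e2 : Y * Z * t = t * (Y * Z) * (xG hG2 10 (3 * 1 * f 7) * xG hG2 11 (3 * 1 * f 8)) := by
    calc Y * Z * t = Y * (Z * t) := by group
      _ = (Y * t) * Z * xG hG2 11 (3 * 1 * f 8) := by rw [cZ]; group
      _ = t * Y * (xG hG2 10 (3 * 1 * f 7) * Z) * xG hG2 11 (3 * 1 * f 8) := by rw [cY]; group
      _ = _ := by rw [c810]; group
  rw [cYZ] at e2
  have e3 : xG hG2 10 (3 * 1 * f 7) * xG hG2 11 (3 * 1 * f 8) = 1 := by
    have := congrArg (fun x => (t * (Y * Z))⁻¹ * x) e2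
    simp only [inv_mul_cancel, inv_mul_cancel_left] at this
    exact this.symm
  have e4 : q3 0 (3 * 1 * f 7) (3 * 1 * f 8) = q3 (0 : F) 0 0 := by
    rw [q3_zero, ← e3]; unfold q3; rw [xG_zero, one_mul]
  obtain ⟨-, k7, k8⟩ := q3_inj _ _ _ _ _ _ e4
  have f7 : f 7 = 0 := by
    rcases mul_eq_zero.mp k7 with h | h
    · exact absurd (by simpa using h) h3
    · exact h
  have f8 : f 8 = 0 := by
    rcases mul_eq_zero.mp k8 with h | h
    · exact absurd (by simpa using h) h3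
    · exact h
  rw [hY, hZ, f7, f8, xG_zero, xG_zero, one_mul, one_mul]
  exact mul_mem (xG_mem_Rsub 6 (by simp) _) (q3_mem_Rsub _ _ _)


/-! ### The centraliser -/

/-- An element of the parabolic subgroup of the long fundamental root commuting with `x_9(1)` lies in
`⟨X_9, X_10, X_11, X_6, X_5⟩`. -/
theorem mem_Rsub_of_parabolic (h3 : (3 : F) ≠ 0) (g : GL chevG2.Idx F)
    (hgP : g ∈ chevG2.parabolicSubgroup F {1}) (hgC : g * xG hG2 9 1 = xG hG2 9 1 * g) : g ∈ Rsub F := by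
  obtain ⟨Y⟩ := nonempty_jData2.{u} chevG2 hG2
  obtain ⟨hN, hsup, -⟩ := Cfsg.Agent.S1048.main (F := F) hG2 {1}
  have hLN : chevG2.leviSubgroup F {1}
      ≤ Subgroup.normalizer (chevG2.unipotentRadical F {1} : Set (GL chevG2.Idx F)) := by
    refine le_trans ?_ hN
    rw [← hsup]
    exact le_sup_right
  have h1 := Subgroup.coe_mul_of_right_le_normalizer_left (chevG2.unipotentRadical F {1})
    (chevG2.leviSubgroup F {1}) hLN
  rw [← hsup, ← SetLike.mem_coe, h1, Set.mem_mul] at hgP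
  obtain ⟨v, hv, l, hl, rfl⟩ := hgP
  rw [SetLike.mem_coe] at hv hl
  have hl2 : l ∈ chevG2.diagonalSubgroup F ⊔ Lb F := hl
  have h2 := Subgroup.coe_mul_of_left_le_normalizer_right (chevG2.diagonalSubgroup F) (Lb F)
    diagonal_le_normalizer_Lb
  rw [← SetLike.mem_coe, h2, Set.mem_mul] at hl2
  obtain ⟨h, hh, l', hl', rfl⟩ := hl2
  rw [SetLike.mem_coe] at hh hl'
  have hvU : v ∈ chevG2.posUnipotent F := unipotentRadical_le_posUnipotent {1} hv
  have cl' : l' * xG hG2 9 1 = xG hG2 9 1 * l' := comm_of_mem_Rsub l' (Lb_le_Rsub hl') 1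
  have cvh : (v * h) * xG hG2 9 1 * (v * h)⁻¹ = xG hG2 9 1 := by
    have e : (v * h) * xG hG2 9 1 * (v * h)⁻¹
        = (v * (h * l')) * xG hG2 9 1 * (v * (h * l'))⁻¹ := by
      have : l' * xG hG2 9 1 * l'⁻¹ = xG hG2 9 1 := by rw [cl']; group
      calc (v * h) * xG hG2 9 1 * (v * h)⁻¹ = (v * h) * (l' * xG hG2 9 1 * l'⁻¹) * (v * h)⁻¹ := by rw [this]
        _ = _ := by group
    rw [e, hgC]
    group
  obtain ⟨χ, hχ⟩ := Cfsg.Agent.S1036.conj_root_elem chevG2 hG2 h hh (xG hG2 9 1) 9 (by decide) 1 rfl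
  have e1 : h * xG hG2 9 1 * h⁻¹ = xG hG2 9 χ := Units.ext hχ
  have e2 : v * xG hG2 9 χ * v⁻¹ = xG hG2 9 1 := by
    calc v * xG hG2 9 χ * v⁻¹ = v * (h * xG hG2 9 1 * h⁻¹) * v⁻¹ := by rw [e1]
      _ = (v * h) * xG hG2 9 1 * (v * h)⁻¹ := by group
      _ = xG hG2 9 1 := cvh
  have hχ1 := Y.eq_of_conj_eq hG2 v hvU 9 (isPosRoot_of 9 (by norm_num) (by norm_num)) χ 1 e2
  rw [hχ1] at e1 e2
  have ch : h * xG hG2 9 1 = xG hG2 9 1 * h := by
    calc h * xG hG2 9 1 = (h * xG hG2 9 1 * h⁻¹) * h := by group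
      _ = xG hG2 9 1 * h := by rw [e1]
  have cv : v * xG hG2 9 1 = xG hG2 9 1 * v := by
    calc v * xG hG2 9 1 = (v * xG hG2 9 1 * v⁻¹) * v := by group
      _ = xG hG2 9 1 * v := by rw [e2]
  exact mul_mem (unip_mem_Rsub h3 v hvU cv) (mul_mem (diag_mem_Rsub h hh ch) (Lb_le_Rsub hl'))

/-- The centraliser of `x_{2a+b}(1)` in the Chevalley group of type G₂ over a field in which `3 ≠ 0`: it is generated
by the root subgroups of `2a+b`, `3a+b`, `3a+2b`, `b` and `-b`. -/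
theorem centralizer_x9 (h3 : (3 : F) ≠ 0) (t : GL chevG2.Idx F)
    (ht : (t : Matrix chevG2.Idx chevG2.Idx F) = chevG2.x F 9 1) :
    chevG2.group F ⊓ Subgroup.centralizer {t}
      = chevG2.rootSubgroup F 9 ⊔ chevG2.rootSubgroup F 10 ⊔ chevG2.rootSubgroup F 11 ⊔ chevG2.rootSubgroup F 6
        ⊔ chevG2.rootSubgroup F 5 := by
  have htx : t = xG hG2 9 1 := eq_xG hG2 t _ _ ht
  subst htx
  show _ = Rsub F
  apply le_antisymm
  · intro g hg
    rw [Subgroup.mem_inf] at hg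
    obtain ⟨hgG, hgC⟩ := hg
    have hc : g * xG hG2 9 1 = xG hG2 9 1 * g := (Subgroup.mem_centralizer_iff.mp hgC _ rfl).symm
    exact mem_Rsub_of_parabolic h3 g (mem_parabolic_of_comm g hgG hc) hc
  · exact le_inf Rsub_le_group (Rsub_le_centralizer 1)

end Cfsg.Agent.Lib.Helper61.ChevJ.G2Short
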