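/-
helper61: the unipotent group `U` of the Chevalley group of type G₂ over a field of characteristic three, in
coordinates: `uu a b c d e f = x_6(a) x_7(b) x_8(c) x_9(d) x_10(e) x_11(f)` (root numbering of the Chevalley data module:
`b = 6`, `a = 7`, `a+b = 8`, `2a+b = 9`, `3a+b = 10`, `3a+2b = 11`), with the multiplication law.
-/
import Cfsg.Agent.Lib.Helper61.ChevJ.G2Short3

set_option autoImplicit false
set_option linter.unusedSectionVars false
set_option linter.unusedSimpArgs false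

namespace Cfsg.Agent.Lib.Helper61.ChevJ.G2Char3

open Cfsg.Lie Cfsg.Agent.Lib.Helper18 Cfsg.Agent.Lib.Helper91.HighRoot Cfsg.Agent.Lib.Helper61.ChevJ
  Cfsg.Agent.Lib.Helper61.ChevJ.G2Short

universe u

variable {F : Type u} [Field F] [CharP F 3]

theorem three_eq_zero' : (3 : F) = 0 := by
  have h := CharP.cast_eq_zero F 3
  exact_mod_cast h

/-! ### Commutator relations in characteristic three -/

set_option maxRecDepth 100000 in
theorem commTerms_6_7 : chevG2.commTerms 6 7 = [(8, 1, 1, 1), (9, 1, 1, 2), (10, -1, 1, 3), (11, -2, 2, 3)] := by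
  decide +kernel

set_option maxRecDepth 100000 in
theorem commTerms_6_10 : chevG2.commTerms 6 10 = [(11, 1, 1, 1)] := by decide +kernel

set_option maxRecDepth 100000 in
theorem commTerms_7_8 : chevG2.commTerms 7 8 = [(9, -2, 1, 1), (10, -3, 2, 1), (11, 3, 1, 2)] := by decide +kernel

set_option maxRecDepth 100000 in
theorem commTerms_mod3 : ∀ p ∈ [(7, 9), (8, 9)], ∀ c ∈ chevG2.commTerms p.1 p.2, c.2.1 % ((3 : ℕ) : ℤ) = 0 := by
  decide +kernel

theorem comm3_7_9 (a b : F) : xG hG2 9 b * xG hG2 7 a = xG hG2 7 a * xG hG2 9 b :=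
  xG_comm_rho (p := 3) hG2 chevData_G2 (CharP.cast_eq_zero F 3) (by decide) 9 (by decide) (by norm_num)
    (by decide) (commTerms_mod3 (7, 9) (by simp)) a b

theorem comm3_8_9 (a b : F) : xG hG2 9 b * xG hG2 8 a = xG hG2 8 a * xG hG2 9 b :=
  xG_comm_rho (p := 3) hG2 chevData_G2 (CharP.cast_eq_zero F 3) (by decide) 9 (by decide) (by norm_num)
    (by decide) (commTerms_mod3 (8, 9) (by simp)) a b

/-- `x_7(b) x_6(t) = x_6(t) x_7(b) x_8(-tb) x_9(-tb²) x_10(tb³) x_11(t²b³)`. -/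
theorem rel_7_6 (t b : F) : xG hG2 7 b * xG hG2 6 t
    = xG hG2 6 t * xG hG2 7 b * (xG hG2 8 (-(t * b)) * (xG hG2 9 (-(t * b ^ 2)) * (xG hG2 10 (t * b ^ 3)
        * xG hG2 11 (t ^ 2 * b ^ 3)))) := by
  have h3 : (3 : F) = 0 := three_eq_zero'
  have h1 := chevData_G2.comm F 6 7 (by decide) (by decide) (by norm_num) (by decide) t b
  apply Units.ext
  simp only [Units.val_mul, coe_xG]
  rw [h1]
  unfold ChevalleyDatum.commWord
  rw [commTerms_6_7]
  simp only [List.map_cons, List.map_nil, wordMat_cons', wordMat_nil', mul_one]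
  have e1 : ((1 : ℤ) : F) * (-t) ^ 1 * b ^ 1 = -(t * b) := by push_cast; ring
  have e2 : ((1 : ℤ) : F) * (-t) ^ 1 * b ^ 2 = -(t * b ^ 2) := by push_cast; ring
  have e3 : ((-1 : ℤ) : F) * (-t) ^ 1 * b ^ 3 = t * b ^ 3 := by push_cast; ring
  have e4 : ((-2 : ℤ) : F) * (-t) ^ 2 * b ^ 3 = t ^ 2 * b ^ 3 := by
    push_cast; linear_combination (-(t ^ 2 * b ^ 3)) * h3
  rw [e1, e2, e3, e4]

/-- `x_10(e) x_6(t) = x_6(t) x_10(e) x_11(-te)`. -/
theorem rel_10_6 (t e : F) : xG hG2 10 e * xG hG2 6 t = xG hG2 6 t * xG hG2 10 e * xG hG2 11 (-(t * e)) := by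
  have h1 := chevData_G2.comm F 6 10 (by decide) (by decide) (by norm_num) (by decide) t e
  apply Units.ext
  simp only [Units.val_mul, coe_xG]
  rw [h1]
  unfold ChevalleyDatum.commWord
  rw [commTerms_6_10]
  simp only [List.map_cons, List.map_nil, wordMat_cons', wordMat_nil', mul_one]
  have e1 : ((1 : ℤ) : F) * (-t) ^ 1 * e ^ 1 = -(t * e) := by push_cast; ring
  rw [e1]

/-- `x_8(c) x_7(t) = x_7(t) x_8(c) x_9(-tc)`. -/
theorem rel_8_7 (t c : F) : xG hG2 8 c * xG hG2 7 t = xG hG2 7 t * xG hG2 8 c * xG hG2 9 (-(t * c)) := by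
  have h3 : (3 : F) = 0 := three_eq_zero'
  have h1 := chevData_G2.comm F 7 8 (by decide) (by decide) (by norm_num) (by decide) t c
  apply Units.ext
  simp only [Units.val_mul, coe_xG]
  rw [h1]
  unfold ChevalleyDatum.commWord
  rw [commTerms_7_8]
  simp only [List.map_cons, List.map_nil, wordMat_cons', wordMat_nil', mul_one]
  have e1 : ((-2 : ℤ) : F) * (-t) ^ 1 * c ^ 1 = -(t * c) := by push_cast; linear_combination (t * c) * h3
  have e2 : ((-3 : ℤ) : F) * (-t) ^ 2 * c ^ 1 = 0 := by push_cast; linear_combination (-(t ^ 2 * c)) * h3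
  have e3 : ((3 : ℤ) : F) * (-t) ^ 1 * c ^ 2 = 0 := by push_cast; linear_combination (-(t * c ^ 2)) * h3
  rw [e1, e2, e3, x_zero hG2, one_mul, x_zero hG2, mul_one]

/-! ### Collection rules: `x_j(y) x_i(t)` with `i < j` -/

theorem c_8_6 (t y : F) : xG hG2 8 y * xG hG2 6 t = xG hG2 6 t * xG hG2 8 y := comm_6_8 t y

theorem c_8_6' (t y : F) (z : GL chevG2.Idx F) :
    xG hG2 8 y * (xG hG2 6 t * z) = xG hG2 6 t * (xG hG2 8 y * z) := by
  rw [← mul_assoc, c_8_6, mul_assoc]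

theorem c_9_6 (t y : F) : xG hG2 9 y * xG hG2 6 t = xG hG2 6 t * xG hG2 9 y := (comm_9_6 y t).symm

theorem c_9_6' (t y : F) (z : GL chevG2.Idx F) :
    xG hG2 9 y * (xG hG2 6 t * z) = xG hG2 6 t * (xG hG2 9 y * z) := by
  rw [← mul_assoc, c_9_6, mul_assoc]

theorem c_11_6 (t y : F) : xG hG2 11 y * xG hG2 6 t = xG hG2 6 t * xG hG2 11 y := comm_6_11 t y

theorem c_11_6' (t y : F) (z : GL chevG2.Idx F) :
    xG hG2 11 y * (xG hG2 6 t * z) = xG hG2 6 t * (xG hG2 11 y * z) := by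
  rw [← mul_assoc, c_11_6, mul_assoc]

theorem c_10_7 (t y : F) : xG hG2 10 y * xG hG2 7 t = xG hG2 7 t * xG hG2 10 y := comm_7_10 t y

theorem c_10_7' (t y : F) (z : GL chevG2.Idx F) :
    xG hG2 10 y * (xG hG2 7 t * z) = xG hG2 7 t * (xG hG2 10 y * z) := by
  rw [← mul_assoc, c_10_7, mul_assoc]

theorem c_11_7 (t y : F) : xG hG2 11 y * xG hG2 7 t = xG hG2 7 t * xG hG2 11 y := comm_7_11 t y

theorem c_11_7' (t y : F) (z : GL chevG2.Idx F) :
    xG hG2 11 y * (xG hG2 7 t * z) = xG hG2 7 t * (xG hG2 11 y * z) := by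
  rw [← mul_assoc, c_11_7, mul_assoc]

theorem c_10_8 (t y : F) : xG hG2 10 y * xG hG2 8 t = xG hG2 8 t * xG hG2 10 y := comm_8_10 t y

theorem c_10_8' (t y : F) (z : GL chevG2.Idx F) :
    xG hG2 10 y * (xG hG2 8 t * z) = xG hG2 8 t * (xG hG2 10 y * z) := by
  rw [← mul_assoc, c_10_8, mul_assoc]

theorem c_11_8 (t y : F) : xG hG2 11 y * xG hG2 8 t = xG hG2 8 t * xG hG2 11 y := comm_8_11 t y

theorem c_11_8' (t y : F) (z : GL chevG2.Idx F) :
    xG hG2 11 y * (xG hG2 8 t * z) = xG hG2 8 t * (xG hG2 11 y * z) := by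
  rw [← mul_assoc, c_11_8, mul_assoc]

theorem c_10_9 (t y : F) : xG hG2 10 y * xG hG2 9 t = xG hG2 9 t * xG hG2 10 y := comm_9_10 t y

theorem c_10_9' (t y : F) (z : GL chevG2.Idx F) :
    xG hG2 10 y * (xG hG2 9 t * z) = xG hG2 9 t * (xG hG2 10 y * z) := by
  rw [← mul_assoc, c_10_9, mul_assoc]

theorem c_11_9 (t y : F) : xG hG2 11 y * xG hG2 9 t = xG hG2 9 t * xG hG2 11 y := comm_9_11 t y

theorem c_11_9' (t y : F) (z : GL chevG2.Idx F) :
    xG hG2 11 y * (xG hG2 9 t * z) = xG hG2 9 t * (xG hG2 11 y * z) := by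
  rw [← mul_assoc, c_11_9, mul_assoc]

theorem c_11_10 (t y : F) : xG hG2 11 y * xG hG2 10 t = xG hG2 10 t * xG hG2 11 y := comm_10_11 t y

theorem c_11_10' (t y : F) (z : GL chevG2.Idx F) :
    xG hG2 11 y * (xG hG2 10 t * z) = xG hG2 10 t * (xG hG2 11 y * z) := by
  rw [← mul_assoc, c_11_10, mul_assoc]

theorem c_9_7 (t y : F) : xG hG2 9 y * xG hG2 7 t = xG hG2 7 t * xG hG2 9 y := comm3_7_9 t y

theorem c_9_7' (t y : F) (z : GL chevG2.Idx F) :
    xG hG2 9 y * (xG hG2 7 t * z) = xG hG2 7 t * (xG hG2 9 y * z) := by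
  rw [← mul_assoc, c_9_7, mul_assoc]

theorem c_9_8 (t y : F) : xG hG2 9 y * xG hG2 8 t = xG hG2 8 t * xG hG2 9 y := comm3_8_9 t y

theorem c_9_8' (t y : F) (z : GL chevG2.Idx F) :
    xG hG2 9 y * (xG hG2 8 t * z) = xG hG2 8 t * (xG hG2 9 y * z) := by
  rw [← mul_assoc, c_9_8, mul_assoc]


theorem r_7_6 (t b : F) : xG hG2 7 b * xG hG2 6 t
    = xG hG2 6 t * (xG hG2 7 b * (xG hG2 8 (-(t * b)) * (xG hG2 9 (-(t * b ^ 2)) * (xG hG2 10 (t * b ^ 3)
        * xG hG2 11 (t ^ 2 * b ^ 3))))) := by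
  rw [rel_7_6, mul_assoc]

theorem r_7_6' (t b : F) (z : GL chevG2.Idx F) : xG hG2 7 b * (xG hG2 6 t * z)
    = xG hG2 6 t * (xG hG2 7 b * (xG hG2 8 (-(t * b)) * (xG hG2 9 (-(t * b ^ 2)) * (xG hG2 10 (t * b ^ 3)
        * (xG hG2 11 (t ^ 2 * b ^ 3) * z))))) := by
  rw [← mul_assoc, rel_7_6]
  simp only [mul_assoc]

theorem r_10_6 (t e : F) : xG hG2 10 e * xG hG2 6 t = xG hG2 6 t * (xG hG2 10 e * xG hG2 11 (-(t * e))) := by
  rw [rel_10_6, mul_assoc]

theorem r_10_6' (t e : F) (z : GL chevG2.Idx F) : xG hG2 10 e * (xG hG2 6 t * z)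
    = xG hG2 6 t * (xG hG2 10 e * (xG hG2 11 (-(t * e)) * z)) := by
  rw [← mul_assoc, rel_10_6]
  simp only [mul_assoc]

theorem r_8_7 (t c : F) : xG hG2 8 c * xG hG2 7 t = xG hG2 7 t * (xG hG2 8 c * xG hG2 9 (-(t * c))) := by
  rw [rel_8_7, mul_assoc]

theorem r_8_7' (t c : F) (z : GL chevG2.Idx F) : xG hG2 8 c * (xG hG2 7 t * z)
    = xG hG2 7 t * (xG hG2 8 c * (xG hG2 9 (-(t * c)) * z)) := by
  rw [← mul_assoc, rel_8_7]
  simp only [mul_assoc]

theorem m_x (r : ℕ) (s t : F) (z : GL chevG2.Idx F) : xG hG2 r s * (xG hG2 r t * z) = xG hG2 r (s + t) * z := by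
  rw [← mul_assoc, xG_mul]

/-- The element with coordinates `(a, b, c, d, e, f)`. -/
noncomputable def uu (a b c d e f : F) : GL chevG2.Idx F :=
  xG hG2 6 a * (xG hG2 7 b * (xG hG2 8 c * (xG hG2 9 d * (xG hG2 10 e * xG hG2 11 f))))

theorem uu_congr {a b c d e f a' b' c' d' e' f' : F} (h1 : a = a') (h2 : b = b') (h3 : c = c') (h4 : d = d')
    (h5 : e = e') (h6 : f = f') : uu a b c d e f = uu a' b' c' d' e' f' := by
  rw [h1, h2, h3, h4, h5, h6]

theorem uu_mul_x11 (a b c d e f t : F) : uu a b c d e f * xG hG2 11 t = uu a b c d e (f + t) := by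
  unfold uu
  simp only [mul_assoc, c_8_6, c_8_6', c_9_6, c_9_6', c_11_6, c_11_6', c_10_7, c_10_7', c_11_7, c_11_7', c_10_8, c_10_8',
    c_11_8, c_11_8', c_10_9, c_10_9', c_11_9, c_11_9', c_11_10, c_11_10', c_9_7, c_9_7', c_9_8, c_9_8', r_7_6, r_7_6',
    r_10_6, r_10_6', r_8_7, r_8_7', m_x, xG_mul]

theorem uu_mul_x10 (a b c d e f t : F) : uu a b c d e f * xG hG2 10 t = uu a b c d (e + t) f := by
  unfold uu
  simp only [mul_assoc, c_8_6, c_8_6', c_9_6, c_9_6', c_11_6, c_11_6', c_10_7, c_10_7', c_11_7, c_11_7', c_10_8, c_10_8',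
    c_11_8, c_11_8', c_10_9, c_10_9', c_11_9, c_11_9', c_11_10, c_11_10', c_9_7, c_9_7', c_9_8, c_9_8', r_7_6, r_7_6',
    r_10_6, r_10_6', r_8_7, r_8_7', m_x, xG_mul]

theorem uu_mul_x9 (a b c d e f t : F) : uu a b c d e f * xG hG2 9 t = uu a b c (d + t) e f := by
  unfold uu
  simp only [mul_assoc, c_8_6, c_8_6', c_9_6, c_9_6', c_11_6, c_11_6', c_10_7, c_10_7', c_11_7, c_11_7', c_10_8, c_10_8',
    c_11_8, c_11_8', c_10_9, c_10_9', c_11_9, c_11_9', c_11_10, c_11_10', c_9_7, c_9_7', c_9_8, c_9_8', r_7_6, r_7_6',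
    r_10_6, r_10_6', r_8_7, r_8_7', m_x, xG_mul]

theorem uu_mul_x8 (a b c d e f t : F) : uu a b c d e f * xG hG2 8 t = uu a b (c + t) d e f := by
  unfold uu
  simp only [mul_assoc, c_8_6, c_8_6', c_9_6, c_9_6', c_11_6, c_11_6', c_10_7, c_10_7', c_11_7, c_11_7', c_10_8, c_10_8',
    c_11_8, c_11_8', c_10_9, c_10_9', c_11_9, c_11_9', c_11_10, c_11_10', c_9_7, c_9_7', c_9_8, c_9_8', r_7_6, r_7_6',
    r_10_6, r_10_6', r_8_7, r_8_7', m_x, xG_mul]

theorem uu_mul_x7 (a b c d e f t : F) : uu a b c d e f * xG hG2 7 t = uu a (b + t) c (d - t * c) e f := by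
  unfold uu
  simp only [mul_assoc, c_8_6, c_8_6', c_9_6, c_9_6', c_11_6, c_11_6', c_10_7, c_10_7', c_11_7, c_11_7', c_10_8, c_10_8',
    c_11_8, c_11_8', c_10_9, c_10_9', c_11_9, c_11_9', c_11_10, c_11_10', c_9_7, c_9_7', c_9_8, c_9_8', r_7_6, r_7_6',
    r_10_6, r_10_6', r_8_7, r_8_7', m_x, xG_mul]
  exact uu_congr rfl rfl rfl (by ring) (by ring) (by ring)

theorem uu_mul_x6 (a b c d e f t : F) :
    uu a b c d e f * xG hG2 6 t
      = uu (a + t) b (c - t * b) (d - t * b ^ 2) (e + t * b ^ 3) (f + t ^ 2 * b ^ 3 - t * e) := by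
  unfold uu
  simp only [mul_assoc, c_8_6, c_8_6', c_9_6, c_9_6', c_11_6, c_11_6', c_10_7, c_10_7', c_11_7, c_11_7', c_10_8, c_10_8',
    c_11_8, c_11_8', c_10_9, c_10_9', c_11_9, c_11_9', c_11_10, c_11_10', c_9_7, c_9_7', c_9_8, c_9_8', r_7_6, r_7_6',
    r_10_6, r_10_6', r_8_7, r_8_7', m_x, xG_mul]
  exact uu_congr rfl rfl (by ring) (by ring) (by ring) (by ring)

/-- The multiplication law of `U` in characteristic three. -/
theorem uu_mul (a b c d e f a1 b1 c1 d1 e1 f1 : F) :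
    uu a b c d e f * uu a1 b1 c1 d1 e1 f1
      = uu (a + a1) (b + b1) (c + c1 - a1 * b) (d + d1 - a1 * b ^ 2 + a1 * b * b1 - b1 * c)
          (e + e1 + a1 * b ^ 3) (f + f1 - a1 * e + a1 ^ 2 * b ^ 3) := by
  have h : uu a1 b1 c1 d1 e1 f1
      = xG hG2 6 a1 * xG hG2 7 b1 * xG hG2 8 c1 * xG hG2 9 d1 * xG hG2 10 e1 * xG hG2 11 f1 := by
    unfold uu
    simp only [mul_assoc]
  rw [h]
  simp only [← mul_assoc]
  rw [uu_mul_x6, uu_mul_x7, uu_mul_x8, uu_mul_x9, uu_mul_x10, uu_mul_x11]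
  exact uu_congr (by ring) (by ring) (by ring) (by ring) (by ring) (by ring)

omit [CharP F 3] in
theorem uu_zero : uu (0 : F) 0 0 0 0 0 = 1 := by
  unfold uu
  simp only [xG_zero, mul_one]

/-- The coefficient function of `uu a b c d e f`. -/
def cf (a b c d e f : F) : ℕ → F :=
  fun r => if r = 6 then a else if r = 7 then b else if r = 8 then c else if r = 9 then d else if r = 10 then e
    else if r = 11 then f else 0

omit [CharP F 3] in
theorem uu_eq_prodL (a b c d e f : F) : uu a b c d e f = prodL hG2 [6, 7, 8, 9, 10, 11] (cf a b c d e f) := by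
  simp [prodL_cons, prodL_nil, uu, cf]

omit [CharP F 3] in
theorem uu_inj {a b c d e f a' b' c' d' e' f' : F} (h : uu a b c d e f = uu a' b' c' d' e' f') :
    a = a' ∧ b = b' ∧ c = c' ∧ d = d' ∧ e = e' ∧ f = f' := by
  rw [uu_eq_prodL, uu_eq_prodL] at h
  have := prodL_injective hG2 (lexOK_of_mem _ hG2) (bezOK_of_mem _ hG2) _ posList (by decide) _ _ h
  refine ⟨?_, ?_, ?_, ?_, ?_, ?_⟩
  · simpa [cf] using this 6 (by simp)
  · simpa [cf] using this 7 (by simp)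
  · simpa [cf] using this 8 (by simp)
  · simpa [cf] using this 9 (by simp)
  · simpa [cf] using this 10 (by simp)
  · simpa [cf] using this 11 (by simp)

omit [CharP F 3] in
theorem exists_uu (g : GL chevG2.Idx F) (hg : g ∈ chevG2.posUnipotent F) :
    ∃ a b c d e f : F, g = uu a b c d e f := by
  obtain ⟨t, rfl⟩ := exists_prodL hG2 chevData_G2 levelData_G2 [6, 7, 8, 9, 10, 11] posList (by decide)
    (fun r hr => by
      obtain ⟨h6, h12⟩ := lt_of_isPosRoot r hr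
      interval_cases r <;> simp) g hg
  exact ⟨t 6, t 7, t 8, t 9, t 10, t 11, by simp [prodL_cons, prodL_nil, uu]⟩

omit [CharP F 3] in
theorem uu_mem_U (a b c d e f : F) : uu a b c d e f ∈ chevG2.posUnipotent F := by
  unfold uu
  exact mul_mem (xG_mem_U 6 (by norm_num) (by norm_num) _) (mul_mem (xG_mem_U 7 (by norm_num) (by norm_num) _)
    (mul_mem (xG_mem_U 8 (by norm_num) (by norm_num) _) (mul_mem (xG_mem_U 9 (by norm_num) (by norm_num) _)
    (mul_mem (xG_mem_U 10 (by norm_num) (by norm_num) _) (xG_mem_U 11 (by norm_num) (by norm_num) _)))))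

omit [CharP F 3] in
theorem x6_eq (t : F) : xG hG2 6 t = uu t 0 0 0 0 0 := by unfold uu; simp only [xG_zero, mul_one]
omit [CharP F 3] in
theorem x7_eq (t : F) : xG hG2 7 t = uu 0 t 0 0 0 0 := by unfold uu; simp only [xG_zero, mul_one, one_mul]
omit [CharP F 3] in
theorem x8_eq (t : F) : xG hG2 8 t = uu 0 0 t 0 0 0 := by unfold uu; simp only [xG_zero, mul_one, one_mul]
omit [CharP F 3] in
theorem x9_eq (t : F) : xG hG2 9 t = uu 0 0 0 t 0 0 := by unfold uu; simp only [xG_zero, mul_one, one_mul]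
omit [CharP F 3] in
theorem x10_eq (t : F) : xG hG2 10 t = uu 0 0 0 0 t 0 := by unfold uu; simp only [xG_zero, mul_one, one_mul]
omit [CharP F 3] in
theorem x11_eq (t : F) : xG hG2 11 t = uu 0 0 0 0 0 t := by unfold uu; simp only [xG_zero, one_mul]

end Cfsg.Agent.Lib.Helper61.ChevJ.G2Char3
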