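/-
helper61: the elements of the unipotent group `U` of G₂ (characteristic three) fixed by the exceptional graph-field
map `x_r(t) ↦ x_{ρ r}(t^{λ(r) θ})`: they are the elements `reeWordU θ t u v` of the small Ree group.
-/
import Cfsg.Agent.Lib.Helper61.ChevJ.G2Char3
import Cfsg.Prelude.Def_LieTwisted

set_option autoImplicit false
set_option linter.unusedSectionVars false

namespace Cfsg.Agent.Lib.Helper61.ChevJ.G2Char3

open Cfsg.Lie Cfsg.Agent.Lib.Helper18 Cfsg.Agent.Lib.Helper91.HighRoot Cfsg.Agent.Lib.Helper61.ChevJ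
  Cfsg.Agent.Lib.Helper61.ChevJ.G2Short

universe u

variable {K : Type u} [Field K] [CharP K 3]

/-- The element `x_7(T) x_6(t) x_8(X) x_9(Y) x_10(u) x_11(v)` in coordinates. -/
theorem ree_order_eq (T t X Y u v : K) :
    xG hG2 7 T * xG hG2 6 t * xG hG2 8 X * xG hG2 9 Y * xG hG2 10 u * xG hG2 11 v
      = uu t T (X - T * t) (Y - T ^ 2 * t) (u + T ^ 3 * t) (v + T ^ 3 * t ^ 2) := by
  rw [x7_eq, x6_eq, x8_eq, x9_eq, x10_eq, x11_eq, uu_mul, uu_mul, uu_mul, uu_mul, uu_mul]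
  exact uu_congr (by ring) (by ring) (by ring) (by ring) (by ring) (by ring)

/-- The element `x_7(A) x_6(B) x_10(C) x_11(D) x_8(E) x_9(F)` in coordinates. -/
theorem sigma_order_eq (A B C D E F' : K) :
    xG hG2 7 A * xG hG2 6 B * xG hG2 10 C * xG hG2 11 D * xG hG2 8 E * xG hG2 9 F'
      = uu B A (E - A * B) (F' - A ^ 2 * B) (C + A ^ 3 * B) (D + A ^ 3 * B ^ 2) := by
  rw [x7_eq, x6_eq, x8_eq, x9_eq, x10_eq, x11_eq, uu_mul, uu_mul, uu_mul, uu_mul, uu_mul]
  exact uu_congr (by ring) (by ring) (by ring) (by ring) (by ring) (by ring)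

/-- The generating elements of the small Ree group in `U`, in coordinates. -/
theorem wordG_reeWordU (θ : ℕ) (t u v : K) :
    wordG hG2 (reeWordU θ t u v)
      = uu t (t ^ θ) (u ^ θ) (v ^ θ) (u + (t ^ θ) ^ 3 * t) (v + (t ^ θ) ^ 3 * t ^ 2) := by
  unfold reeWordU g2a g2b g2ab g2aab g2aaab g2aaabb
  simp only [wordG_cons, wordG_nil, mul_one]
  simp only [← mul_assoc]
  rw [ree_order_eq]
  exact uu_congr rfl rfl (by ring) (by ring) rfl rfl

/-- An element of `U` equal to its image under `x_r(t) ↦ x_{ρ r}(t^{λ(r) θ})` is of the form `reeWordU θ t u v`. -/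
theorem ree_of_fixed (θ : ℕ) (hq : ∀ x : K, (x ^ (3 * θ)) ^ θ = x) (a b c d e f : K)
    (h : uu a b c d e f = xG hG2 7 (a ^ θ) * xG hG2 6 (b ^ (3 * θ)) * xG hG2 10 (c ^ (3 * θ))
      * xG hG2 11 (d ^ (3 * θ)) * xG hG2 8 (e ^ θ) * xG hG2 9 (f ^ θ)) :
    uu a b c d e f = wordG hG2 (reeWordU θ a (c ^ (3 * θ)) (d ^ (3 * θ))) := by
  rw [sigma_order_eq] at h
  obtain ⟨h1, h2, -, -, h5, h6⟩ := uu_inj h
  rw [wordG_reeWordU]
  refine uu_congr rfl h2 (hq c).symm (hq d).symm ?_ ?_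
  · rw [h5, ← h1]
  · rw [h6, ← h1]

/-- The parameters of `reeWordU θ t u v` are determined by the element. -/
theorem reeWordU_inj (θ : ℕ) (t u v t' u' v' : K)
    (h : wordG hG2 (reeWordU θ t u v) = wordG hG2 (reeWordU θ t' u' v')) : t = t' ∧ u = u' ∧ v = v' := by
  rw [wordG_reeWordU, wordG_reeWordU] at h
  obtain ⟨h1, -, -, -, h5, h6⟩ := uu_inj h
  subst h1
  exact ⟨rfl, add_right_cancel h5, add_right_cancel h6⟩

omit [CharP K 3] in
theorem wordG_reeWordU_mem_U (θ : ℕ) (t u v : K) : wordG hG2 (reeWordU θ t u v) ∈ chevG2.posUnipotent K := by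
  apply wordG_mem
  intro a ha
  unfold reeWordU g2a g2b g2ab g2aab g2aaab g2aaabb at ha
  simp only [List.mem_cons, List.not_mem_nil, or_false] at ha
  rcases ha with rfl | rfl | rfl | rfl | rfl | rfl <;> exact xG_mem_U _ (by norm_num) (by norm_num) _

omit [CharP K 3] in
theorem wordG_reeWordU_mem_twisted (θ : ℕ) (t u v : K) : wordG hG2 (reeWordU θ t u v) ∈ twistedG2 K θ :=
  Subgroup.subset_closure ⟨reeWordU θ t u v, ⟨t, u, v, Or.inl rfl⟩, coe_wordG hG2 _⟩

end Cfsg.Agent.Lib.Helper61.ChevJ.G2Char3
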