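/-
helper61: the diagonal elements of G₂(K) fixed by the twisting automorphism `σ` of helper91 (`|K| = 3^(2m+1)`,
`θ = 3^m`): they are the elements `h_a(μ^θ) h_b(μ)`, `μ ∈ Kˣ`, and there are `q - 1` of them. Torus parametrisation of
helper18 (`torusHom`), which is injective for type G₂.
-/
import Cfsg.Agent.Lib.Helper91.ReeFixed
import Cfsg.Agent.Lib.Helper18.TorusHom

set_option autoImplicit false
set_option linter.unusedSectionVars false

namespace Cfsg.Agent.Lib.Helper61.ChevJ.G2ReeH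

open Cfsg.Lie Cfsg.Agent.Lib.Helper18 Cfsg.Agent.Lib.Helper91.Ree Cfsg.Agent.S1099

universe u

section Torus

variable {K : Type u} [Field K]

theorem cartan_vals : chevG2.cartan 0 7 = 2 ∧ chevG2.cartan 1 7 = -1 ∧ chevG2.cartan 0 8 = -1 ∧
    chevG2.cartan 1 8 = 1 := by decide

theorem prod_two (c : Fin 2 → Kˣ) (f : Fin 2 → ℤ) : ∏ i : Fin 2, c i ^ f i = c 0 ^ f 0 * c 1 ^ f 1 :=
  Fin.prod_univ_two _

/-- The torus parametrisation is injective in type G₂. -/
theorem torusHom_injective : Function.Injective (torusHom chevG2 K) := by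
  rw [injective_iff_map_eq_one]
  intro c hc
  have h := (mem_ker_torusHom chevG2 c).mp (MonoidHom.mem_ker.mpr hc)
  have h7 := h ⟨7, by decide⟩
  have h8 := h ⟨8, by decide⟩
  unfold chiU at h7 h8
  obtain ⟨e1, e2, e3, e4⟩ := cartan_vals
  have h7' : c (0 : Fin 2) ^ (2 : ℤ) * c (1 : Fin 2) ^ (-1 : ℤ) = 1 := by
    have := (prod_two c (fun i => chevG2.cartan i 7)).symm.trans h7
    simpa [e1, e2] using this
  have h8' : c (0 : Fin 2) ^ (-1 : ℤ) * c (1 : Fin 2) ^ (1 : ℤ) = 1 := by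
    have := (prod_two c (fun i => chevG2.cartan i 8)).symm.trans h8
    simpa [e3, e4] using this
  have h10 : c (1 : Fin 2) = c (0 : Fin 2) := by
    rw [zpow_neg_one, zpow_one, inv_mul_eq_one] at h8'
    exact h8'.symm
  have h0 : c (0 : Fin 2) = 1 := by
    rw [h10, zpow_neg_one, zpow_two, mul_assoc, mul_inv_cancel, mul_one] at h7'
    exact h7'
  funext i
  have hi : ∀ j : Fin 2, c j = 1 := by
    intro j
    fin_cases j
    · exact h0
    · show c (1 : Fin 2) = 1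
      rw [h10, h0]
  exact hi i

/-- The pair `(x, y)` as a function on the fundamental roots. -/
def vec2 (x y : Kˣ) : Fin chevG2.rank → Kˣ := fun i => if i.1 = 0 then x else y

theorem vec2_zero (x y : Kˣ) : vec2 x y ⟨0, by decide⟩ = x := rfl

theorem vec2_one (x y : Kˣ) : vec2 x y ⟨1, by decide⟩ = y := rfl

theorem eq_vec2 (c : Fin chevG2.rank → Kˣ) : c = vec2 (c ⟨0, by decide⟩) (c ⟨1, by decide⟩) := by
  funext i
  obtain ⟨i, hi⟩ := i
  change i < 2 at hi
  interval_cases i <;> rfl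

/-- The torus element with parameters `x` (on `a`) and `y` (on `b`). -/
noncomputable def tor (x y : Kˣ) : GL chevG2.Idx K := torusHom chevG2 K (vec2 x y)

theorem tor_injective {x y x' y' : Kˣ} (h : tor x y = tor x' y') : x = x' ∧ y = y' := by
  have h1 := torusHom_injective h
  exact ⟨congrFun h1 ⟨0, by decide⟩, congrFun h1 ⟨1, by decide⟩⟩

theorem hMat_diag (i : ℕ) (hi : i < 2) (c : K) (hc : c ≠ 0) :
    chevG2.hMat K (chevG2.simple i) c
      = Matrix.diagonal (Sum.elim (fun _ => (1 : K)) (fun s : Fin chevG2.nroots => c ^ (chevG2.cartan i s))) :=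
  Cfsg.Agent.S1033.result chevG2 hD2 i hi c hc

/-- `tor x y = h_a(x) h_b(y)` as a word. -/
theorem tor_eq_wordG (x y : Kˣ) :
    tor x y = wordG hD2 (chevG2.hWord 7 (x : K) ++ chevG2.hWord 6 (y : K)) := by
  apply Units.ext
  unfold tor
  rw [coe_torusHom, coe_wordG]
  have h := wordMat_torusWord chevG2 (fun i hi c hc => hMat_diag i hi c hc)
    (extC chevG2.rank (vec2 x y)) (fun i _ => extC_ne_zero _ _ i)
  have e : torusWord chevG2 (extC chevG2.rank (vec2 x y))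
      = chevG2.hWord 7 (x : K) ++ chevG2.hWord 6 (y : K) := by
    unfold torusWord
    show (List.range 2).flatMap _ = _
    have e0 : extC chevG2.rank (vec2 x y) 0 = (x : K) := by rw [extC_of_lt _ _ 0 (by decide)]; rfl
    have e1 : extC chevG2.rank (vec2 x y) 1 = (y : K) := by rw [extC_of_lt _ _ 1 (by decide)]; rfl
    simp only [List.range_succ, List.range_zero, List.nil_append, List.flatMap_cons, List.flatMap_nil,
      List.append_nil, List.cons_append, e0, e1]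
    rfl
  rw [← e, h]

/-- `h_b(y) h_a(x)` is the same element. -/
theorem tor_eq_wordG' (x y : Kˣ) :
    tor x y = wordG hD2 (chevG2.hWord 6 (y : K) ++ chevG2.hWord 7 (x : K)) := by
  rw [tor_eq_wordG]
  apply Units.ext
  rw [coe_wordG, coe_wordG]
  unfold ChevalleyDatum.wordMat
  rw [List.map_append, List.prod_append, List.map_append, List.prod_append]
  have h7 := hMat_diag 0 (by norm_num) (x : K) x.ne_zero
  have h6 := hMat_diag 1 (by norm_num) (y : K) y.ne_zero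
  unfold ChevalleyDatum.hMat ChevalleyDatum.wordMat at h7 h6
  have s0 : chevG2.simple 0 = 7 := rfl
  have s1 : chevG2.simple 1 = 6 := rfl
  rw [s0] at h7
  rw [s1] at h6
  rw [h7, h6, Matrix.diagonal_mul_diagonal, Matrix.diagonal_mul_diagonal]
  congr 1
  funext j
  exact mul_comm _ _

end Torus

section Sigma

variable {K : Type u} [Field K]

theorem g2lam_neg (r : ℕ) (hr : r < 12) : g2lam (chevG2.neg r) = g2lam r := by
  interval_cases r <;> decide

theorem mapWord_append (e : ℕ) (w w' : List (ℕ × K)) : mapWord e (w ++ w') = mapWord e w ++ mapWord e w' := by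
  unfold mapWord
  rw [List.map_append]

/-- The image of the word `h_r(t)` under `x_r(t) ↦ x_{ρ r}(t^(λ(r) e))`, `e` odd. -/
theorem mapWord_hWord (e : ℕ) (he : Odd e) (r : ℕ) (hr : r < 12) (t : K) :
    mapWord e (chevG2.hWord r t) = chevG2.hWord (g2rho r) (t ^ (g2lam r * e)) := by
  have hk : Odd (g2lam r * e) := (g2lam_odd r).mul he
  unfold ChevalleyDatum.hWord ChevalleyDatum.nWord mapWord
  simp only [List.map_append, List.map_cons, List.map_nil, g2rho_neg r hr, g2lam_neg r hr, hk.neg_pow, inv_pow,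
    one_pow]

theorem hWord_lt (r : ℕ) (hr : r < 12) (t : K) : ∀ a ∈ chevG2.hWord r t, a.1 < 12 := by
  intro a ha
  unfold ChevalleyDatum.hWord ChevalleyDatum.nWord at ha
  have hn : chevG2.neg r < 12 := by interval_cases r <;> decide
  simp only [List.cons_append, List.nil_append, List.mem_cons, List.not_mem_nil, or_false] at ha
  rcases ha with rfl | rfl | rfl | rfl | rfl | rfl <;> assumption

theorem torWord_lt (x y : K) : ∀ a ∈ chevG2.hWord 7 x ++ chevG2.hWord 6 y, a.1 < 12 := by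
  intro a ha
  rw [List.mem_append] at ha
  rcases ha with ha | ha
  · exact hWord_lt 7 (by norm_num) x a ha
  · exact hWord_lt 6 (by norm_num) y a ha

theorem tor_mem_group (x y : Kˣ) : tor x y ∈ chevG2.group K := by
  rw [tor_eq_wordG]
  exact wordG_mem _ (torWord_lt _ _)

variable [Fintype K] [CharP K 3]

/-- `σ(h_a(x) h_b(y)) = h_a(y^θ) h_b(x^{3θ})`. -/
theorem reeSigma_tor (m : ℕ) (x y : Kˣ) :
    reeSigma K m ⟨tor x y, tor_mem_group x y⟩ = ⟨tor (y ^ 3 ^ m) (x ^ (3 * 3 ^ m)), tor_mem_group _ _⟩ := by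
  have e : (⟨tor x y, tor_mem_group x y⟩ : ↥(chevG2.group K))
      = ⟨wordG hD2 (chevG2.hWord 7 (x : K) ++ chevG2.hWord 6 (y : K)), wordG_mem _ (torWord_lt _ _)⟩ :=
    Subtype.ext (tor_eq_wordG x y)
  rw [e, reeSigma_wordG K m _ (torWord_lt _ _)]
  apply Subtype.ext
  show wordG hD2 (mapWord (3 ^ m) (chevG2.hWord 7 (x : K) ++ chevG2.hWord 6 (y : K))) = tor _ _
  rw [mapWord_append, mapWord_hWord _ (odd_three_pow m) 7 (by norm_num), mapWord_hWord _ (odd_three_pow m) 6 (by norm_num),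
    tor_eq_wordG']
  have e1 : g2rho 7 = 6 := by decide
  have e2 : g2rho 6 = 7 := by decide
  have e3 : g2lam 7 = 3 := by decide
  have e4 : g2lam 6 = 1 := by decide
  rw [e1, e2, e3, e4, one_mul, Units.val_pow_eq_pow_val, Units.val_pow_eq_pow_val]

/-- A torus element is fixed by `σ` iff its parameters are `(μ^θ, μ)`. -/
theorem fixed_tor_iff (m : ℕ) (hq : ∀ t : K, t ^ (3 * 3 ^ m * 3 ^ m) = t) (x y : Kˣ) :
    reeSigma K m ⟨tor x y, tor_mem_group x y⟩ = ⟨tor x y, tor_mem_group x y⟩ ↔ x = y ^ 3 ^ m := by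
  rw [reeSigma_tor, Subtype.ext_iff]
  constructor
  · intro h
    exact (tor_injective h).1.symm
  · intro h
    show tor _ _ = tor _ _
    have e : x ^ (3 * 3 ^ m) = y := by
      rw [h, ← pow_mul]
      apply Units.ext
      rw [Units.val_pow_eq_pow_val]
      have := hq (y : K)
      rw [← this]
      congr 1
      ring
    rw [e, ← h]

theorem mem_diag_iff (g : GL chevG2.Idx K) : g ∈ chevG2.diagonalSubgroup K ↔ ∃ x y : Kˣ, g = tor x y := by
  rw [← range_torusHom chevG2 hD2]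
  constructor
  · rintro ⟨c, rfl⟩
    exact ⟨c ⟨0, by decide⟩, c ⟨1, by decide⟩, by unfold tor; rw [← eq_vec2]⟩
  · rintro ⟨x, y, rfl⟩
    exact ⟨vec2 x y, rfl⟩

variable (K)

/-- The diagonal elements fixed by `σ`. -/
noncomputable def Hsig (m : ℕ) : Subgroup (GL chevG2.Idx K) :=
  chevG2.diagonalSubgroup K ⊓ (reeFix K m).map (chevG2.group K).subtype

variable {K}

theorem mem_Hsig_iff (m : ℕ) (hq : ∀ t : K, t ^ (3 * 3 ^ m * 3 ^ m) = t) (g : GL chevG2.Idx K) :
    g ∈ Hsig K m ↔ ∃ μ : Kˣ, g = tor (μ ^ 3 ^ m) μ := by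
  constructor
  · rintro ⟨hH, ⟨g', hg', rfl⟩⟩
    obtain ⟨x, y, hxy⟩ := (mem_diag_iff _).mp hH
    have e : g' = ⟨tor x y, tor_mem_group x y⟩ := Subtype.ext hxy
    have hg'' : reeSigma K m g' = g' := hg'
    rw [e, fixed_tor_iff m hq] at hg''
    refine ⟨y, ?_⟩
    show (g' : GL chevG2.Idx K) = _
    rw [e, hg'']
  · rintro ⟨μ, rfl⟩
    refine ⟨(mem_diag_iff _).mpr ⟨_, _, rfl⟩, ⟨⟨tor (μ ^ 3 ^ m) μ, tor_mem_group _ _⟩, ?_, rfl⟩⟩
    rw [SetLike.mem_coe, mem_reeFix, fixed_tor_iff m hq]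

/-- `|H_σ| = q - 1`. -/
theorem card_Hsig {m : ℕ} (hK : Fintype.card K = 3 ^ (2 * m + 1)) :
    Nat.card ↥(Hsig K m) = 3 ^ (2 * m + 1) - 1 := by
  have hq : ∀ t : K, t ^ (3 * 3 ^ m * 3 ^ m) = t := by
    intro t
    have e : 3 * 3 ^ m * 3 ^ m = Fintype.card K := by rw [hK]; ring
    rw [e, FiniteField.pow_card]
  let φ : Kˣ → ↥(Hsig K m) := fun μ => ⟨tor (μ ^ 3 ^ m) μ, (mem_Hsig_iff m hq _).mpr ⟨μ, rfl⟩⟩
  have hφ : Function.Bijective φ := by
    constructor
    · intro μ ν h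
      exact (tor_injective (congrArg Subtype.val h)).2
    · rintro ⟨g, hg⟩
      obtain ⟨μ, rfl⟩ := (mem_Hsig_iff m hq g).mp hg
      exact ⟨μ, rfl⟩
  rw [← Nat.card_congr (Equiv.ofBijective φ hφ), Nat.card_units, Nat.card_eq_fintype_card, hK]

/-- `H ∩ ²G₂ ≤ H_σ`. -/
theorem diag_twisted_le (m : ℕ) (hq : ∀ t : K, t ^ (3 * 3 ^ m * 3 ^ m) = t) :
    chevG2.diagonalSubgroup K ⊓ twistedG2 K (3 ^ m) ≤ Hsig K m :=
  inf_le_inf le_rfl (twistedG2_le_reeFix K m hq)

omit [Fintype K] [CharP K 3] in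
theorem vec2_mul (x y x' y' : Kˣ) : vec2 (x * x') (y * y') = vec2 x y * vec2 x' y' := by
  funext i
  obtain ⟨i, hi⟩ := i
  change i < 2 at hi
  interval_cases i <;> rfl

omit [Fintype K] [CharP K 3] in
theorem tor_mul (x y x' y' : Kˣ) : tor (x * x') (y * y') = tor x y * tor x' y' := by
  unfold tor
  rw [vec2_mul, map_mul]

omit [Fintype K] [CharP K 3] in
theorem tor_one : tor (1 : Kˣ) 1 = 1 := by
  have e : vec2 (1 : Kˣ) 1 = 1 := by
    funext i
    obtain ⟨i, hi⟩ := i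
    change i < 2 at hi
    interval_cases i <;> rfl
  unfold tor
  rw [e, map_one]

omit [Fintype K] [CharP K 3] in
/-- The matrix of `tor x y` is `h_a(x) h_b(y)`. -/
theorem coe_tor (x y : Kˣ) : ((tor x y : GL chevG2.Idx K) : Matrix chevG2.Idx chevG2.Idx K)
    = chevG2.hMat K 7 (x : K) * chevG2.hMat K 6 (y : K) := by
  rw [tor_eq_wordG, coe_wordG]
  unfold ChevalleyDatum.hMat ChevalleyDatum.wordMat
  rw [List.map_append, List.prod_append]

theorem three_pow_mod (m : ℕ) : ∃ j : ℕ, 3 ^ (2 * m + 1) = 4 * j + 3 := by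
  induction m with
  | zero => exact ⟨0, rfl⟩
  | succ m ih =>
    obtain ⟨j, hj⟩ := ih
    refine ⟨9 * j + 6, ?_⟩
    have e : 3 ^ (2 * (m + 1) + 1) = 9 * 3 ^ (2 * m + 1) := by ring
    rw [e, hj]
    ring

/-- Every unit of `K` is a square or the negative of a square (`q ≡ 3` modulo `4`). -/
theorem unit_sq_or_neg_sq {m : ℕ} (hK : Fintype.card K = 3 ^ (2 * m + 1)) (μ : Kˣ) :
    ∃ ν : Kˣ, μ = ν ^ 2 ∨ μ = ν ^ 2 * (-1) := by
  obtain ⟨j, hj⟩ := three_pow_mod m
  have h1 : (μ : K) ^ (Fintype.card K - 1) = 1 := FiniteField.pow_card_sub_one_eq_one _ μ.ne_zero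
  have h2 : μ ^ (2 * (2 * j + 1)) = 1 := by
    apply Units.ext
    rw [Units.val_pow_eq_pow_val, Units.val_one, ← h1, hK, hj]
    congr 1
    omega
  set ε : Kˣ := (μ ^ (2 * j + 1))⁻¹ with hε
  have h3 : (ε : K) * (ε : K) = 1 := by
    rw [← Units.val_mul, hε, ← mul_inv, ← pow_two, ← pow_mul', h2, inv_one, Units.val_one]
  have h4 : μ = (μ ^ (j + 1)) ^ 2 * ε := by
    rw [hε, ← pow_mul, eq_mul_inv_iff_mul_eq, ← pow_succ']
    congr 1
    ring
  refine ⟨μ ^ (j + 1), ?_⟩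
  rcases mul_self_eq_one_iff.mp h3 with h | h
  · left
    have : ε = 1 := Units.ext h
    rw [this, mul_one] at h4
    exact h4
  · right
    have : ε = -1 := Units.ext (by rw [h]; rfl)
    rw [this] at h4
    exact h4

/-- The element `h₀ = h_a(-1) h_b(-1)`. -/
noncomputable def h0 : GL chevG2.Idx K := tor (-1) (-1)

/-- A subgroup containing the squares of `H_σ` and `h₀` contains `H_σ`. -/
theorem Hsig_le {m : ℕ} (hK : Fintype.card K = 3 ^ (2 * m + 1)) (S : Subgroup (GL chevG2.Idx K))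
    (hsq : ∀ g ∈ Hsig K m, g ^ 2 ∈ S) (h0S : (h0 : GL chevG2.Idx K) ∈ S) : Hsig K m ≤ S := by
  have hq : ∀ t : K, t ^ (3 * 3 ^ m * 3 ^ m) = t := by
    intro t
    have e : 3 * 3 ^ m * 3 ^ m = Fintype.card K := by rw [hK]; ring
    rw [e, FiniteField.pow_card]
  intro g hg
  obtain ⟨μ, rfl⟩ := (mem_Hsig_iff m hq g).mp hg
  obtain ⟨ν, h | h⟩ := unit_sq_or_neg_sq hK μ
  · have e : tor (μ ^ 3 ^ m) μ = (tor (ν ^ 3 ^ m) ν) ^ 2 := by
      rw [h, pow_two, pow_two, ← tor_mul, mul_pow]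
    rw [e]
    exact hsq _ ((mem_Hsig_iff m hq _).mpr ⟨ν, rfl⟩)
  · have e : tor (μ ^ 3 ^ m) μ = (tor (ν ^ 3 ^ m) ν) ^ 2 * h0 := by
      have e1 : ((-1 : Kˣ)) ^ 3 ^ m = -1 := (odd_three_pow m).neg_one_pow
      unfold h0
      rw [h, pow_two, pow_two, ← tor_mul, ← tor_mul, mul_pow, mul_pow, e1]
    rw [e]
    exact mul_mem (hsq _ ((mem_Hsig_iff m hq _).mpr ⟨ν, rfl⟩)) h0S

/-- `h₀ ∈ H_σ`. -/
theorem h0_mem_Hsig (m : ℕ) (hq : ∀ t : K, t ^ (3 * 3 ^ m * 3 ^ m) = t) : (h0 : GL chevG2.Idx K) ∈ Hsig K m := by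
  rw [mem_Hsig_iff m hq]
  refine ⟨-1, ?_⟩
  unfold h0
  rw [(odd_three_pow m).neg_one_pow]

omit [Fintype K] [CharP K 3] in
theorem coe_h0 : ((h0 : GL chevG2.Idx K) : Matrix chevG2.Idx chevG2.Idx K)
    = chevG2.hMat K 7 (-1) * chevG2.hMat K 6 (-1) := by
  unfold h0
  rw [coe_tor]
  simp

/-- `H ∩ ²G₂ = H_σ`, given that the squares of `H_σ` and `h₀` lie in `²G₂`; hence `|H ∩ ²G₂| = q - 1`. -/
theorem card_diag_twisted {m : ℕ} (hK : Fintype.card K = 3 ^ (2 * m + 1))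
    (hsq : ∀ g ∈ Hsig K m, g ^ 2 ∈ twistedG2 K (3 ^ m)) (h0S : (h0 : GL chevG2.Idx K) ∈ twistedG2 K (3 ^ m)) :
    chevG2.diagonalSubgroup K ⊓ twistedG2 K (3 ^ m) = Hsig K m ∧
      Nat.card ↥(chevG2.diagonalSubgroup K ⊓ twistedG2 K (3 ^ m)) = 3 ^ (2 * m + 1) - 1 := by
  have hq : ∀ t : K, t ^ (3 * 3 ^ m * 3 ^ m) = t := by
    intro t
    have e : 3 * 3 ^ m * 3 ^ m = Fintype.card K := by rw [hK]; ring
    rw [e, FiniteField.pow_card]
  have e : chevG2.diagonalSubgroup K ⊓ twistedG2 K (3 ^ m) = Hsig K m :=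
    le_antisymm (diag_twisted_le m hq) (le_inf inf_le_left (Hsig_le hK _ hsq h0S))
  refine ⟨e, ?_⟩
  rw [e]
  exact card_Hsig hK

end Sigma

end Cfsg.Agent.Lib.Helper61.ChevJ.G2ReeH
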