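/-
helper61: table checks for the exceptional graph-field relation of G₂ in characteristic three on all twelve roots
(extending helper91's checks in S1099, which cover the fundamental roots and their negatives).
-/
import Cfsg.Agent.S1099

set_option autoImplicit false

namespace Cfsg.Agent.Lib.Helper61.ChevJ.G2ReeChk

open Cfsg.Lie Cfsg.Agent.Lib.Helper18 Cfsg.Agent.Lib.Helper91.ChevGen Cfsg.Agent.Lib.Helper91.ExcAut
  Cfsg.Agent.S1099

universe u

set_option maxRecDepth 100000 in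
theorem zero_chk12 : ∀ r ∈ [0, 1, 2, 3, 4, 5, 6, 7, 8, 9, 10, 11], ∀ j i : Fin 7,
    zeroChk chevG2 3 r (code chevG2 (g2Blocks.eI i)) (code chevG2 (g2Blocks.eJ j)) = true := by
  decide +kernel

/-- The table `(r, ρ r, λ r)`. -/
def rhoTab : List (ℕ × ℕ × ℕ) :=
  [(7, 6, 3), (6, 7, 1), (8, 10, 3), (9, 11, 3), (10, 8, 1), (11, 9, 1),
   (4, 5, 3), (5, 4, 1), (3, 1, 3), (2, 0, 3), (1, 3, 1), (0, 2, 1)]

set_option maxRecDepth 100000 in
theorem eq_chk12 : ∀ q ∈ rhoTab, ∀ i j : Fin 7,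
    eqChk chevG2 3 q.1 q.2.1 q.2.2 (code chevG2 (g2Blocks.eJ j)) (code chevG2 (g2Blocks.eJ i))
      (code chevG2 (g2Blocks.eI j)) (code chevG2 (g2Blocks.eI i)) = true := by
  decide +kernel

end Cfsg.Agent.Lib.Helper61.ChevJ.G2ReeChk
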