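/-
helper61: the fixed points of the exceptional graph-field relation of G₂ (characteristic three), as a subgroup of
the general linear group: `fixSub f = {g | (f(g), g) ∈ rel}`, `rel` helper91's block relation (`f` applied
entrywise). The generators of the small Ree group are fixed, and the fixed elements of `U` are the elements
`reeWordU θ t u v`.
-/
import Cfsg.Agent.Lib.Helper61.ChevJ.G2Ree
import Cfsg.Agent.Lib.Helper61.ChevJ.G2ReeChk
import Cfsg.Agent.Lib.Helper61.ChevJ.G2Invol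
import Cfsg.Agent.Lib.Helper69.ChevMap

set_option autoImplicit false
set_option linter.unusedSectionVars false

namespace Cfsg.Agent.Lib.Helper61.ChevJ.G2ReeFix

open Cfsg.Lie Cfsg.Agent.Lib.Helper18 Cfsg.Agent.Lib.Helper91.HighRoot Cfsg.Agent.Lib.Helper61.ChevJ
  Cfsg.Agent.Lib.Helper61.ChevJ.G2Short Cfsg.Agent.Lib.Helper61.ChevJ.G2Char3
  Cfsg.Agent.Lib.Helper91.ChevGen Cfsg.Agent.Lib.Helper91.ExcAut Cfsg.Agent.S1099
  Cfsg.Agent.Lib.Helper61.ChevJ.G2ReeChk Cfsg.Agent.Lib.Helper61.ChevJ.G2Invol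
  Cfsg.Agent.Lib.Helper69.ChevMap

universe u

variable {K : Type u} [Field K] [CharP K 3]

/-! ### The relation on root elements -/

theorem pair12 : ∀ q ∈ rhoTab, ∀ t : K, (xG hG2 q.1 t, xG hG2 q.2.1 (t ^ q.2.2)) ∈ g2Blocks.rel K := by
  intro q hq t
  have h3 : ((3 : ℕ) : K) = 0 := CharP.cast_eq_zero K 3
  have hq' : q.1 ∈ [0, 1, 2, 3, 4, 5, 6, 7, 8, 9, 10, 11] ∧ q.2.1 ∈ [0, 1, 2, 3, 4, 5, 6, 7, 8, 9, 10, 11] ∧
      q.1 < chevG2.nroots ∧ q.2.1 < chevG2.nroots := by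
    simp only [rhoTab, List.mem_cons, List.not_mem_nil, or_false] at hq
    rcases hq with rfl | rfl | rfl | rfl | rfl | rfl | rfl | rfl | rfl | rfl | rfl | rfl <;> decide
  exact g2Blocks.pair_mem_rel hG2 3 h3 q.1 q.2.1 hq'.2.2.1 hq'.2.2.2 q.2.2 (zero_chk12 _ hq'.1)
    (zero_chk12 _ hq'.2.1) (eq_chk12 q hq) t

/-- The permutation `ρ` of the roots. -/
def rho : ℕ → ℕ
  | 7 => 6 | 6 => 7 | 8 => 10 | 9 => 11 | 10 => 8 | 11 => 9
  | 4 => 5 | 5 => 4 | 3 => 1 | 2 => 0 | 1 => 3 | 0 => 2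
  | n => n

/-- The exponent `λ`: three on short roots, one on long roots. -/
def lam : ℕ → ℕ
  | 7 => 3 | 8 => 3 | 9 => 3 | 4 => 3 | 3 => 3 | 2 => 3
  | _ => 1

theorem pair_rho (r : ℕ) (hr : r < 12) (t : K) :
    (xG hG2 r t, xG hG2 (rho r) (t ^ lam r)) ∈ g2Blocks.rel K := by
  interval_cases r
  · exact pair12 (0, 2, 1) (by simp [rhoTab]) t
  · exact pair12 (1, 3, 1) (by simp [rhoTab]) t
  · exact pair12 (2, 0, 3) (by simp [rhoTab]) t
  · exact pair12 (3, 1, 3) (by simp [rhoTab]) t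
  · exact pair12 (4, 5, 3) (by simp [rhoTab]) t
  · exact pair12 (5, 4, 1) (by simp [rhoTab]) t
  · exact pair12 (6, 7, 1) (by simp [rhoTab]) t
  · exact pair12 (7, 6, 3) (by simp [rhoTab]) t
  · exact pair12 (8, 10, 3) (by simp [rhoTab]) t
  · exact pair12 (9, 11, 3) (by simp [rhoTab]) t
  · exact pair12 (10, 8, 1) (by simp [rhoTab]) t
  · exact pair12 (11, 9, 1) (by simp [rhoTab]) t

/-! ### Words -/

/-- The image of a word under `x_r(c) ↦ x_{ρ r}(f(c)^{λ r})`. -/
def rhoWord (f : K →+* K) (w : List (ℕ × K)) : List (ℕ × K) :=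
  w.map fun p => (rho p.1, (f p.2) ^ lam p.1)

omit [CharP K 3] in
theorem glMap_xG (f : K →+* K) (r : ℕ) (t : K) : glMap chevG2 f (xG hG2 r t) = xG hG2 r (f t) := by
  apply Units.ext
  rw [coe_glMap, coe_xG, coe_xG, x_map]

theorem word_rel (f : K →+* K) (w : List (ℕ × K)) (hw : ∀ p ∈ w, p.1 < 12) :
    (glMap chevG2 f (wordG hG2 w), wordG hG2 (rhoWord f w)) ∈ g2Blocks.rel K := by
  induction w with
  | nil =>
    rw [wordG_nil, map_one]
    exact one_mem _
  | cons a w ih =>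
    have e : rhoWord f (a :: w) = (rho a.1, (f a.2) ^ lam a.1) :: rhoWord f w := rfl
    rw [wordG_cons, map_mul, e, wordG_cons, glMap_xG]
    exact mul_mem (pair_rho a.1 (hw a List.mem_cons_self) (f a.2))
      (ih fun p hp => hw p (List.mem_cons_of_mem _ hp))

/-! ### The fixed-point subgroup -/

/-- The elements `g` with `(f(g), g)` in the relation. -/
noncomputable def fixSub (f : K →+* K) : Subgroup (GL chevG2.Idx K) :=
  (g2Blocks.rel K).comap ((glMap chevG2 f).prod (MonoidHom.id _))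

omit [CharP K 3] in
theorem mem_fixSub (f : K →+* K) (g : GL chevG2.Idx K) :
    g ∈ fixSub f ↔ (glMap chevG2 f g, g) ∈ g2Blocks.rel K := Iff.rfl

/-! ### Faithfulness of the block (after helper91, S1099) -/

theorem rel_fund : ∀ x ∈ fundSet chevG2 K, ∃ y ∈ chevG2.group K, (x, y) ∈ g2Blocks.rel K := by
  have mem : ∀ (r : ℕ) (t : K), r < chevG2.nroots → xG hG2 r t ∈ chevG2.group K :=
    fun r t hr => xG_mem_group hG2 r hr t
  rintro x ⟨i, t, hi, hx | hx⟩
  · change i < 2 at hi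
    interval_cases i
    · rw [eq_xG hG2 x 7 t hx]
      exact ⟨_, mem 6 _ (by decide), pair_rho 7 (by norm_num) t⟩
    · rw [eq_xG hG2 x 6 t hx]
      exact ⟨_, mem 7 _ (by decide), pair_rho 6 (by norm_num) t⟩
  · change i < 2 at hi
    interval_cases i
    · rw [eq_xG hG2 x 4 t hx]
      exact ⟨_, mem 5 _ (by decide), pair_rho 4 (by norm_num) t⟩
    · rw [eq_xG hG2 x 5 t hx]
      exact ⟨_, mem 4 _ (by decide), pair_rho 5 (by norm_num) t⟩

theorem isBT_of_mem (g : GL chevG2.Idx K) (hg : g ∈ chevG2.group K) :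
    g2Blocks.IsBT (g : Matrix chevG2.Idx chevG2.Idx K) := by
  obtain ⟨y, -, hr⟩ := g2Blocks.exists_rel_left hG2 rel_fund g hg
  exact ((g2Blocks.mem_rel_iff _).mp hr).1

theorem bI_faithful : ∀ g ∈ chevG2.group K, g2Blocks.bI (g : Matrix chevG2.Idx chevG2.Idx K) = 1 → g = 1 := by
  have h3' : (3 : K) = 0 := three_eq_zero'
  have hF : ∃ a : K, a ≠ 0 ∧ a ≠ 1 := by
    refine ⟨2, ?_, ?_⟩
    · intro h
      exact one_ne_zero (by linear_combination h3' - h : (1 : K) = 0)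
    · intro h
      exact one_ne_zero (by linear_combination h : (1 : K) = 0)
  have hs : IsSimpleGroup ↥(chevG2.group K) := (Cfsg.Agent.S1055.result hF).1
  apply Blocks.faithful_of_simple g2Blocks.bI g2Blocks.bI_one
    (fun g _ h hh => by rw [Units.val_mul]; exact Blocks.bI_mul (isBT_of_mem h hh))
    (xG hG2 7 1) (xG_mem_group hG2 7 (by decide) 1)
  intro h
  have e := congrFun (congrFun h (4 : Fin 7)) (3 : Fin 7)
  have key : chevG2.x K 7 1 (g2Blocks.eI 4) (g2Blocks.eI 3) = -((1 : K) ^ 2) :=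
    Cfsg.Agent.S2158.x_apply_root_negroot (F := K) chevG2 hG2 7 (by decide) (1 : K)
  rw [Blocks.bI, Matrix.submatrix_apply, coe_xG, key, Matrix.one_apply_ne (by decide)] at e
  simp at e

/-- The second component of the relation is determined by the first (inside the group). -/
theorem rel_unique (x y₁ y₂ : GL chevG2.Idx K) (hy₁ : y₁ ∈ chevG2.group K) (hy₂ : y₂ ∈ chevG2.group K)
    (hr₁ : (x, y₁) ∈ g2Blocks.rel K) (hr₂ : (x, y₂) ∈ g2Blocks.rel K) : y₁ = y₂ := by
  have h := mul_mem (inv_mem hr₁) hr₂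
  have h' : ((1 : GL chevG2.Idx K), y₁⁻¹ * y₂) ∈ g2Blocks.rel K := by
    have e : ((x, y₁)⁻¹ * (x, y₂) : GL chevG2.Idx K × GL chevG2.Idx K) = (1, y₁⁻¹ * y₂) := by
      rw [Prod.inv_mk, Prod.mk_mul_mk, inv_mul_cancel]
    rw [e] at h
    exact h
  have h5 := ((g2Blocks.mem_rel_iff _).mp h').2.2.2.2
  have : y₁⁻¹ * y₂ = 1 := bI_faithful _ (mul_mem (inv_mem hy₁) hy₂) (by
    rw [← h5]
    show g2Blocks.bJ ((1 : GL chevG2.Idx K) : Matrix chevG2.Idx chevG2.Idx K) = 1
    rw [Units.val_one, g2Blocks.bJ_one])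
  exact (inv_mul_eq_one.mp this)

/-! ### The generators of the small Ree group are fixed -/

/-- The element `x_6(a) x_7(b) x_10(e) x_11(f) x_8(c) x_9(d)` in coordinates. -/
theorem rho_order_eq (a b e f' c d : K) :
    xG hG2 6 a * (xG hG2 7 b * (xG hG2 10 e * (xG hG2 11 f' * (xG hG2 8 c * (xG hG2 9 d * 1)))))
      = uu a b c d e f' := by
  rw [mul_one, x6_eq, x7_eq, x8_eq, x9_eq, x10_eq, x11_eq, uu_mul, uu_mul, uu_mul, uu_mul, uu_mul]
  exact uu_congr (by ring) (by ring) (by ring) (by ring) (by ring) (by ring)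

theorem cube_add (x y : K) : (x + y) ^ 3 = x ^ 3 + y ^ 3 := by
  have h3 : (3 : K) = 0 := three_eq_zero'
  linear_combination (x ^ 2 * y + x * y ^ 2) * h3

theorem ree_fixed_word (f : K →+* K) (θ : ℕ) (hf : ∀ x, f x = x ^ θ) (hq : ∀ x, (f (f x)) ^ 3 = x)
    (t u v : K) : wordG hG2 (rhoWord f (reeWordU θ t u v)) = wordG hG2 (reeWordU θ t u v) := by
  rw [wordG_reeWordU]
  unfold reeWordU g2a g2b g2ab g2aab g2aaab g2aaabb rhoWord
  simp only [List.map_cons, List.map_nil, wordG_cons, wordG_nil, rho, lam]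
  rw [rho_order_eq]
  have hff : ∀ x : K, (f x) ^ θ = f (f x) := fun x => (hf (f x)).symm
  refine uu_congr ?_ ?_ ?_ ?_ ?_ ?_
  · rw [← hf t]; exact hq t
  · rw [pow_one, hf]
  · rw [pow_one, hf]
  · rw [pow_one, hf]
  · have e1 : f (t ^ (θ + 1) + u ^ θ) = f (f t) * f t + f (f u) := by
      rw [map_add, map_pow, pow_succ, hff, ← hf u]
    rw [e1, cube_add, mul_pow, hq, hq, hf t]; ring
  · have e1 : f (t ^ (2 * θ + 1) + v ^ θ) = (f (f t)) ^ 2 * f t + f (f v) := by
      rw [map_add, map_pow, pow_succ, mul_comm 2 θ, pow_mul, hff, ← hf v]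
    rw [e1, cube_add, mul_pow, ← pow_mul, mul_comm 2 3, pow_mul, hq, hq, hf t]; ring

/-! ### The Chevalley involution on words -/

omit [CharP K 3] in
theorem wordG_negWord (w : List (ℕ × K)) (hw : ∀ p ∈ w, p.1 < 12) :
    wordG hG2 (chevG2.negWord w) = iota K (wordG hG2 w) := by
  induction w with
  | nil => rw [wordG_nil, map_one]; rfl
  | cons a w ih =>
    have e : chevG2.negWord (a :: w) = (chevG2.negIdx.getD a.1 0, -a.2) :: chevG2.negWord w := rfl
    have ha : a.1 < 12 := hw a List.mem_cons_self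
    have h1 := iota_xG (K := K) ⟨a.1, ha⟩ a.2
    have h2 : (Fin.rev (⟨a.1, ha⟩ : Fin chevG2.nroots)).1 = chevG2.negIdx.getD a.1 0 := by
      obtain ⟨r, c⟩ := a
      change r < 12 at ha
      interval_cases r <;> rfl
    rw [e, wordG_cons, wordG_cons, map_mul, ih fun p hp => hw p (List.mem_cons_of_mem _ hp)]
    show xG hG2 (chevG2.negIdx.getD a.1 0) (-a.2) * _ = _
    rw [← h2, ← h1]

omit [CharP K 3] in
theorem rhoWord_negWord (f : K →+* K) (w : List (ℕ × K)) (hw : ∀ p ∈ w, p.1 < 12) :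
    rhoWord f (chevG2.negWord w) = chevG2.negWord (rhoWord f w) := by
  induction w with
  | nil => rfl
  | cons a w ih =>
    have e1 : chevG2.negWord (a :: w) = (chevG2.negIdx.getD a.1 0, -a.2) :: chevG2.negWord w := rfl
    have e2 : rhoWord f (a :: w) = (rho a.1, (f a.2) ^ lam a.1) :: rhoWord f w := rfl
    have ha : a.1 < 12 := hw a List.mem_cons_self
    rw [e1, e2]
    have e3 : rhoWord f ((chevG2.negIdx.getD a.1 0, -a.2) :: chevG2.negWord w)
        = (rho (chevG2.negIdx.getD a.1 0), (f (-a.2)) ^ lam (chevG2.negIdx.getD a.1 0))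
          :: rhoWord f (chevG2.negWord w) := rfl
    have e4 : chevG2.negWord ((rho a.1, (f a.2) ^ lam a.1) :: rhoWord f w)
        = (chevG2.negIdx.getD (rho a.1) 0, -((f a.2) ^ lam a.1)) :: chevG2.negWord (rhoWord f w) := rfl
    rw [e3, e4, ih fun p hp => hw p (List.mem_cons_of_mem _ hp)]
    congr 1
    obtain ⟨r, c⟩ := a
    change r < 12 at ha
    have h3 : (f (-c)) ^ 3 = -((f c) ^ 3) := by rw [map_neg, Odd.neg_pow (by decide)]
    have h1 : (f (-c)) ^ 1 = -((f c) ^ 1) := by rw [map_neg, pow_one, pow_one]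
    interval_cases r
    · exact Prod.ext rfl h1
    · exact Prod.ext rfl h1
    · exact Prod.ext rfl h3
    · exact Prod.ext rfl h3
    · exact Prod.ext rfl h3
    · exact Prod.ext rfl h1
    · exact Prod.ext rfl h1
    · exact Prod.ext rfl h3
    · exact Prod.ext rfl h3
    · exact Prod.ext rfl h3
    · exact Prod.ext rfl h1
    · exact Prod.ext rfl h1

omit [CharP K 3] in
theorem rhoWord_lt (f : K →+* K) (w : List (ℕ × K)) (hw : ∀ p ∈ w, p.1 < 12) :
    ∀ p ∈ rhoWord f w, p.1 < 12 := by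
  intro p hp
  unfold rhoWord at hp
  rw [List.mem_map] at hp
  obtain ⟨a, ha, rfl⟩ := hp
  have h := hw a ha
  obtain ⟨r, c⟩ := a
  change r < 12 at h
  show rho r < 12
  interval_cases r <;> decide

omit [CharP K 3] in
theorem reeWordU_lt (θ : ℕ) (t u v : K) : ∀ p ∈ reeWordU θ t u v, p.1 < 12 := by
  intro p hp
  unfold reeWordU g2a g2b g2ab g2aab g2aaab g2aaabb at hp
  simp only [List.mem_cons, List.not_mem_nil, or_false] at hp
  rcases hp with rfl | rfl | rfl | rfl | rfl | rfl <;> norm_num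

omit [CharP K 3] in
theorem negWord_lt (w : List (ℕ × K)) (hw : ∀ p ∈ w, p.1 < 12) : ∀ p ∈ chevG2.negWord w, p.1 < 12 := by
  intro p hp
  unfold ChevalleyDatum.negWord at hp
  rw [List.mem_map] at hp
  obtain ⟨a, ha, rfl⟩ := hp
  have h := hw a ha
  obtain ⟨r, c⟩ := a
  change r < 12 at h
  show chevG2.negIdx.getD r 0 < 12
  interval_cases r <;> decide

theorem ree_fixed_wordV (f : K →+* K) (θ : ℕ) (hf : ∀ x, f x = x ^ θ) (hq : ∀ x, (f (f x)) ^ 3 = x)
    (t u v : K) : wordG hG2 (rhoWord f (reeWordV θ t u v)) = wordG hG2 (reeWordV θ t u v) := by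
  unfold reeWordV
  rw [rhoWord_negWord f _ (reeWordU_lt θ t u v), wordG_negWord _ (rhoWord_lt f _ (reeWordU_lt θ t u v)),
    wordG_negWord _ (reeWordU_lt θ t u v), ree_fixed_word f θ hf hq]

/-- The small Ree group lies in the fixed-point subgroup. -/
theorem twisted_le_fixSub (f : K →+* K) (θ : ℕ) (hf : ∀ x, f x = x ^ θ) (hq : ∀ x, (f (f x)) ^ 3 = x) :
    twistedG2 K θ ≤ fixSub f := by
  unfold twistedG2 ChevalleyDatum.genSubgroup
  rw [Subgroup.closure_le]
  rintro g ⟨w, ⟨t, u, v, hw | hw⟩, hg⟩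
  · have e : g = wordG hG2 (reeWordU θ t u v) := by
      apply Units.ext
      rw [hg, hw, coe_wordG]
    rw [e]
    show _ ∈ fixSub f
    rw [mem_fixSub]
    have h := word_rel f (reeWordU θ t u v) (reeWordU_lt θ t u v)
    rwa [ree_fixed_word f θ hf hq] at h
  · have e : g = wordG hG2 (reeWordV θ t u v) := by
      apply Units.ext
      rw [hg, hw, coe_wordG]
    rw [e]
    show _ ∈ fixSub f
    rw [mem_fixSub]
    have h := word_rel f (reeWordV θ t u v) (negWord_lt _ (reeWordU_lt θ t u v))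
    rwa [ree_fixed_wordV f θ hf hq] at h

/-! ### The fixed points in `U` -/

theorem fixed_U (f : K →+* K) (θ : ℕ) (hf : ∀ x, f x = x ^ θ) (hq : ∀ x, (f (f x)) ^ 3 = x)
    (g : GL chevG2.Idx K) (hU : g ∈ chevG2.posUnipotent K) (hfix : g ∈ fixSub f) :
    ∃ t u v : K, g = wordG hG2 (reeWordU θ t u v) := by
  obtain ⟨a, b, c, d, e, f', rfl⟩ := exists_uu g hU
  have hw : uu a b c d e f' = wordG hG2 [(6, a), (7, b), (8, c), (9, d), (10, e), (11, f')] := by
    simp only [wordG_cons, wordG_nil, mul_one, uu]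
  have hlt : ∀ p ∈ [((6 : ℕ), a), (7, b), (8, c), (9, d), (10, e), (11, f')], p.1 < 12 := by
    intro p hp
    simp only [List.mem_cons, List.not_mem_nil, or_false] at hp
    rcases hp with rfl | rfl | rfl | rfl | rfl | rfl <;> norm_num
  have h1 := word_rel f _ hlt
  rw [← hw] at h1
  have h2 := (mem_fixSub f _).mp hfix
  have mem : ∀ (r : ℕ) (t : K), r < 12 → xG hG2 r t ∈ chevG2.group K :=
    fun r t hr => xG_mem_group hG2 r hr t
  have hG1 : uu a b c d e f' ∈ chevG2.group K := by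
    unfold uu
    exact mul_mem (mem 6 _ (by norm_num)) (mul_mem (mem 7 _ (by norm_num)) (mul_mem (mem 8 _ (by norm_num))
      (mul_mem (mem 9 _ (by norm_num)) (mul_mem (mem 10 _ (by norm_num)) (mem 11 _ (by norm_num))))))
  have hG2' : wordG hG2 (rhoWord f [((6 : ℕ), a), (7, b), (8, c), (9, d), (10, e), (11, f')]) ∈ chevG2.group K := by
    apply wordG_mem
    intro p hp
    exact mem _ _ (rhoWord_lt f _ hlt p hp)
  have h3 := rel_unique _ _ _ hG1 hG2' h2 h1
  have hq' : ∀ x : K, (x ^ (3 * θ)) ^ θ = x := by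
    intro x
    have := hq x
    rw [hf, hf] at this
    have e : (x ^ (3 * θ)) ^ θ = ((x ^ θ) ^ θ) ^ 3 := by
      rw [← pow_mul, ← pow_mul, ← pow_mul]
      congr 1
      ring
    rw [e, this]
  have h4 : uu a b c d e f' = xG hG2 7 (a ^ θ) * xG hG2 6 (b ^ (3 * θ)) * xG hG2 10 (c ^ (3 * θ))
      * xG hG2 11 (d ^ (3 * θ)) * xG hG2 8 (e ^ θ) * xG hG2 9 (f' ^ θ) := by
    have e3 : ∀ x : K, (x ^ θ) ^ 3 = x ^ (3 * θ) := fun x => by rw [← pow_mul, mul_comm]
    rw [h3]
    unfold rhoWord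
    simp only [List.map_cons, List.map_nil, wordG_cons, wordG_nil, rho, lam, mul_one, pow_one, hf, e3, mul_assoc]
  exact ⟨a, c ^ (3 * θ), d ^ (3 * θ), ree_of_fixed θ hq' a b c d e f' h4⟩

end Cfsg.Agent.Lib.Helper61.ChevJ.G2ReeFix
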