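/-
helper61: the mirror of S1101 for the negative unipotent group: `V ∩ ²G₂` consists of the elements `reeWordV θ t u v`,
by the Chevalley involution `ι` (`x_r(c) ↦ x_{-r}(-c)`), which swaps the two families of generators of `²G₂`.
-/
import Cfsg.Agent.S1101

set_option autoImplicit false
set_option linter.unusedSectionVars false

namespace Cfsg.Agent.Lib.Helper61.ChevJ.G2ReeV

open Cfsg.Lie Cfsg.Agent.Lib.Helper18 Cfsg.Agent.Lib.Helper61.ChevJ
  Cfsg.Agent.Lib.Helper61.ChevJ.G2Short Cfsg.Agent.Lib.Helper61.ChevJ.G2Char3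
  Cfsg.Agent.Lib.Helper61.ChevJ.G2Invol Cfsg.Agent.Lib.Helper61.ChevJ.G2ReeFix

universe u

variable {K : Type u} [Field K]

theorem piG2_piG2 : ∀ i : chevG2.Idx, piG2 (piG2 i) = i := by decide

/-- The Chevalley involution is an involution. -/
theorem iota_iota (g : GL chevG2.Idx K) : iota K (iota K g) = g := by
  apply Units.ext
  ext i j
  rw [coe_iota, coe_iota, piG2_piG2, piG2_piG2]

theorem iota_injective : Function.Injective (iota K) := fun a b h => by
  rw [← iota_iota a, h, iota_iota]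

theorem iota_xG_nat (r : ℕ) (hr : r < 12) (c : K) : iota K (xG hG2 r c) = xG hG2 (11 - r) (-c) := by
  have h := iota_xG (K := K) ⟨r, hr⟩ c
  have e : (Fin.rev (⟨r, hr⟩ : Fin chevG2.nroots)).1 = 11 - r := by
    rw [Fin.val_rev]
    show 12 - (r + 1) = 11 - r
    omega
  rw [e] at h
  exact h

theorem lt_of_isNegRoot (r : ℕ) (h : chevG2.IsNegRoot r) : r < 6 := by
  by_contra hlt
  have h12 : r < 12 := h.1
  have h6 : 6 ≤ r := Nat.le_of_not_lt hlt
  interval_cases r <;> exact absurd h (by decide)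

theorem iota_mem_V (g : GL chevG2.Idx K) (hg : g ∈ chevG2.posUnipotent K) :
    iota K g ∈ chevG2.negUnipotent K := by
  have : chevG2.posUnipotent K ≤ (chevG2.negUnipotent K).comap (iota K) := by
    unfold ChevalleyDatum.posUnipotent
    rw [Subgroup.closure_le]
    rintro x ⟨r, t, hr, hx⟩
    obtain ⟨h6, h12⟩ := lt_of_isPosRoot r hr
    rw [eq_xG hG2 x r t hx]
    show iota K (xG hG2 r t) ∈ chevG2.negUnipotent K
    rw [iota_xG_nat r h12]
    exact xG_mem_V (11 - r) (by omega) _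
  exact this hg

theorem iota_mem_U (g : GL chevG2.Idx K) (hg : g ∈ chevG2.negUnipotent K) :
    iota K g ∈ chevG2.posUnipotent K := by
  have : chevG2.negUnipotent K ≤ (chevG2.posUnipotent K).comap (iota K) := by
    unfold ChevalleyDatum.negUnipotent
    rw [Subgroup.closure_le]
    rintro x ⟨r, t, hr, hx⟩
    have h6 := lt_of_isNegRoot r hr
    rw [eq_xG hG2 x r t hx]
    show iota K (xG hG2 r t) ∈ chevG2.posUnipotent K
    rw [iota_xG_nat r (by omega)]
    exact xG_mem_U (11 - r) (by omega) (by omega) _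
  exact this hg

theorem wordG_reeWordV (θ : ℕ) (t u v : K) :
    wordG hG2 (reeWordV θ t u v) = iota K (wordG hG2 (reeWordU θ t u v)) := by
  unfold reeWordV
  exact wordG_negWord _ (reeWordU_lt θ t u v)

theorem wordG_reeWordV_mem_twisted (θ : ℕ) (t u v : K) : wordG hG2 (reeWordV θ t u v) ∈ twistedG2 K θ :=
  Subgroup.subset_closure ⟨reeWordV θ t u v, ⟨t, u, v, Or.inr rfl⟩, coe_wordG hG2 _⟩

theorem wordG_reeWordV_mem_V (θ : ℕ) (t u v : K) : wordG hG2 (reeWordV θ t u v) ∈ chevG2.negUnipotent K := by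
  rw [wordG_reeWordV]
  exact iota_mem_V _ (wordG_reeWordU_mem_U θ t u v)

/-- The Chevalley involution preserves the small Ree group. -/
theorem iota_mem_twisted (θ : ℕ) (g : GL chevG2.Idx K) (hg : g ∈ twistedG2 K θ) : iota K g ∈ twistedG2 K θ := by
  have : twistedG2 K θ ≤ (twistedG2 K θ).comap (iota K) := by
    unfold twistedG2 ChevalleyDatum.genSubgroup
    rw [Subgroup.closure_le]
    rintro x ⟨w, ⟨t, u, v, hw | hw⟩, hx⟩
    · have e : x = wordG hG2 (reeWordU θ t u v) := by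
        apply Units.ext
        rw [hx, hw, coe_wordG]
      show iota K x ∈ Subgroup.closure _
      rw [e, ← wordG_reeWordV]
      exact wordG_reeWordV_mem_twisted θ t u v
    · have e : x = wordG hG2 (reeWordV θ t u v) := by
        apply Units.ext
        rw [hx, hw, coe_wordG]
      show iota K x ∈ Subgroup.closure _
      rw [e, wordG_reeWordV, iota_iota]
      exact wordG_reeWordU_mem_twisted θ t u v
  exact this hg

/-- `U ∩ ²G₂`, with the elements given as words in the group. -/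
theorem U_twisted_iff [Fintype K] {m : ℕ} (hK : Fintype.card K = 3 ^ (2 * m + 1)) (g : GL chevG2.Idx K) :
    g ∈ chevG2.posUnipotent K ⊓ twistedG2 K (3 ^ m) ↔ ∃ t u v : K, g = wordG hG2 (reeWordU (3 ^ m) t u v) := by
  rw [(Cfsg.Agent.S1101.main hK).1 g]
  constructor
  · rintro ⟨t, u, v, h⟩
    refine ⟨t, u, v, ?_⟩
    apply Units.ext
    rw [h, coe_wordG]
  · rintro ⟨t, u, v, rfl⟩
    exact ⟨t, u, v, coe_wordG hG2 _⟩

/-- `V ∩ ²G₂` consists of the elements `reeWordV θ t u v`. -/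
theorem V_twisted_iff [Fintype K] {m : ℕ} (hK : Fintype.card K = 3 ^ (2 * m + 1)) (g : GL chevG2.Idx K) :
    g ∈ chevG2.negUnipotent K ⊓ twistedG2 K (3 ^ m) ↔ ∃ t u v : K, g = wordG hG2 (reeWordV (3 ^ m) t u v) := by
  constructor
  · rintro ⟨hV, hT⟩
    have h : iota K g ∈ chevG2.posUnipotent K ⊓ twistedG2 K (3 ^ m) :=
      ⟨iota_mem_U g hV, iota_mem_twisted _ g hT⟩
    obtain ⟨t, u, v, e⟩ := (U_twisted_iff hK _).mp h
    refine ⟨t, u, v, ?_⟩
    rw [wordG_reeWordV, ← e, iota_iota]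
  · rintro ⟨t, u, v, rfl⟩
    exact ⟨wordG_reeWordV_mem_V _ t u v, wordG_reeWordV_mem_twisted _ t u v⟩

/-- `V ∩ ²G₂`, with the elements given as matrices of words. -/
theorem V_twisted_iff' [Fintype K] {m : ℕ} (hK : Fintype.card K = 3 ^ (2 * m + 1)) (g : GL chevG2.Idx K) :
    g ∈ chevG2.negUnipotent K ⊓ twistedG2 K (3 ^ m) ↔
      ∃ t u v : K, (g : Matrix chevG2.Idx chevG2.Idx K) = chevG2.wordMat K (reeWordV (3 ^ m) t u v) := by
  rw [V_twisted_iff hK]
  constructor
  · rintro ⟨t, u, v, rfl⟩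
    exact ⟨t, u, v, coe_wordG hG2 _⟩
  · rintro ⟨t, u, v, h⟩
    refine ⟨t, u, v, ?_⟩
    apply Units.ext
    rw [h, coe_wordG]

theorem reeWordV_inj [CharP K 3] (θ : ℕ) (t u v t' u' v' : K)
    (h : wordG hG2 (reeWordV θ t u v) = wordG hG2 (reeWordV θ t' u' v')) : t = t' ∧ u = u' ∧ v = v' := by
  rw [wordG_reeWordV, wordG_reeWordV] at h
  exact reeWordU_inj θ t u v t' u' v' (iota_injective h)

/-- `|V ∩ ²G₂| = q³`. -/
theorem card_V_twisted [Fintype K] {m : ℕ} (hK : Fintype.card K = 3 ^ (2 * m + 1)) :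
    Nat.card ↥(chevG2.negUnipotent K ⊓ twistedG2 K (3 ^ m)) = (3 ^ (2 * m + 1)) ^ 3 := by
  haveI : CharP K 3 := Cfsg.Agent.S1101.charP_three hK
  let φ : K × K × K → ↥(chevG2.negUnipotent K ⊓ twistedG2 K (3 ^ m)) := fun p =>
    ⟨wordG hG2 (reeWordV (3 ^ m) p.1 p.2.1 p.2.2), (V_twisted_iff hK _).mpr ⟨p.1, p.2.1, p.2.2, rfl⟩⟩
  have hφ : Function.Bijective φ := by
    constructor
    · rintro ⟨t, u, v⟩ ⟨t', u', v'⟩ h
      have h' := congrArg Subtype.val h
      obtain ⟨h1, h2, h3⟩ := reeWordV_inj (3 ^ m) t u v t' u' v' h'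
      rw [h1, h2, h3]
    · rintro ⟨g, hg⟩
      obtain ⟨t, u, v, rfl⟩ := (V_twisted_iff hK g).mp hg
      exact ⟨(t, u, v), rfl⟩
  rw [← Nat.card_congr (Equiv.ofBijective φ hφ), Nat.card_prod, Nat.card_prod, Nat.card_eq_fintype_card, hK]
  ring

end Cfsg.Agent.Lib.Helper61.ChevJ.G2ReeV
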