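/-
helper61: the centraliser of the unipotent radical `U_J` in a proper standard parabolic subgroup `P_J` of a Chevalley
group lies in `U`.  First `C_{P_J}(U_J) B` is a subgroup containing `B` and no fundamental reflection (a comparison of
leading terms in the grading by the height), so it is `B`; then the diagonal part of an element of `C_{P_J}(U_J)` is
killed by the characters `χ_s`, `s` a positive root involving a fundamental root outside `J`, and these characters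
generate all of them.
-/
import Cfsg.Agent.Lib.Helper61.ChevJ.Depth
import Cfsg.Agent.S1049
import Cfsg.Agent.Lib.Helper18.CartanSNF
import Cfsg.Agent.Lib.Helper18.Borel
import Cfsg.Agent.Lib.Helper18.TorusConj

set_option autoImplicit false

namespace Cfsg.Agent.Lib.Helper61.ChevJ

open Cfsg.Lie Cfsg.Agent.Lib.Helper18 Cfsg.Agent.Lib.Helper6 Matrix

universe u

variable {F : Type u} [Field F] {D : ChevalleyDatum}

/-- The centraliser of `U_J` in `P_J`. -/
def centUJ (D : ChevalleyDatum) (F : Type u) [Field F] (J : Set ℕ) : Subgroup (GL D.Idx F) :=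
  Subgroup.centralizer (D.unipotentRadical F J : Set (GL D.Idx F)) ⊓ D.parabolicSubgroup F J

theorem mem_centUJ (J : Set ℕ) (c : GL D.Idx F) :
    c ∈ centUJ D F J ↔ (∀ y ∈ D.unipotentRadical F J, y * c = c * y) ∧ c ∈ D.parabolicSubgroup F J := by
  unfold centUJ
  rw [Subgroup.mem_inf, Subgroup.mem_centralizer_iff]
  rfl

theorem conj_mem_centUJ (hD : D ∈ [chevG2, chevB2, chevD4, chevF4, chevE6, chevE7, chevE8]) (X : JData.{u} D)
    (J : Set ℕ) (g : GL D.Idx F) (hg : g ∈ D.parabolicSubgroup F J) (c : GL D.Idx F) (hc : c ∈ centUJ D F J) :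
    g * c * g⁻¹ ∈ centUJ D F J := by
  rw [mem_centUJ] at hc ⊢
  obtain ⟨hc1, hc2⟩ := hc
  refine ⟨?_, mul_mem (mul_mem hg hc2) (inv_mem hg)⟩
  intro y hy
  have hgN := parabolic_le_normalizer hD X J hg
  have hy' : g⁻¹ * y * g⁻¹⁻¹ ∈ D.unipotentRadical F J :=
    (Subgroup.mem_normalizer_iff.mp (inv_mem hgN) y).mp hy
  have h1 := hc1 _ hy'
  calc y * (g * c * g⁻¹) = g * ((g⁻¹ * y * g⁻¹⁻¹) * c) * g⁻¹ := by group
    _ = g * (c * (g⁻¹ * y * g⁻¹⁻¹)) * g⁻¹ := by rw [h1]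
    _ = g * c * g⁻¹ * y := by group

/-- `P_J` normalises `C_{P_J}(U_J)`. -/
theorem parabolic_le_normalizer_centUJ (hD : D ∈ [chevG2, chevB2, chevD4, chevF4, chevE6, chevE7, chevE8])
    (X : JData.{u} D) (J : Set ℕ) :
    D.parabolicSubgroup F J ≤ Subgroup.normalizer (centUJ D F J : Set (GL D.Idx F)) := by
  intro g hg
  rw [Subgroup.mem_normalizer_iff]
  intro c
  constructor
  · exact conj_mem_centUJ hD X J g hg c
  · intro h
    have := conj_mem_centUJ hD X J g⁻¹ (inv_mem hg) _ h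
    have e : g⁻¹ * (g * c * g⁻¹) * g⁻¹⁻¹ = c := by group
    rwa [e] at this

/-- A fundamental reflection outside `J` is not in `P_J`. -/
theorem sG_not_mem_parabolic (hD : D ∈ [chevG2, chevB2, chevD4, chevF4, chevE6, chevE7, chevE8])
    (X : JData.{u} D) (J : Set ℕ) (i : ℕ) (hi : i < D.rank) (hiJ : i ∉ J) :
    sG (F := F) hD X.C i ∉ D.parabolicSubgroup F J := by
  intro hmem
  have hsM := parabolic_le_normalizer hD X J hmem
  have hp := X.C.simple_lt i hi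
  have hpge := X.C.half_le_simple i hi
  have hn := X.C.nroots_eq
  have hev := X.C.heven
  have hpos : D.IsPosRoot (D.simple i) := (isPosRoot_iff hD _).mpr ⟨hp, hpge⟩
  have hxU : xG hD (D.simple i) (1 : F) ∈ D.unipotentRadical F J :=
    xG_mem_UJ hD J _ _ hpos (X.not_inRootSub_simple J i hi hiJ)
  rw [Subgroup.mem_normalizer_iff] at hsM
  have h1 := (hsM (xG hD (D.simple i) (1 : F))).mp hxU
  rw [sG_conj_xG_simple hD X.C i hi] at h1
  refine xG_neg_not_mem_borel hD _ ?_ ?_ _ ?_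
    (borel_of_posUnipotent _ (unipotentRadical_le_posUnipotent J h1))
  · unfold FastDatum.neg; omega
  · unfold FastDatum.neg; omega
  · exact mul_ne_zero (X.C.eta_ne_zero i _) one_ne_zero

namespace JData2

variable (Y : JData2.{u} D)

include Y

open Classical

theorem lvlR_empty_eq (r : ℕ) : Y.X.lvlR ∅ r = htAt Y.X.rcT Y.X.C.T.rank r := by
  unfold JData.lvlR htAt
  rw [Finset.sum_filter, Y.X.C.rank_eq, list_sum_range_eq, Finset.sum_range]
  exact Finset.sum_congr rfl (fun k _ => if_pos (Set.notMem_empty _))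

/-- A fundamental reflection fixes a root or changes its height. -/
theorem lvlR_w_ne (i : ℕ) (hi : i < D.rank) (s : ℕ) (hs : s < D.nroots) (hne : Y.X.C.w i s ≠ s) :
    Y.X.lvlR ∅ (Y.X.C.w i s) ≠ Y.X.lvlR ∅ s := by
  have hn := Y.X.C.nroots_eq
  have hl := Y.X.C.rank_eq
  rw [Y.lvlR_empty_eq, Y.lvlR_empty_eq]
  exact reflHtOK_spec Y.X.C.T Y.X.C.tabs Y.X.rcT Y.hrefl i (hl.symm ▸ hi) s (hn.symm ▸ hs) hne

/-- A fundamental reflection is not in `C_{P_J}(U_J) B`, for `J` proper. -/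
theorem mul_ne_sG (hD : D ∈ [chevG2, chevB2, chevD4, chevF4, chevE6, chevE7, chevE8]) (J : Set ℕ) (i₀ : ℕ)
    (hi₀ : i₀ < D.rank) (hi₀J : i₀ ∉ J) (i : ℕ) (hi : i < D.rank) (c : GL D.Idx F) (hc : c ∈ centUJ D F J)
    (b : GL D.Idx F) (hb : b ∈ D.borelSubgroup F) : c * b ≠ sG hD Y.X.C i := by
  intro hcb
  obtain ⟨hc1, hc2⟩ := (mem_centUJ J c).mp hc
  have hBP : D.borelSubgroup F ≤ D.parabolicSubgroup F J := le_sup_left
  by_cases hiJ : i ∈ J
  swap
  · apply sG_not_mem_parabolic (F := F) hD Y.X J i hi hiJ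
    rw [← hcb]
    exact mul_mem hc2 (hBP hb)
  have hne : i₀ ≠ i := by
    rintro rfl
    exact hi₀J hiJ
  have hn := Y.X.C.nroots_eq
  have hl := Y.X.C.rank_eq
  obtain ⟨s₁, s₂, hs₁, hs₂, hc₁, hc₂, -, hmove⟩ := pairOK_spec Y.X.C.T Y.X.C.tabs Y.X.C.simples Y.pcert Y.hpair
    i₀ (hl.symm ▸ hi₀) i (hl.symm ▸ hi) hne
  have key : ∀ s, (Y.X.C.T.nroots / 2 ≤ s ∧ s < Y.X.C.T.nroots) → Y.X.C.T.coroot s i₀ ≠ 0 →
      Y.X.C.w i s ≠ s → False := by
    intro s hs hcs hws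
    rw [hn] at hs
    have hspos : D.IsPosRoot s := (isPosRoot_iff hD s).mpr ⟨hs.2, hs.1⟩
    have hnot : ¬ D.InRootSub J s := by
      intro hin
      exact hcs (((Y.X.inRootSub_iff J s).mp hin).2 i₀ hi₀ hi₀J)
    obtain ⟨hwpos, -⟩ := w_pos_not_inRootSub hD Y.X J i hi hiJ s hspos hnot
    have hxU : xG hD s (1 : F) ∈ D.unipotentRadical F J := xG_mem_UJ hD J s 1 hspos hnot
    have hcomm : xG hD s (1 : F) * c = c * xG hD s 1 := hc1 _ hxU
    have hc' : c = sG hD Y.X.C i * b⁻¹ := by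
      rw [← hcb]
      group
    have h1 : b⁻¹ * xG hD s (1 : F) * b⁻¹⁻¹
        = xG hD (Y.X.C.w i s) ((Y.X.C.eta i (Y.X.C.w i s) : F) * 1) := by
      rw [← nG_inv_conj_xG hD Y.X.C i s hi hs.2 1, ← sG_of_lt hD Y.X.C i hi]
      have h0 : xG hD s (1 : F) * (sG hD Y.X.C i * b⁻¹) = (sG hD Y.X.C i * b⁻¹) * xG hD s 1 := by
        rw [← hc']
        exact hcomm
      calc b⁻¹ * xG hD s (1 : F) * b⁻¹⁻¹
          = (sG hD Y.X.C i)⁻¹ * ((sG hD Y.X.C i * b⁻¹) * xG hD s 1) * b := by group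
        _ = (sG hD Y.X.C i)⁻¹ * (xG hD s 1 * (sG hD Y.X.C i * b⁻¹)) * b := by rw [h0]
        _ = (sG hD Y.X.C i)⁻¹ * xG hD s 1 * sG hD Y.X.C i := by group
    obtain ⟨g, hg, h, hh, hgh⟩ := (mem_borel_iff D hD b⁻¹).mp (inv_mem hb)
    obtain ⟨t', ht'⟩ := Cfsg.Agent.S1036.conj_root_elem D hD h hh (xG hD s (1 : F)) s hs.2 1 (coe_xG hD s 1)
    have ht'' : h * xG hD s (1 : F) * h⁻¹ = xG hD s t' := Units.ext (by rw [ht', coe_xG])
    have h2 : g * xG hD s t' * g⁻¹ = xG hD (Y.X.C.w i s) ((Y.X.C.eta i (Y.X.C.w i s) : F) * 1) := by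
      rw [← h1, ← hgh, ← ht'']
      group
    have hht : Y.X.lvlR ∅ (Y.X.C.w i s) ≠ Y.X.lvlR ∅ s := Y.lvlR_w_ne i hi s hs.2 hws
    have h3 : g⁻¹ * xG hD (Y.X.C.w i s) ((Y.X.C.eta i (Y.X.C.w i s) : F) * 1) * g⁻¹⁻¹ = xG hD s t' := by
      rw [← h2]
      group
    have := Y.eq_zero_of_conj_eq_of_ne hD g⁻¹ (inv_mem hg) _ _ hwpos hspos hht _ _ h3
    exact mul_ne_zero (Y.X.C.eta_ne_zero i _) one_ne_zero this
  rcases hmove with hm | hm
  · exact key s₁ hs₁ hc₁ hm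
  · exact key s₂ hs₂ hc₂ hm

/-- `C_{P_J}(U_J) ≤ B` for `J` proper. -/
theorem centUJ_le_borel (hD : D ∈ [chevG2, chevB2, chevD4, chevF4, chevE6, chevE7, chevE8]) (J : Set ℕ) (i₀ : ℕ)
    (hi₀ : i₀ < D.rank) (hi₀J : i₀ ∉ J) : centUJ D F J ≤ D.borelSubgroup F := by
  obtain ⟨hBG, hNG, -⟩ := Cfsg.Agent.S1043.result (F := F) D hD
  obtain ⟨P, hPB, hPN, hPS⟩ := Cfsg.Agent.S1042.exists_bnPair (F := F) D hD Y.X.C
  have hBP : D.borelSubgroup F ≤ D.parabolicSubgroup F J := le_sup_left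
  have hLE : D.borelSubgroup F ≤ Subgroup.normalizer (centUJ D F J : Set (GL D.Idx F)) :=
    hBP.trans (parabolic_le_normalizer_centUJ hD Y.X J)
  set M : Subgroup ↥(D.group F) := (centUJ D F J ⊔ D.borelSubgroup F).subgroupOf (D.group F) with hMdef
  have hBM : P.B ≤ M := by
    intro b hb
    rw [hPB, Subgroup.mem_subgroupOf] at hb
    rw [hMdef, Subgroup.mem_subgroupOf]
    exact Subgroup.mem_sup_right hb
  have hM := eq_parabolic_of_B_le P hBM
  have hempty : {s | s ∈ P.S ∧ s ∈ M} = (∅ : Set ↥(D.group F)) := by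
    apply Set.eq_empty_of_forall_notMem
    rintro s ⟨hsS, hsM⟩
    rw [hPS] at hsS
    obtain ⟨i, hi, hs⟩ := hsS
    have hsi : (s : GL D.Idx F) = sG hD Y.X.C i := Units.ext (by rw [hs, coe_sG hD Y.X.C i hi])
    rw [hMdef, Subgroup.mem_subgroupOf, hsi, ← SetLike.mem_coe,
      Subgroup.coe_mul_of_right_le_normalizer_left _ _ hLE, Set.mem_mul] at hsM
    obtain ⟨c, hc, b, hb, hcb⟩ := hsM
    exact Y.mul_ne_sG hD J i₀ hi₀ hi₀J i hi c hc b hb hcb
  intro g hg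
  have hgG : g ∈ D.group F := Cfsg.Agent.S1049.parabolic_le_group hD Y.X.C J ((mem_centUJ J g).mp hg).2
  have hgM : (⟨g, hgG⟩ : ↥(D.group F)) ∈ M := by
    rw [hMdef, Subgroup.mem_subgroupOf]
    exact Subgroup.mem_sup_left hg
  rw [hM, hempty] at hgM
  unfold Cfsg.BNPair.parabolic at hgM
  rw [Subgroup.closure_empty, sup_bot_eq, hPB, Subgroup.mem_subgroupOf] at hgM
  exact hgM

end JData2

/-! ### The characters of the diagonal subgroup -/

theorem chiU_add (c : Fin D.rank → Fˣ) (s₁ s₂ s₃ : ℕ)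
    (h : ∀ l < D.rank, D.cartan l s₁ = D.cartan l s₂ + D.cartan l s₃) :
    chiU D c s₁ = chiU D c s₂ * chiU D c s₃ := by
  unfold chiU
  rw [← Finset.prod_mul_distrib]
  apply Finset.prod_congr rfl
  intro l _
  rw [h l l.isLt, _root_.zpow_add]

theorem torusHom_conj_xG (hD : D ∈ [chevG2, chevB2, chevD4, chevF4, chevE6, chevE7, chevE8])
    (c : Fin D.rank → Fˣ) (s : ℕ) (hs : s < D.nroots) (t : F) :
    torusHom D F c * xG hD s t * (torusHom D F c)⁻¹ = xG hD s (((chiU D c s : Fˣ) : F) * t) := by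
  apply Units.ext
  have hc : ∀ i < D.rank, extC D.rank c i ≠ 0 := fun i _ => extC_ne_zero _ c i
  rw [Units.val_mul, Units.val_mul, coe_xG, coe_xG, coe_torusHom, torus_mul_x D hD _ hc s hs t, mul_assoc,
    ← coe_torusHom, ← Units.val_mul, mul_inv_cancel, Units.val_one, mul_one, coe_chiU D c ⟨s, hs⟩]

theorem exists_rootComb (hD : D ∈ [chevG2, chevB2, chevD4, chevF4, chevE6, chevE7, chevE8]) :
    ∃ m : ℕ → ℕ → ℤ, RootComb D m := by
  simp only [List.mem_cons, List.not_mem_nil, or_false] at hD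
  rcases hD with rfl | rfl | rfl | rfl | rfl | rfl | rfl
  · exact ⟨_, rootComb_G2⟩
  · exact ⟨_, rootComb_B2⟩
  · exact ⟨_, rootComb_D4⟩
  · exact ⟨_, rootComb_F4⟩
  · exact ⟨_, rootComb_E6⟩
  · exact ⟨_, rootComb_E7⟩
  · exact ⟨_, rootComb_E8⟩

/-- An element of `H` killed by the characters of the fundamental roots is trivial. -/
theorem torusHom_eq_one_of_simple (hD : D ∈ [chevG2, chevB2, chevD4, chevF4, chevE6, chevE7, chevE8])
    (c : Fin D.rank → Fˣ) (h : ∀ j : Fin D.rank, chiU D c (D.simple j) = 1) : torusHom D F c = 1 := by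
  obtain ⟨m, hm⟩ := exists_rootComb hD
  rw [← MonoidHom.mem_ker, mem_ker_torusHom]
  intro s
  rw [chiU_eq_of_rootCombOK D m hm c s]
  apply Finset.prod_eq_one
  intro j _
  have e : mpow c (cartanMat D) j = chiU D c (D.simple j) := rfl
  rw [e, h j, _root_.one_zpow]

namespace JData2

variable (Y : JData2.{u} D)

include Y

/-- `C_{P_J}(U_J) ≤ U` for `J` proper. -/
theorem centUJ_le_posUnipotent (hD : D ∈ [chevG2, chevB2, chevD4, chevF4, chevE6, chevE7, chevE8]) (J : Set ℕ)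
    (i₀ : ℕ) (hi₀ : i₀ < D.rank) (hi₀J : i₀ ∉ J) : centUJ D F J ≤ D.posUnipotent F := by
  intro c hc
  have hcB := Y.centUJ_le_borel hD J i₀ hi₀ hi₀J hc
  obtain ⟨hc1, hc2⟩ := (mem_centUJ J c).mp hc
  obtain ⟨g, hg, h, hh, hgh⟩ := (mem_borel_iff D hD c).mp hcB
  rw [← range_torusHom (F := F) D hD] at hh
  obtain ⟨c', rfl⟩ := hh
  have hn := Y.X.C.nroots_eq
  have hl := Y.X.C.rank_eq
  have key : ∀ s, (Y.X.C.T.nroots / 2 ≤ s ∧ s < Y.X.C.T.nroots) → Y.X.C.T.coroot s i₀ ≠ 0 →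
      chiU D c' s = 1 := by
    intro s hs hcs
    rw [hn] at hs
    have hspos : D.IsPosRoot s := (isPosRoot_iff hD s).mpr ⟨hs.2, hs.1⟩
    have hnot : ¬ D.InRootSub J s := by
      intro hin
      exact hcs (((Y.X.inRootSub_iff J s).mp hin).2 i₀ hi₀ hi₀J)
    have hxU : xG hD s (1 : F) ∈ D.unipotentRadical F J := xG_mem_UJ hD J s 1 hspos hnot
    have hcomm : xG hD s (1 : F) * c = c * xG hD s 1 := hc1 _ hxU
    have h2 : g * xG hD s (((chiU D c' s : Fˣ) : F) * 1) * g⁻¹ = xG hD s 1 := by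
      rw [← torusHom_conj_xG hD c' s hs.2 1]
      calc g * (torusHom D F c' * xG hD s 1 * (torusHom D F c')⁻¹) * g⁻¹
          = (g * torusHom D F c') * xG hD s 1 * (g * torusHom D F c')⁻¹ := by group
        _ = xG hD s 1 := by
          rw [hgh, ← hcomm]
          group
    have h3 := Y.eq_of_conj_eq hD g hg s hspos _ _ h2
    rw [mul_one] at h3
    exact Units.ext h3
  have hsimple : ∀ j : Fin D.rank, chiU D c' (D.simple j) = 1 := by
    intro j
    by_cases hj : (j : ℕ) = i₀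
    · apply key (D.simple j)
      · rw [hn]
        exact ⟨Y.X.C.half_le_simple j j.isLt, Y.X.C.simple_lt j j.isLt⟩
      · rw [Y.X.coroot_simple j j.isLt i₀ hi₀, if_pos hj.symm]
        exact one_ne_zero
    · obtain ⟨s₁, s₂, hs₁, hs₂, hc₁, hc₂, hadd, -⟩ := pairOK_spec Y.X.C.T Y.X.C.tabs Y.X.C.simples Y.pcert
        Y.hpair i₀ (hl.symm ▸ hi₀) j (hl.symm ▸ j.isLt) (Ne.symm hj)
      have h1 := key s₁ hs₁ hc₁
      have h2 := key s₂ hs₂ hc₂
      have h3 := chiU_add c' s₁ s₂ (D.simple j) (by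
        intro l hl'
        rw [Y.X.C.T.cartan_eq D Y.X.C.hag l hl' s₁ (hn ▸ hs₁.2), Y.X.C.T.cartan_eq D Y.X.C.hag l hl' s₂ (hn ▸ hs₂.2),
          Y.X.C.T.cartan_eq D Y.X.C.hag l hl' _ (Y.X.C.simple_lt j j.isLt), Y.X.C.hsimple j j.isLt]
        exact hadd l (hl.symm ▸ hl'))
      rw [h1, h2, one_mul] at h3
      exact h3.symm
  have h1 := torusHom_eq_one_of_simple hD c' hsimple
  rw [h1, mul_one] at hgh
  rw [← hgh]
  exact hg

end JData2

end Cfsg.Agent.Lib.Helper61.ChevJ
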