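/-
helper61: the unipotent group `U` of the Chevalley group of type G₂ over a field of characteristic two, in coordinates:
`uu a b c d e f = x_6(a) x_7(b) x_8(c) x_9(d) x_10(e) x_11(f)` (root numbering of the Chevalley data module: `b = 6`,
`a = 7`, `a+b = 8`, `2a+b = 9`, `3a+b = 10`, `3a+2b = 11`), with the multiplication law.
-/
import Cfsg.Agent.Lib.Helper61.ChevJ.G2Short3

set_option autoImplicit false
set_option linter.unusedSectionVars false
set_option linter.unusedSimpArgs false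

namespace Cfsg.Agent.Lib.Helper61.ChevJ.G2Char2

open Cfsg.Lie Cfsg.Agent.Lib.Helper18 Cfsg.Agent.Lib.Helper91.HighRoot Cfsg.Agent.Lib.Helper61.ChevJ
  Cfsg.Agent.Lib.Helper61.ChevJ.G2Short

universe u

variable {F : Type u} [Field F] [CharP F 2]

theorem two_eq_zero' : (2 : F) = 0 := CharTwo.two_eq_zero

/-! ### Commutator relations in characteristic two -/

set_option maxRecDepth 100000 in
theorem commTerms_6_7 : chevG2.commTerms 6 7 = [(8, 1, 1, 1), (9, 1, 1, 2), (10, -1, 1, 3), (11, -2, 2, 3)] := by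
  decide +kernel

set_option maxRecDepth 100000 in
theorem commTerms_6_10 : chevG2.commTerms 6 10 = [(11, 1, 1, 1)] := by decide +kernel

set_option maxRecDepth 100000 in
theorem commTerms_7_8 : chevG2.commTerms 7 8 = [(9, -2, 1, 1), (10, -3, 2, 1), (11, 3, 1, 2)] := by decide +kernel

set_option maxRecDepth 100000 in
theorem commTerms_7_9 : chevG2.commTerms 7 9 = [(10, 3, 1, 1)] := by decide +kernel

set_option maxRecDepth 100000 in
theorem commTerms_8_9 : chevG2.commTerms 8 9 = [(11, 3, 1, 1)] := by decide +kernel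

set_option maxRecDepth 100000 in
theorem commTerms_9_4 : chevG2.commTerms 9 4 = [(8, 2, 1, 1), (11, -3, 2, 1), (6, 3, 1, 2)] := by decide +kernel

/-- `x_7(b) x_6(t) = x_6(t) x_7(b) x_8(tb) x_9(tb²) x_10(tb³)`. -/
theorem rel_7_6 (t b : F) : xG hG2 7 b * xG hG2 6 t
    = xG hG2 6 t * xG hG2 7 b * (xG hG2 8 (t * b) * (xG hG2 9 (t * b ^ 2) * xG hG2 10 (t * b ^ 3))) := by
  have h2 : (2 : F) = 0 := two_eq_zero'
  have h1 := chevData_G2.comm F 6 7 (by decide) (by decide) (by norm_num) (by decide) t b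
  apply Units.ext
  simp only [Units.val_mul, coe_xG]
  rw [h1]
  unfold ChevalleyDatum.commWord
  rw [commTerms_6_7]
  simp only [List.map_cons, List.map_nil, wordMat_cons', wordMat_nil', mul_one]
  have e1 : ((1 : ℤ) : F) * (-t) ^ 1 * b ^ 1 = t * b := by push_cast; linear_combination (-(t * b)) * h2
  have e2 : ((1 : ℤ) : F) * (-t) ^ 1 * b ^ 2 = t * b ^ 2 := by push_cast; linear_combination (-(t * b ^ 2)) * h2
  have e3 : ((-1 : ℤ) : F) * (-t) ^ 1 * b ^ 3 = t * b ^ 3 := by push_cast; ring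
  have e4 : ((-2 : ℤ) : F) * (-t) ^ 2 * b ^ 3 = 0 := by push_cast; linear_combination (-(t ^ 2 * b ^ 3)) * h2
  rw [e1, e2, e3, e4, x_zero hG2, mul_one]

/-- `x_10(e) x_6(t) = x_6(t) x_10(e) x_11(te)`. -/
theorem rel_10_6 (t e : F) : xG hG2 10 e * xG hG2 6 t = xG hG2 6 t * xG hG2 10 e * xG hG2 11 (t * e) := by
  have h2 : (2 : F) = 0 := two_eq_zero'
  have h1 := chevData_G2.comm F 6 10 (by decide) (by decide) (by norm_num) (by decide) t e
  apply Units.ext
  simp only [Units.val_mul, coe_xG]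
  rw [h1]
  unfold ChevalleyDatum.commWord
  rw [commTerms_6_10]
  simp only [List.map_cons, List.map_nil, wordMat_cons', wordMat_nil', mul_one]
  have e1 : ((1 : ℤ) : F) * (-t) ^ 1 * e ^ 1 = t * e := by push_cast; linear_combination (-(t * e)) * h2
  rw [e1]

/-- `x_8(c) x_7(t) = x_7(t) x_8(c) x_10(t²c) x_11(tc²)`. -/
theorem rel_8_7 (t c : F) : xG hG2 8 c * xG hG2 7 t
    = xG hG2 7 t * xG hG2 8 c * (xG hG2 10 (t ^ 2 * c) * xG hG2 11 (t * c ^ 2)) := by
  have h2 : (2 : F) = 0 := two_eq_zero'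
  have h1 := chevData_G2.comm F 7 8 (by decide) (by decide) (by norm_num) (by decide) t c
  apply Units.ext
  simp only [Units.val_mul, coe_xG]
  rw [h1]
  unfold ChevalleyDatum.commWord
  rw [commTerms_7_8]
  simp only [List.map_cons, List.map_nil, wordMat_cons', wordMat_nil', mul_one]
  have e1 : ((-2 : ℤ) : F) * (-t) ^ 1 * c ^ 1 = 0 := by push_cast; linear_combination (t * c) * h2
  have e2 : ((-3 : ℤ) : F) * (-t) ^ 2 * c ^ 1 = t ^ 2 * c := by push_cast; linear_combination (-2 * (t ^ 2 * c)) * h2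
  have e3 : ((3 : ℤ) : F) * (-t) ^ 1 * c ^ 2 = t * c ^ 2 := by push_cast; linear_combination (-2 * (t * c ^ 2)) * h2
  rw [e1, e2, e3, x_zero hG2, one_mul]

/-- `x_9(d) x_7(t) = x_7(t) x_9(d) x_10(td)`. -/
theorem rel_9_7 (t d : F) : xG hG2 9 d * xG hG2 7 t = xG hG2 7 t * xG hG2 9 d * xG hG2 10 (t * d) := by
  have h2 : (2 : F) = 0 := two_eq_zero'
  have h1 := chevData_G2.comm F 7 9 (by decide) (by decide) (by norm_num) (by decide) t d
  apply Units.ext
  simp only [Units.val_mul, coe_xG]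
  rw [h1]
  unfold ChevalleyDatum.commWord
  rw [commTerms_7_9]
  simp only [List.map_cons, List.map_nil, wordMat_cons', wordMat_nil', mul_one]
  have e1 : ((3 : ℤ) : F) * (-t) ^ 1 * d ^ 1 = t * d := by push_cast; linear_combination (-2 * (t * d)) * h2
  rw [e1]

/-- `x_9(d) x_8(t) = x_8(t) x_9(d) x_11(td)`. -/
theorem rel_9_8 (t d : F) : xG hG2 9 d * xG hG2 8 t = xG hG2 8 t * xG hG2 9 d * xG hG2 11 (t * d) := by
  have h2 : (2 : F) = 0 := two_eq_zero'
  have h1 := chevData_G2.comm F 8 9 (by decide) (by decide) (by norm_num) (by decide) t d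
  apply Units.ext
  simp only [Units.val_mul, coe_xG]
  rw [h1]
  unfold ChevalleyDatum.commWord
  rw [commTerms_8_9]
  simp only [List.map_cons, List.map_nil, wordMat_cons', wordMat_nil', mul_one]
  have e1 : ((3 : ℤ) : F) * (-t) ^ 1 * d ^ 1 = t * d := by push_cast; linear_combination (-2 * (t * d)) * h2
  rw [e1]

/-! ### Collection rules: `x_j(y) x_i(t)` with `i < j` -/

theorem c_8_6 (t y : F) : xG hG2 8 y * xG hG2 6 t = xG hG2 6 t * xG hG2 8 y := comm_6_8 t y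

theorem c_8_6' (t y : F) (z : GL chevG2.Idx F) :
    xG hG2 8 y * (xG hG2 6 t * z) = xG hG2 6 t * (xG hG2 8 y * z) := by
  rw [← mul_assoc, c_8_6, mul_assoc]

theorem c_9_6 (t y : F) : xG hG2 9 y * xG hG2 6 t = xG hG2 6 t * xG hG2 9 y := (comm_9_6 y t).symm

theorem c_9_6' (t y : F) (z : GL chevG2.Idx F) :
    xG hG2 9 y * (xG hG2 6 t * z) = xG hG2 6 t * (xG hG2 9 y * z) := by
  rw [← mul_assoc, c_9_6, mul_assoc]

theorem c_11_6 (t y : F) : xG hG2 11 y * xG hG2 6 t = xG hG2 6 t * xG hG2 11 y := comm_6_11 t y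

theorem c_11_6' (t y : F) (z : GL chevG2.Idx F) :
    xG hG2 11 y * (xG hG2 6 t * z) = xG hG2 6 t * (xG hG2 11 y * z) := by
  rw [← mul_assoc, c_11_6, mul_assoc]

theorem c_10_7 (t y : F) : xG hG2 10 y * xG hG2 7 t = xG hG2 7 t * xG hG2 10 y := comm_7_10 t y

theorem c_10_7' (t y : F) (z : GL chevG2.Idx F) :
    xG hG2 10 y * (xG hG2 7 t * z) = xG hG2 7 t * (xG hG2 10 y * z) := by
  rw [← mul_assoc, c_10_7, mul_assoc]

theorem c_11_7 (t y : F) : xG hG2 11 y * xG hG2 7 t = xG hG2 7 t * xG hG2 11 y := comm_7_11 t y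

theorem c_11_7' (t y : F) (z : GL chevG2.Idx F) :
    xG hG2 11 y * (xG hG2 7 t * z) = xG hG2 7 t * (xG hG2 11 y * z) := by
  rw [← mul_assoc, c_11_7, mul_assoc]

theorem c_10_8 (t y : F) : xG hG2 10 y * xG hG2 8 t = xG hG2 8 t * xG hG2 10 y := comm_8_10 t y

theorem c_10_8' (t y : F) (z : GL chevG2.Idx F) :
    xG hG2 10 y * (xG hG2 8 t * z) = xG hG2 8 t * (xG hG2 10 y * z) := by
  rw [← mul_assoc, c_10_8, mul_assoc]

theorem c_11_8 (t y : F) : xG hG2 11 y * xG hG2 8 t = xG hG2 8 t * xG hG2 11 y := comm_8_11 t y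

theorem c_11_8' (t y : F) (z : GL chevG2.Idx F) :
    xG hG2 11 y * (xG hG2 8 t * z) = xG hG2 8 t * (xG hG2 11 y * z) := by
  rw [← mul_assoc, c_11_8, mul_assoc]

theorem c_10_9 (t y : F) : xG hG2 10 y * xG hG2 9 t = xG hG2 9 t * xG hG2 10 y := comm_9_10 t y

theorem c_10_9' (t y : F) (z : GL chevG2.Idx F) :
    xG hG2 10 y * (xG hG2 9 t * z) = xG hG2 9 t * (xG hG2 10 y * z) := by
  rw [← mul_assoc, c_10_9, mul_assoc]

theorem c_11_9 (t y : F) : xG hG2 11 y * xG hG2 9 t = xG hG2 9 t * xG hG2 11 y := comm_9_11 t y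

theorem c_11_9' (t y : F) (z : GL chevG2.Idx F) :
    xG hG2 11 y * (xG hG2 9 t * z) = xG hG2 9 t * (xG hG2 11 y * z) := by
  rw [← mul_assoc, c_11_9, mul_assoc]

theorem c_11_10 (t y : F) : xG hG2 11 y * xG hG2 10 t = xG hG2 10 t * xG hG2 11 y := comm_10_11 t y

theorem c_11_10' (t y : F) (z : GL chevG2.Idx F) :
    xG hG2 11 y * (xG hG2 10 t * z) = xG hG2 10 t * (xG hG2 11 y * z) := by
  rw [← mul_assoc, c_11_10, mul_assoc]

theorem r_7_6 (t b : F) : xG hG2 7 b * xG hG2 6 t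
    = xG hG2 6 t * (xG hG2 7 b * (xG hG2 8 (t * b) * (xG hG2 9 (t * b ^ 2) * xG hG2 10 (t * b ^ 3)))) := by
  rw [rel_7_6, mul_assoc]

theorem r_7_6' (t b : F) (z : GL chevG2.Idx F) : xG hG2 7 b * (xG hG2 6 t * z)
    = xG hG2 6 t * (xG hG2 7 b * (xG hG2 8 (t * b) * (xG hG2 9 (t * b ^ 2) * (xG hG2 10 (t * b ^ 3) * z)))) := by
  rw [← mul_assoc, rel_7_6]
  simp only [mul_assoc]

theorem r_10_6 (t e : F) : xG hG2 10 e * xG hG2 6 t = xG hG2 6 t * (xG hG2 10 e * xG hG2 11 (t * e)) := by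
  rw [rel_10_6, mul_assoc]

theorem r_10_6' (t e : F) (z : GL chevG2.Idx F) : xG hG2 10 e * (xG hG2 6 t * z)
    = xG hG2 6 t * (xG hG2 10 e * (xG hG2 11 (t * e) * z)) := by
  rw [← mul_assoc, rel_10_6]
  simp only [mul_assoc]

theorem r_8_7 (t c : F) : xG hG2 8 c * xG hG2 7 t
    = xG hG2 7 t * (xG hG2 8 c * (xG hG2 10 (t ^ 2 * c) * xG hG2 11 (t * c ^ 2))) := by
  rw [rel_8_7, mul_assoc]

theorem r_8_7' (t c : F) (z : GL chevG2.Idx F) : xG hG2 8 c * (xG hG2 7 t * z)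
    = xG hG2 7 t * (xG hG2 8 c * (xG hG2 10 (t ^ 2 * c) * (xG hG2 11 (t * c ^ 2) * z))) := by
  rw [← mul_assoc, rel_8_7]
  simp only [mul_assoc]

theorem r_9_7 (t d : F) : xG hG2 9 d * xG hG2 7 t = xG hG2 7 t * (xG hG2 9 d * xG hG2 10 (t * d)) := by
  rw [rel_9_7, mul_assoc]

theorem r_9_7' (t d : F) (z : GL chevG2.Idx F) : xG hG2 9 d * (xG hG2 7 t * z)
    = xG hG2 7 t * (xG hG2 9 d * (xG hG2 10 (t * d) * z)) := by
  rw [← mul_assoc, rel_9_7]
  simp only [mul_assoc]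

theorem r_9_8 (t d : F) : xG hG2 9 d * xG hG2 8 t = xG hG2 8 t * (xG hG2 9 d * xG hG2 11 (t * d)) := by
  rw [rel_9_8, mul_assoc]

theorem r_9_8' (t d : F) (z : GL chevG2.Idx F) : xG hG2 9 d * (xG hG2 8 t * z)
    = xG hG2 8 t * (xG hG2 9 d * (xG hG2 11 (t * d) * z)) := by
  rw [← mul_assoc, rel_9_8]
  simp only [mul_assoc]

theorem m_x (r : ℕ) (s t : F) (z : GL chevG2.Idx F) : xG hG2 r s * (xG hG2 r t * z) = xG hG2 r (s + t) * z := by
  rw [← mul_assoc, xG_mul]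

/-- The element with coordinates `(a, b, c, d, e, f)`. -/
noncomputable def uu (a b c d e f : F) : GL chevG2.Idx F :=
  xG hG2 6 a * (xG hG2 7 b * (xG hG2 8 c * (xG hG2 9 d * (xG hG2 10 e * xG hG2 11 f))))

theorem uu_congr {a b c d e f a' b' c' d' e' f' : F} (h1 : a = a') (h2 : b = b') (h3 : c = c') (h4 : d = d')
    (h5 : e = e') (h6 : f = f') : uu a b c d e f = uu a' b' c' d' e' f' := by
  rw [h1, h2, h3, h4, h5, h6]

theorem uu_mul_x11 (a b c d e f t : F) : uu a b c d e f * xG hG2 11 t = uu a b c d e (f + t) := by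
  unfold uu
  simp only [mul_assoc, xG_mul]

theorem uu_mul_x10 (a b c d e f t : F) : uu a b c d e f * xG hG2 10 t = uu a b c d (e + t) f := by
  unfold uu
  simp only [mul_assoc, c_11_10, m_x]

theorem uu_mul_x9 (a b c d e f t : F) : uu a b c d e f * xG hG2 9 t = uu a b c (d + t) e f := by
  unfold uu
  simp only [mul_assoc, c_11_9, c_10_9', m_x]

theorem uu_mul_x8 (a b c d e f t : F) : uu a b c d e f * xG hG2 8 t = uu a b (c + t) d e (f + t * d) := by
  unfold uu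
  simp only [mul_assoc, c_11_8, c_10_8', r_9_8', m_x, c_11_10', c_11_10, xG_mul]
  exact uu_congr rfl rfl rfl rfl rfl (by ring)


theorem uu_mul_x7 (a b c d e f t : F) :
    uu a b c d e f * xG hG2 7 t = uu a (b + t) c d (e + t * d + t ^ 2 * c) (f + t * c ^ 2) := by
  unfold uu
  simp only [mul_assoc, c_8_6, c_8_6', c_9_6, c_9_6', c_11_6, c_11_6', c_10_7, c_10_7', c_11_7, c_11_7', c_10_8, c_10_8',
    c_11_8, c_11_8', c_10_9, c_10_9', c_11_9, c_11_9', c_11_10, c_11_10', r_7_6, r_7_6', r_10_6, r_10_6', r_8_7, r_8_7',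
    r_9_7, r_9_7', r_9_8, r_9_8', m_x, xG_mul]
  exact uu_congr rfl rfl rfl rfl (by ring) (by ring)

theorem uu_mul_x6 (a b c d e f t : F) :
    uu a b c d e f * xG hG2 6 t
      = uu (a + t) b (c + t * b) (d + t * b ^ 2) (e + t * b ^ 3) (f + t * e + t * b ^ 2 * c) := by
  unfold uu
  simp only [mul_assoc, c_8_6, c_8_6', c_9_6, c_9_6', c_11_6, c_11_6', c_10_7, c_10_7', c_11_7, c_11_7', c_10_8, c_10_8',
    c_11_8, c_11_8', c_10_9, c_10_9', c_11_9, c_11_9', c_11_10, c_11_10', r_7_6, r_7_6', r_10_6, r_10_6', r_8_7, r_8_7',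
    r_9_7, r_9_7', r_9_8, r_9_8', m_x, xG_mul]
  exact uu_congr rfl rfl (by ring) (by ring) (by ring) (by ring)

/-- The multiplication law of `U` in characteristic two. -/
theorem uu_mul (a b c d e f a1 b1 c1 d1 e1 f1 : F) :
    uu a b c d e f * uu a1 b1 c1 d1 e1 f1
      = uu (a + a1) (b + b1) (c + c1 + a1 * b) (d + d1 + a1 * b ^ 2)
          (e + e1 + a1 * b ^ 3 + a1 * b ^ 2 * b1 + a1 * b * b1 ^ 2 + b1 * d + b1 ^ 2 * c)
          (f + f1 + a1 * b ^ 2 * c + a1 * b ^ 2 * c1 + a1 * e + a1 ^ 2 * b ^ 2 * b1 + b1 * c ^ 2 + c1 * d) := by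
  have h2 : (2 : F) = 0 := two_eq_zero'
  have h : uu a1 b1 c1 d1 e1 f1
      = xG hG2 6 a1 * xG hG2 7 b1 * xG hG2 8 c1 * xG hG2 9 d1 * xG hG2 10 e1 * xG hG2 11 f1 := by
    unfold uu
    simp only [mul_assoc]
  rw [h]
  simp only [← mul_assoc]
  rw [uu_mul_x6, uu_mul_x7, uu_mul_x8, uu_mul_x9, uu_mul_x10, uu_mul_x11]
  exact uu_congr (by ring) (by ring) (by ring) (by ring) (by ring) (by linear_combination (a1 * b * b1 * c) * h2)

omit [CharP F 2] in
theorem uu_zero : uu (0 : F) 0 0 0 0 0 = 1 := by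
  unfold uu
  simp only [xG_zero, mul_one]

/-- The coefficient function of `uu a b c d e f`. -/
def cf (a b c d e f : F) : ℕ → F :=
  fun r => if r = 6 then a else if r = 7 then b else if r = 8 then c else if r = 9 then d else if r = 10 then e
    else if r = 11 then f else 0

omit [CharP F 2] in
theorem uu_eq_prodL (a b c d e f : F) : uu a b c d e f = prodL hG2 [6, 7, 8, 9, 10, 11] (cf a b c d e f) := by
  simp [prodL_cons, prodL_nil, uu, cf]

omit [CharP F 2] in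
theorem uu_inj {a b c d e f a' b' c' d' e' f' : F} (h : uu a b c d e f = uu a' b' c' d' e' f') :
    a = a' ∧ b = b' ∧ c = c' ∧ d = d' ∧ e = e' ∧ f = f' := by
  rw [uu_eq_prodL, uu_eq_prodL] at h
  have := prodL_injective hG2 (lexOK_of_mem _ hG2) (bezOK_of_mem _ hG2) _ posList (by decide) _ _ h
  refine ⟨?_, ?_, ?_, ?_, ?_, ?_⟩
  · simpa [cf] using this 6 (by simp)
  · simpa [cf] using this 7 (by simp)
  · simpa [cf] using this 8 (by simp)
  · simpa [cf] using this 9 (by simp)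
  · simpa [cf] using this 10 (by simp)
  · simpa [cf] using this 11 (by simp)

omit [CharP F 2] in
theorem exists_uu (g : GL chevG2.Idx F) (hg : g ∈ chevG2.posUnipotent F) :
    ∃ a b c d e f : F, g = uu a b c d e f := by
  obtain ⟨t, rfl⟩ := exists_prodL hG2 chevData_G2 levelData_G2 [6, 7, 8, 9, 10, 11] posList (by decide)
    (fun r hr => by
      obtain ⟨h6, h12⟩ := lt_of_isPosRoot r hr
      interval_cases r <;> simp) g hg
  exact ⟨t 6, t 7, t 8, t 9, t 10, t 11, by simp [prodL_cons, prodL_nil, uu]⟩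

omit [CharP F 2] in
theorem uu_mem_U (a b c d e f : F) : uu a b c d e f ∈ chevG2.posUnipotent F := by
  unfold uu
  exact mul_mem (xG_mem_U 6 (by norm_num) (by norm_num) _) (mul_mem (xG_mem_U 7 (by norm_num) (by norm_num) _)
    (mul_mem (xG_mem_U 8 (by norm_num) (by norm_num) _) (mul_mem (xG_mem_U 9 (by norm_num) (by norm_num) _)
    (mul_mem (xG_mem_U 10 (by norm_num) (by norm_num) _) (xG_mem_U 11 (by norm_num) (by norm_num) _)))))

omit [CharP F 2] in
theorem x6_eq (t : F) : xG hG2 6 t = uu t 0 0 0 0 0 := by unfold uu; simp only [xG_zero, mul_one]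
omit [CharP F 2] in
theorem x7_eq (t : F) : xG hG2 7 t = uu 0 t 0 0 0 0 := by unfold uu; simp only [xG_zero, mul_one, one_mul]
omit [CharP F 2] in
theorem x8_eq (t : F) : xG hG2 8 t = uu 0 0 t 0 0 0 := by unfold uu; simp only [xG_zero, mul_one, one_mul]
omit [CharP F 2] in
theorem x9_eq (t : F) : xG hG2 9 t = uu 0 0 0 t 0 0 := by unfold uu; simp only [xG_zero, mul_one, one_mul]
omit [CharP F 2] in
theorem x10_eq (t : F) : xG hG2 10 t = uu 0 0 0 0 t 0 := by unfold uu; simp only [xG_zero, mul_one, one_mul]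
omit [CharP F 2] in
theorem x11_eq (t : F) : xG hG2 11 t = uu 0 0 0 0 0 t := by unfold uu; simp only [xG_zero, one_mul]

end Cfsg.Agent.Lib.Helper61.ChevJ.G2Char2
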