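/-
helper61: involutions of the unipotent group `U` of the Chevalley group of type G₂ over a finite field of
characteristic two: conjugation formulas in the coordinates of `G2Char2`, and every involution of `U` is conjugate
in the Chevalley group to `x_11(1)` (long root element) or `x_9(1)` (short root element).
-/
import Cfsg.Agent.Lib.Helper61.ChevJ.G2Char2
import Cfsg.Agent.Lib.Helper18.TorusHom

set_option autoImplicit false
set_option linter.unusedSectionVars false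

namespace Cfsg.Agent.Lib.Helper61.ChevJ.G2Char2

open Cfsg.Lie Cfsg.Agent.Lib.Helper18 Cfsg.Agent.Lib.Helper91.HighRoot Cfsg.Agent.Lib.Helper61.ChevJ
  Cfsg.Agent.Lib.Helper61.ChevJ.G2Short

universe u

variable {F : Type u} [Field F] [CharP F 2]

/-! ### Conjugation formulas -/

/-- Conjugation of `(a,0,c,d,e,f)` by `x_7(s)`. -/
theorem cj1 (a c d e f s : F) :
    xG hG2 7 s * uu a 0 c d e f * xG hG2 7 s = uu a 0 (a * s + c) (a * s ^ 2 + d) (a * s ^ 3 + c * s ^ 2 + d * s + e) (a * c * s ^ 2 + a ^ 2 * s ^ 3 + c ^ 2 * s + f) := by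
  have h2 : (2 : F) = 0 := two_eq_zero'
  rw [x7_eq, uu_mul, uu_mul]
  exact uu_congr (by ring) (by linear_combination (s) * h2) (by ring)
    (by ring) (by linear_combination (a * s ^ 3) * h2) (by linear_combination (a * c * s ^ 2) * h2)

/-- Conjugation of `(a,0,0,d,0,f)` by `x_10(s)`. -/
theorem cj2 (a d f s : F) :
    xG hG2 10 s * uu a 0 0 d 0 f * xG hG2 10 s = uu a 0 0 d 0 (a * s + f) := by
  have h2 : (2 : F) = 0 := two_eq_zero'
  rw [x10_eq, uu_mul, uu_mul]
  exact uu_congr (by ring) (by ring) (by ring)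
    (by ring) (by linear_combination (s) * h2) (by ring)

/-- Conjugation of `(0,b,c,d,e,f)` by `x_6(s)`. -/
theorem cj3 (b c d e f s : F) :
    xG hG2 6 s * uu 0 b c d e f * xG hG2 6 s = uu 0 b (b * s + c) (b ^ 2 * s + d) (b ^ 3 * s + e) (b ^ 2 * c * s + e * s + f) := by
  have h2 : (2 : F) = 0 := two_eq_zero'
  rw [x6_eq, uu_mul, uu_mul]
  exact uu_congr (by linear_combination (s) * h2) (by ring) (by ring)
    (by ring) (by ring) (by ring)

/-- Conjugation of `(0,b,0,0,e,f)` by `x_9(s)`. -/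
theorem cj4 (b e f s : F) :
    xG hG2 9 s * uu 0 b 0 0 e f * xG hG2 9 s = uu 0 b 0 0 (b * s + e) f := by
  have h2 : (2 : F) = 0 := two_eq_zero'
  rw [x9_eq, uu_mul, uu_mul]
  exact uu_congr (by ring) (by ring) (by ring)
    (by linear_combination (s) * h2) (by ring) (by ring)

/-- Conjugation of `(0,b,0,0,0,f)` by `x_8(s)`. -/
theorem cj5 (b f s : F) :
    xG hG2 8 s * uu 0 b 0 0 0 f * xG hG2 8 s = uu 0 b 0 0 (b ^ 2 * s) (b * s ^ 2 + f) := by
  have h2 : (2 : F) = 0 := two_eq_zero'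
  rw [x8_eq, uu_mul, uu_mul]
  exact uu_congr (by ring) (by ring) (by linear_combination (s) * h2)
    (by ring) (by ring) (by ring)

/-- Conjugation of `(0,0,c,0,e,f)` by `x_7(s)`. -/
theorem cj6 (c e f s : F) :
    xG hG2 7 s * uu 0 0 c 0 e f * xG hG2 7 s = uu 0 0 c 0 (c * s ^ 2 + e) (c ^ 2 * s + f) := by
  have h2 : (2 : F) = 0 := two_eq_zero'
  rw [x7_eq, uu_mul, uu_mul]
  exact uu_congr (by ring) (by linear_combination (s) * h2) (by ring)
    (by ring) (by ring) (by ring)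

/-- Conjugation of `(0,0,c,0,0,f)` by `x_9(s)`. -/
theorem cj7 (c f s : F) :
    xG hG2 9 s * uu 0 0 c 0 0 f * xG hG2 9 s = uu 0 0 c 0 0 (c * s + f) := by
  have h2 : (2 : F) = 0 := two_eq_zero'
  rw [x9_eq, uu_mul, uu_mul]
  exact uu_congr (by ring) (by ring) (by ring)
    (by linear_combination (s) * h2) (by ring) (by ring)

/-- Conjugation of `(0,0,0,d,e,f)` by `x_7(s)`. -/
theorem cj8 (d e f s : F) :
    xG hG2 7 s * uu 0 0 0 d e f * xG hG2 7 s = uu 0 0 0 d (d * s + e) f := by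
  have h2 : (2 : F) = 0 := two_eq_zero'
  rw [x7_eq, uu_mul, uu_mul]
  exact uu_congr (by ring) (by linear_combination (s) * h2) (by ring)
    (by ring) (by ring) (by ring)

/-- Conjugation of `(0,0,0,d,0,f)` by `x_8(s)`. -/
theorem cj9 (d f s : F) :
    xG hG2 8 s * uu 0 0 0 d 0 f * xG hG2 8 s = uu 0 0 0 d 0 (d * s + f) := by
  have h2 : (2 : F) = 0 := two_eq_zero'
  rw [x8_eq, uu_mul, uu_mul]
  exact uu_congr (by ring) (by ring) (by linear_combination (s) * h2)
    (by ring) (by ring) (by ring)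

/-- Conjugation of `(0,0,0,0,e,f)` by `x_6(s)`. -/
theorem cj10 (e f s : F) :
    xG hG2 6 s * uu 0 0 0 0 e f * xG hG2 6 s = uu 0 0 0 0 e (e * s + f) := by
  have h2 : (2 : F) = 0 := two_eq_zero'
  rw [x6_eq, uu_mul, uu_mul]
  exact uu_congr (by linear_combination (s) * h2) (by ring) (by ring)
    (by ring) (by ring) (by ring)

/-- The square of an element of `U`. -/
theorem uu_sq (a b c d e f : F) :
    uu a b c d e f * uu a b c d e f = uu 0 0 (a * b) (a * b ^ 2) (a * b ^ 3 + b * d + b ^ 2 * c) (a * e + a ^ 2 * b ^ 3 + b * c ^ 2 + c * d) := by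
  have h2 : (2 : F) = 0 := two_eq_zero'
  rw [uu_mul]
  exact uu_congr (by linear_combination (a) * h2) (by linear_combination (b) * h2) (by linear_combination (c) * h2)
    (by linear_combination (d) * h2) (by linear_combination (a * b ^ 3 + e) * h2) (by linear_combination (a * b ^ 2 * c + f) * h2)

/-! ### Conjugacy in the Chevalley group -/

/-- Conjugacy under the Chevalley group. -/
def GConj (x y : GL chevG2.Idx F) : Prop := ∃ h ∈ chevG2.group F, h * x * h⁻¹ = y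

omit [CharP F 2] in
theorem GConj.refl (x : GL chevG2.Idx F) : GConj x x := ⟨1, one_mem _, by group⟩

omit [CharP F 2] in
theorem GConj.symm {x y : GL chevG2.Idx F} (h : GConj x y) : GConj y x := by
  obtain ⟨k, hk, e⟩ := h
  exact ⟨k⁻¹, inv_mem hk, by rw [← e]; group⟩

omit [CharP F 2] in
theorem GConj.trans {x y z : GL chevG2.Idx F} (h1 : GConj x y) (h2 : GConj y z) : GConj x z := by
  obtain ⟨k, hk, e⟩ := h1
  obtain ⟨l, hl, e'⟩ := h2
  exact ⟨l * k, mul_mem hl hk, by rw [← e', ← e]; group⟩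

theorem xG_inv2 (r : ℕ) (s : F) : (xG hG2 r s)⁻¹ = xG hG2 r s := by
  rw [xG_inv, CharTwo.neg_eq]

/-- Conjugation by a root element. -/
theorem gconj_xG (r : ℕ) (hr : r < 12) (s : F) (x y : GL chevG2.Idx F) (h : xG hG2 r s * x * xG hG2 r s = y) :
    GConj x y :=
  ⟨xG hG2 r s, xG_mem_group' hG2 r hr s, by rw [xG_inv2, h]⟩

omit [CharP F 2] in
theorem sq_of_gconj {x y : GL chevG2.Idx F} (h : GConj x y) (hx : x * x = 1) : y * y = 1 := by
  obtain ⟨k, -, rfl⟩ := h
  calc k * x * k⁻¹ * (k * x * k⁻¹) = k * (x * x) * k⁻¹ := by group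
    _ = 1 := by rw [hx]; group

/-- The conditions for `uu a b c d e f` to square to one. -/
theorem sq_conds {a b c d e f : F} (h : uu a b c d e f * uu a b c d e f = 1) :
    a * b = 0 ∧ a * b ^ 3 + b * d + b ^ 2 * c = 0 ∧ a * e + a ^ 2 * b ^ 3 + b * c ^ 2 + c * d = 0 := by
  rw [uu_sq, ← uu_zero] at h
  obtain ⟨-, -, h3, -, h5, h6⟩ := uu_inj h
  exact ⟨h3, h5, h6⟩

/-! ### Conjugation by the monomial group -/

omit [CharP F 2] in
/-- Conjugation of a root element by a word in the `n_{p_i}`. -/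
theorem gconj_word (ws : List ℕ) (hws : ∀ i ∈ ws, i < chevG2.rank) (r r' : ℕ) (hr : r < 12)
    (hw : wordRootF wTabs_G2 ws r = r') (t : F) (ht : t ≠ 0) :
    ∃ t' : F, t' ≠ 0 ∧ GConj (xG hG2 r t) (xG hG2 r' t') := by
  obtain ⟨-, hNG, -⟩ := Cfsg.Agent.S1043.result (F := F) chevG2 hG2
  obtain ⟨t', ht', e⟩ := word_conj_xG hG2 chevData_G2 ws hws 1 (one_mem _) r hr t
  rw [tabs_eq, hw, mul_one] at e
  exact ⟨t', ht' ht, nW hG2 chevData_G2 ws, hNG (nW_mem_monomial hG2 chevData_G2 ws), e⟩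

omit [CharP F 2] in
/-- Scaling a root element by `h_{p_i}(t⁻¹)` when `A_{p_i, s} = 1`. -/
theorem gconj_scale (i s : ℕ) (hi : i < chevG2.rank) (hs : s < 12) (hcart : chevG2.cartan i s = 1) (t : F)
    (ht : t ≠ 0) : GConj (xG hG2 s t) (xG hG2 s 1) := by
  obtain ⟨hBG, -, -⟩ := Cfsg.Agent.S1043.result (F := F) chevG2 hG2
  obtain ⟨g, hgm⟩ := exists_unit_hMat_simple (F := F) chevG2 hG2 i hi t⁻¹ (inv_ne_zero ht)
  have hgH : g ∈ chevG2.diagonalSubgroup F :=
    Subgroup.subset_closure ⟨chevG2.simple i, t⁻¹, simple_lt' chevG2 hG2 i hi, inv_ne_zero ht, hgm⟩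
  refine ⟨g, hBG ((le_sup_right : chevG2.diagonalSubgroup F ≤ chevG2.borelSubgroup F) hgH), ?_⟩
  have e : g * xG hG2 s t = xG hG2 s 1 * g := by
    apply Units.ext
    rw [Units.val_mul, Units.val_mul, coe_xG, coe_xG, hgm,
      Cfsg.Agent.S1032.result chevG2 hG2 i s hi hs t⁻¹ (inv_ne_zero ht) t, hcart, zpow_one, inv_mul_cancel₀ ht]
  rw [e]
  group

set_option maxRecDepth 100000 in
theorem cartan_11 : chevG2.cartan 1 11 = 1 := by decide +kernel

set_option maxRecDepth 100000 in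
theorem word_vals : wordRootF wTabs_G2 [1, 0] 6 = 11 ∧ wordRootF wTabs_G2 [1] 10 = 11 ∧
    wordRootF wTabs_G2 [0, 1] 7 = 9 ∧ wordRootF wTabs_G2 [0] 8 = 9 := by decide +kernel

omit [CharP F 2] in
/-- Long root elements are conjugate to `x_11(1)`. -/
theorem gconj_long (r : ℕ) (hr : r = 6 ∨ r = 10 ∨ r = 11) (t : F) (ht : t ≠ 0) :
    GConj (xG hG2 r t) (xG hG2 11 1) := by
  rcases hr with rfl | rfl | rfl
  · obtain ⟨t', ht', h⟩ := gconj_word [1, 0] (by decide) 6 11 (by norm_num) word_vals.1 t ht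
    exact h.trans (gconj_scale 1 11 (by decide) (by norm_num) cartan_11 t' ht')
  · obtain ⟨t', ht', h⟩ := gconj_word [1] (by decide) 10 11 (by norm_num) word_vals.2.1 t ht
    exact h.trans (gconj_scale 1 11 (by decide) (by norm_num) cartan_11 t' ht')
  · exact gconj_scale 1 11 (by decide) (by norm_num) cartan_11 t ht

omit [CharP F 2] in
/-- Short root elements are conjugate to `x_9(1)`. -/
theorem gconj_short (r : ℕ) (hr : r = 7 ∨ r = 8 ∨ r = 9) (t : F) (ht : t ≠ 0) :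
    GConj (xG hG2 r t) (xG hG2 9 1) := by
  rcases hr with rfl | rfl | rfl
  · obtain ⟨t', ht', h⟩ := gconj_word [0, 1] (by decide) 7 9 (by norm_num) word_vals.2.2.1 t ht
    exact h.trans (gconj_scale 0 9 (by decide) (by norm_num) cartan_9.1 t' ht')
  · obtain ⟨t', ht', h⟩ := gconj_word [0] (by decide) 8 9 (by norm_num) word_vals.2.2.2 t ht
    exact h.trans (gconj_scale 0 9 (by decide) (by norm_num) cartan_9.1 t' ht')
  · exact gconj_scale 0 9 (by decide) (by norm_num) cartan_9.1 t ht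

/-! ### The product of a long and an orthogonal short root element -/

set_option maxRecDepth 100000 in
theorem commTerms_empty3 : ∀ p ∈ [(4, 11), (4, 6)], chevG2.commTerms p.1 p.2 = [] := by decide +kernel

omit [CharP F 2] in
theorem comm_4_11 (a b : F) : xG hG2 11 b * xG hG2 4 a = xG hG2 4 a * xG hG2 11 b :=
  xG_comm 4 11 (by norm_num) (by norm_num) (by norm_num) (by norm_num) (commTerms_empty3 (4, 11) (by simp)) a b

omit [CharP F 2] in
theorem comm_4_6 (a b : F) : xG hG2 6 b * xG hG2 4 a = xG hG2 4 a * xG hG2 6 b :=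
  xG_comm 4 6 (by norm_num) (by norm_num) (by norm_num) (by norm_num) (commTerms_empty3 (4, 6) (by simp)) a b

/-- `x_4(s) x_9(d) = x_9(d) x_4(s) x_11(d²s) x_6(ds²)`. -/
theorem rel_4_9 (s d : F) : xG hG2 4 s * xG hG2 9 d
    = xG hG2 9 d * xG hG2 4 s * (xG hG2 11 (d ^ 2 * s) * xG hG2 6 (d * s ^ 2)) := by
  have h2 : (2 : F) = 0 := two_eq_zero'
  have h1 := chevData_G2.comm F 9 4 (by decide) (by decide) (by norm_num) (by decide) d s
  apply Units.ext
  simp only [Units.val_mul, coe_xG]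
  rw [h1]
  unfold ChevalleyDatum.commWord
  rw [commTerms_9_4]
  simp only [List.map_cons, List.map_nil, wordMat_cons', wordMat_nil', mul_one]
  have e1 : ((2 : ℤ) : F) * (-d) ^ 1 * s ^ 1 = 0 := by push_cast; linear_combination (-(d * s)) * h2
  have e2 : ((-3 : ℤ) : F) * (-d) ^ 2 * s ^ 1 = d ^ 2 * s := by push_cast; linear_combination (-2 * (d ^ 2 * s)) * h2
  have e3 : ((3 : ℤ) : F) * (-d) ^ 1 * s ^ 2 = d * s ^ 2 := by push_cast; linear_combination (-2 * (d * s ^ 2)) * h2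
  rw [e1, e2, e3, x_zero hG2, one_mul]

/-- `x_9(d)` is conjugate to `x_6(ds²) x_9(d) x_11(d²s)`. -/
theorem gconj_x9 (s d : F) : GConj (xG hG2 9 d) (uu (d * s ^ 2) 0 0 d 0 (d ^ 2 * s)) := by
  refine ⟨xG hG2 4 s, xG_mem_group' hG2 4 (by decide) s, ?_⟩
  rw [rel_4_9, xG_inv2]
  have e1 : xG hG2 9 d * xG hG2 4 s * (xG hG2 11 (d ^ 2 * s) * xG hG2 6 (d * s ^ 2)) * xG hG2 4 s
      = xG hG2 9 d * xG hG2 4 s * (xG hG2 11 (d ^ 2 * s) * (xG hG2 6 (d * s ^ 2) * xG hG2 4 s)) := by group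
  rw [e1, comm_4_6]
  have e2 : xG hG2 9 d * xG hG2 4 s * (xG hG2 11 (d ^ 2 * s) * (xG hG2 4 s * xG hG2 6 (d * s ^ 2)))
      = xG hG2 9 d * xG hG2 4 s * (xG hG2 11 (d ^ 2 * s) * xG hG2 4 s) * xG hG2 6 (d * s ^ 2) := by group
  rw [e2, comm_4_11]
  have e3 : xG hG2 9 d * xG hG2 4 s * (xG hG2 4 s * xG hG2 11 (d ^ 2 * s)) * xG hG2 6 (d * s ^ 2)
      = xG hG2 9 d * (xG hG2 4 s * xG hG2 4 s) * xG hG2 11 (d ^ 2 * s) * xG hG2 6 (d * s ^ 2) := by group
  have e4 : xG hG2 4 s * xG hG2 4 s = 1 := by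
    rw [xG_mul, ← two_mul, two_eq_zero', zero_mul, xG_zero]
  rw [e3, e4, mul_one, x9_eq, x11_eq, x6_eq, uu_mul, uu_mul]
  have h2 : (2 : F) = 0 := two_eq_zero'
  exact uu_congr (by ring) (by ring) (by ring) (by ring) (by ring) (by ring)

end Cfsg.Agent.Lib.Helper61.ChevJ.G2Char2
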