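/-
helper61: every involution of the unipotent group `U` of the Chevalley group of type G₂ over a perfect field of
characteristic two is conjugate in the Chevalley group to `x_11(1)` (long root element) or to `x_9(1)` (short root
element).
-/
import Cfsg.Agent.Lib.Helper61.ChevJ.G2Inv

set_option autoImplicit false
set_option linter.unusedSectionVars false

namespace Cfsg.Agent.Lib.Helper61.ChevJ.G2Char2

open Cfsg.Lie Cfsg.Agent.Lib.Helper18 Cfsg.Agent.Lib.Helper91.HighRoot Cfsg.Agent.Lib.Helper61.ChevJ
  Cfsg.Agent.Lib.Helper61.ChevJ.G2Short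

universe u

variable {F : Type u} [Field F] [CharP F 2]

theorem kill (x y : F) (hx : x ≠ 0) : x * (y / x) + y = 0 := by
  have h : x * (y / x) = y := by field_simp
  rw [h]
  linear_combination y * (two_eq_zero' (F := F))

theorem kill2 (x y s : F) (hx : x ≠ 0) (hs : s * s = y / x) : x * s ^ 2 + y = 0 := by
  rw [pow_two, hs]
  exact kill x y hx

/-- Every involution of `U` is conjugate in the Chevalley group to `x_11(1)` or to `x_9(1)`. -/
theorem invol_U (hsqrt : ∀ x : F, ∃ s : F, s * s = x) (a b c d e f : F) (hne : uu a b c d e f ≠ 1)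
    (hsq : uu a b c d e f * uu a b c d e f = 1) :
    GConj (uu a b c d e f) (xG hG2 11 1) ∨ GConj (uu a b c d e f) (xG hG2 9 1) := by
  have h2 : (2 : F) = 0 := two_eq_zero'
  obtain ⟨hab, h5, h6⟩ := sq_conds hsq
  by_cases ha : a = 0
  · subst ha
    by_cases hb : b = 0
    · subst hb
      have hcd : c * d = 0 := by linear_combination h6
      by_cases hc : c = 0
      · subst hc
        by_cases hd : d = 0
        · subst hd
          left
          by_cases he : e = 0
          · subst he
            have hf : f ≠ 0 := by
              rintro rfl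
              exact hne uu_zero
            rw [← x11_eq]
            exact gconj_long 11 (by simp) f hf
          · have h1 := cj10 e f (f / e)
            rw [kill e f he, ← x10_eq] at h1
            exact (gconj_xG 6 (by norm_num) _ _ _ h1).trans (gconj_long 10 (by simp) e he)
        · right
          have h1 := cj8 d e f (e / d)
          rw [kill d e hd] at h1
          have h3 := cj9 d f (f / d)
          rw [kill d f hd, ← x9_eq] at h3
          exact ((gconj_xG 7 (by norm_num) _ _ _ h1).trans (gconj_xG 8 (by norm_num) _ _ _ h3)).trans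
            (gconj_short 9 (by simp) d hd)
      · have hd : d = 0 := (mul_eq_zero.mp hcd).resolve_left hc
        subst hd
        right
        obtain ⟨s, hs⟩ := hsqrt (e / c)
        have h1 := cj6 c e f s
        rw [kill2 c e s hc hs] at h1
        have h3 := cj7 c (c ^ 2 * s + f) ((c ^ 2 * s + f) / c)
        rw [kill c _ hc, ← x8_eq] at h3
        exact ((gconj_xG 7 (by norm_num) _ _ _ h1).trans (gconj_xG 9 (by norm_num) _ _ _ h3)).trans
          (gconj_short 8 (by simp) c hc)
    · have hd : d + b * c = 0 := by
        have h : b * (d + b * c) = 0 := by linear_combination h5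
        exact (mul_eq_zero.mp h).resolve_left hb
      right
      have h1 := cj3 b c d e f (c / b)
      have e2 : b ^ 2 * (c / b) + d = 0 := by
        have h : b ^ 2 * (c / b) = b * c := by field_simp
        rw [h]
        linear_combination hd
      rw [kill b c hb, e2] at h1
      generalize b ^ 3 * (c / b) + e = e' at h1
      generalize b ^ 2 * c * (c / b) + e * (c / b) + f = f' at h1
      have h3 := cj4 b e' f' (e' / b)
      rw [kill b e' hb] at h3
      have hA := (gconj_xG 6 (by norm_num) _ _ _ h1).trans (gconj_xG 9 (by norm_num) _ _ _ h3)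
      obtain ⟨s, hs⟩ := hsqrt (f' / b)
      have h4 := cj5 b f' s
      rw [kill2 b f' s hb hs] at h4
      have h5' := cj4 b (b ^ 2 * s) 0 (b * s)
      have e5 : b * (b * s) + b ^ 2 * s = 0 := by linear_combination (b ^ 2 * s) * h2
      rw [e5, ← x7_eq] at h5'
      exact ((hA.trans (gconj_xG 8 (by norm_num) _ _ _ h4)).trans (gconj_xG 9 (by norm_num) _ _ _ h5')).trans
        (gconj_short 7 (by simp) b hb)
  · have hb : b = 0 := (mul_eq_zero.mp hab).resolve_left ha
    subst hb
    have h1 := cj1 a c d e f (c / a)
    rw [kill a c ha] at h1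
    generalize a * (c / a) ^ 2 + d = d' at h1
    generalize a * (c / a) ^ 3 + c * (c / a) ^ 2 + d * (c / a) + e = e' at h1
    generalize a * c * (c / a) ^ 2 + a ^ 2 * (c / a) ^ 3 + c ^ 2 * (c / a) + f = f' at h1
    have hA := gconj_xG 7 (by norm_num) _ _ _ h1
    have hsq' := sq_of_gconj hA hsq
    obtain ⟨-, -, k6⟩ := sq_conds hsq'
    have he' : e' = 0 := by
      have h : a * e' = 0 := by linear_combination k6
      exact (mul_eq_zero.mp h).resolve_left ha
    subst he'
    have h3 := cj2 a d' f' (f' / a)
    rw [kill a f' ha] at h3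
    have hB := hA.trans (gconj_xG 10 (by norm_num) _ _ _ h3)
    by_cases hd' : d' = 0
    · subst hd'
      left
      rw [← x6_eq] at hB
      exact hB.trans (gconj_long 6 (by simp) a ha)
    · right
      obtain ⟨s, hs⟩ := hsqrt (a / d')
      have h4 := gconj_x9 s d'
      have e4 : d' * s ^ 2 = a := by
        rw [pow_two, hs]
        field_simp
      rw [e4] at h4
      have h5' := cj2 a d' (d' ^ 2 * s) ((d' ^ 2 * s) / a)
      rw [kill a _ ha] at h5'
      have hC := h4.trans (gconj_xG 10 (by norm_num) _ _ _ h5')
      exact (hB.trans hC.symm).trans (gconj_short 9 (by simp) d' hd')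

end Cfsg.Agent.Lib.Helper61.ChevJ.G2Char2
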