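/-
helper61: the conjugacy classes of involutions of the Chevalley group of type G₂ over a finite field of characteristic
two: every involution is conjugate to `x_11(1)` or to `x_9(1)`, and these two are not conjugate.
-/
import Cfsg.Agent.Lib.Helper61.ChevJ.G2Inv2
import Cfsg.Agent.S2326

set_option autoImplicit false
set_option linter.unusedSectionVars false

namespace Cfsg.Agent.Lib.Helper61.ChevJ.G2Char2

open Cfsg.Lie Cfsg.Agent.Lib.Helper18 Cfsg.Agent.Lib.Helper91.HighRoot Cfsg.Agent.Lib.Helper61.ChevJ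
  Cfsg.Agent.Lib.Helper61.ChevJ.G2Short

universe u

variable {F : Type u} [Field F] [CharP F 2]

/-- An involution of the Chevalley group is conjugate into `U` (Sylow's theorem). -/
theorem exists_conj_mem_U [Fintype F] (g : GL chevG2.Idx F) (hg : g ∈ chevG2.group F) (ho : orderOf g = 2) :
    ∃ k ∈ chevG2.group F, k * g * k⁻¹ ∈ chevG2.posUnipotent F := by
  classical
  obtain ⟨P, hP⟩ := Cfsg.Agent.S2326.result (F := F) 2 chevG2 hG2
  have ho' : orderOf (⟨g, hg⟩ : ↥(chevG2.group F)) = 2 := by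
    rw [← ho]
    exact Subgroup.orderOf_mk g hg
  have hpg : IsPGroup 2 (Subgroup.zpowers (⟨g, hg⟩ : ↥(chevG2.group F))) := by
    apply IsPGroup.of_card (n := 1)
    rw [Nat.card_zpowers, ho', pow_one]
  obtain ⟨Q, hQ⟩ := hpg.exists_le_sylow
  obtain ⟨k, hk⟩ := MulAction.exists_smul_eq (↥(chevG2.group F)) Q P
  refine ⟨k, k.2, ?_⟩
  have h1 : (⟨g, hg⟩ : ↥(chevG2.group F)) ∈ (Q : Subgroup ↥(chevG2.group F)) :=
    hQ (Subgroup.mem_zpowers _)
  have h2 : MulAut.conj k • (⟨g, hg⟩ : ↥(chevG2.group F)) ∈ (P : Subgroup ↥(chevG2.group F)) := by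
    rw [← hk, Sylow.coe_subgroup_smul]
    exact Subgroup.smul_mem_pointwise_smul _ _ _ h1
  rw [hP, Subgroup.mem_subgroupOf] at h2
  exact h2

/-- Every involution of the Chevalley group is conjugate to `x_11(1)` or to `x_9(1)`. -/
theorem invol_conj [Fintype F] (g : GL chevG2.Idx F) (hg : g ∈ chevG2.group F) (ho : orderOf g = 2) :
    GConj g (xG hG2 11 1) ∨ GConj g (xG hG2 9 1) := by
  obtain ⟨k, hk, hU⟩ := exists_conj_mem_U g hg ho
  obtain ⟨a, b, c, d, e, f, e1⟩ := exists_uu _ hU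
  have hgk : GConj g (uu a b c d e f) := ⟨k, hk, e1⟩
  have hsq : g * g = 1 := by rw [← pow_two, ← ho, pow_orderOf_eq_one]
  have hne : g ≠ 1 := by
    rintro rfl
    rw [orderOf_one] at ho
    norm_num at ho
  have hsq' := sq_of_gconj hgk hsq
  have hne' : uu a b c d e f ≠ 1 := by
    intro h
    rw [h] at e1
    apply hne
    have e2 : g = k⁻¹ * (k * g * k⁻¹) * k := by group
    rw [e2, e1]
    group
  have hsqrt : ∀ x : F, ∃ s : F, s * s = x := fun x => by
    obtain ⟨r, hr⟩ := FiniteField.isSquare_of_char_two (ringChar.eq F 2) x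
    exact ⟨r, hr.symm⟩
  rcases invol_U hsqrt a b c d e f hne' hsq' with h | h
  · exact Or.inl (hgk.trans h)
  · exact Or.inr (hgk.trans h)

omit [CharP F 2] in
theorem q3_eq_uu (a b c : F) : q3 a b c = uu 0 0 0 a b c := by
  unfold q3 uu
  simp only [xG_zero, one_mul, mul_assoc]

omit [CharP F 2] in
/-- `x_11(1)` and `x_9(1)` are not conjugate in the Chevalley group. -/
theorem not_gconj (hc : GConj (xG hG2 11 (1 : F)) (xG hG2 9 1)) : False := by
  obtain ⟨k, hk, e⟩ := hc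
  obtain ⟨b, hb, n, hn, u, hu, ek⟩ := exists_bruhat_form hG2 chevData_G2 levelData_G2 k hk
  have huU : u ∈ chevG2.posUnipotent F := closure_UnegSet_le chevG2 n hu
  obtain ⟨u', hu', h, hh, rfl⟩ := (mem_borel_iff chevG2 hG2 b).mp hb
  have hmN : h * n ∈ chevG2.monomialSubgroup F :=
    mul_mem ((le_sup_left : chevG2.diagonalSubgroup F ≤ chevG2.monomialSubgroup F) hh) hn
  obtain ⟨ws, h₀, hws, hh₀, em⟩ := isWordH_of_mem_monomial hG2 chevData_G2 (h * n) hmN
  have hRC := R_le_centralizer (F := F) hG2 chevData_G2 dataG2 (Nat.cast_zero) 1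
  have hcu : u * xG hG2 11 1 * u⁻¹ = xG hG2 11 1 := by
    have h1 := Subgroup.mem_centralizer_iff.mp (hRC (posUnipotent_le_R huU)) _ rfl
    rw [← h1]
    group
  obtain ⟨β, γ, e2⟩ := conj_U_x9 u'⁻¹ (inv_mem hu') (1 : F)
  have e3 : (h * n) * xG hG2 11 1 * (h * n)⁻¹ = q3 1 β γ := by
    rw [← e2, ← e, ek]
    have e4 : u' * h * n * u * xG hG2 11 1 * (u' * h * n * u)⁻¹
        = u' * (h * n) * (u * xG hG2 11 1 * u⁻¹) * (h * n)⁻¹ * u'⁻¹ := by group
    rw [e4, hcu]
    group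
  rw [em] at e3
  obtain ⟨t₁, -, e4⟩ := word_conj_xG hG2 chevData_G2 ws hws h₀ hh₀ 11 (by decide) (1 : F)
  rw [e3, tabs_eq, q3_eq_uu] at e4
  have hmem := wordImg_mem ws hws
  by_cases hneg : wordRootF wTabs_G2 ws 11 < 6
  · have h1 := U_inf_V _ (uu_mem_U 0 0 0 1 β γ) (by rw [e4]; exact xG_mem_V _ hneg _)
    rw [← uu_zero] at h1
    exact one_ne_zero (uu_inj h1).2.2.2.1
  simp only [wImgs, List.mem_cons, List.map_cons, List.map_nil, List.not_mem_nil, or_false, List.cons.injEq,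
    and_true] at hmem
  rcases hmem with hc | hc | hc | hc | hc | hc | hc | hc | hc | hc | hc | hc
  · rw [hc.2.2.2.2.2, x11_eq] at e4
    exact one_ne_zero (uu_inj e4).2.2.2.1
  · rw [hc.2.2.2.2.2, x11_eq] at e4
    exact one_ne_zero (uu_inj e4).2.2.2.1
  · rw [hc.2.2.2.2.2, x10_eq] at e4
    exact one_ne_zero (uu_inj e4).2.2.2.1
  · rw [hc.2.2.2.2.2, x6_eq] at e4
    exact one_ne_zero (uu_inj e4).2.2.2.1
  · rw [hc.2.2.2.2.2, x10_eq] at e4
    exact one_ne_zero (uu_inj e4).2.2.2.1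
  · rw [hc.2.2.2.2.2, x6_eq] at e4
    exact one_ne_zero (uu_inj e4).2.2.2.1
  · exact absurd (by rw [hc.2.2.2.2.2]; norm_num) hneg
  · exact absurd (by rw [hc.2.2.2.2.2]; norm_num) hneg
  · exact absurd (by rw [hc.2.2.2.2.2]; norm_num) hneg
  · exact absurd (by rw [hc.2.2.2.2.2]; norm_num) hneg
  · exact absurd (by rw [hc.2.2.2.2.2]; norm_num) hneg
  · exact absurd (by rw [hc.2.2.2.2.2]; norm_num) hneg

/-- Root elements `x_r(1)` have order two. -/
theorem orderOf_xG_one (r : ℕ) (hr : r < 12) : orderOf (xG hG2 r (1 : F)) = 2 := by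
  apply orderOf_eq_prime
  · rw [pow_two, xG_mul, one_add_one_eq_two, two_eq_zero', xG_zero]
  · intro h
    rw [← xG_zero hG2 r] at h
    exact one_ne_zero (xG_inj_param hG2 r hr _ _ h)

end Cfsg.Agent.Lib.Helper61.ChevJ.G2Char2
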