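/-
helper61: the Chevalley involution `x_r(c) ↦ x_{-r}(-c)` of the group of type G₂, realised on the general linear group
by the permutation of the coordinates `h_i ↦ h_i`, `e_r ↦ e_{-r}` (the signs of `e_r ↦ -e_{-r}`, `h ↦ -h` cancel under
conjugation). Entry checks are done on helper18's symbolic engine, as in helper91's library.
-/
import Cfsg.Agent.Lib.Helper91.ExcAut

set_option autoImplicit false

namespace Cfsg.Agent.Lib.Helper61.ChevJ.G2Invol

open Cfsg.Lie Cfsg.Agent.Lib.Helper18 Cfsg.Agent.Lib.Helper91.ChevGen Cfsg.Agent.Lib.Helper91.ExcAut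

universe u

/-- Check: the entry `(i, j)` of `x_r(t)` is the entry `(i', j')` of `x_{r'}(-t)`. -/
def negChk (D : ChevalleyDatum) (r r' : ℕ) (j i j' i' : Code) : Bool :=
  allDiv 0 (normPoly (entryPoly D r (varPoly 2) j i ++
    negPoly (entryPoly D r' (negPoly (varPoly 2)) j' i')))

theorem entry_eq_of_negChk {F : Type*} [Field F] (D : ChevalleyDatum) (r r' : Fin D.nroots)
    (j i j' i' : D.Idx) (t : F)
    (h : negChk D r.1 r'.1 (code D j) (code D i) (code D j') (code D i') = true) :
    D.xMat F r t i j = D.xMat F r' (-t) i' j' := by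
  have h0 := evPoly_eq_zero_of_allDiv (val t) 0 (by simp) _ h
  rw [evPoly_normPoly _ (val_mul t), evPoly_append, evPoly_negPoly, evPoly_entryPoly, evPoly_entryPoly,
    evPoly_negPoly, evPoly_varPoly, val_two] at h0
  exact sub_eq_zero.mp (by rw [sub_eq_add_neg]; exact h0)

/-- The permutation of the coordinates: `h_i ↦ h_i`, `e_r ↦ e_{-r}`. -/
def piG2 : Equiv.Perm chevG2.Idx := Equiv.sumCongr (Equiv.refl _) Fin.revPerm

set_option maxRecDepth 100000 in
theorem neg_chk : ∀ r : Fin chevG2.nroots, ∀ i j : chevG2.Idx,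
    negChk chevG2 r.1 (Fin.rev r).1 (code chevG2 j) (code chevG2 i) (code chevG2 (piG2 j)) (code chevG2 (piG2 i))
      = true := by
  decide +kernel

theorem piG2_symm : ∀ i : chevG2.Idx, piG2.symm i = piG2 i := by decide

variable (K : Type u) [Field K]

/-- The Chevalley involution on the general linear group: reindexing of the coordinates. -/
noncomputable def iota : GL chevG2.Idx K →* GL chevG2.Idx K :=
  Units.map ((Matrix.reindexAlgEquiv K K piG2 :
    Matrix chevG2.Idx chevG2.Idx K ≃ₐ[K] Matrix chevG2.Idx chevG2.Idx K) :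
      Matrix chevG2.Idx chevG2.Idx K →* Matrix chevG2.Idx chevG2.Idx K)

variable {K}

theorem coe_iota (g : GL chevG2.Idx K) (i j : chevG2.Idx) :
    ((iota K g : GL chevG2.Idx K) : Matrix chevG2.Idx chevG2.Idx K) i j
      = (g : Matrix chevG2.Idx chevG2.Idx K) (piG2 i) (piG2 j) := by
  have h : ((iota K g : GL chevG2.Idx K) : Matrix chevG2.Idx chevG2.Idx K)
      = Matrix.reindex piG2 piG2 (g : Matrix chevG2.Idx chevG2.Idx K) := rfl
  rw [h, Matrix.reindex_apply, Matrix.submatrix_apply, piG2_symm i, piG2_symm j]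

theorem hG2' : chevG2 ∈ [chevG2, chevB2, chevD4, chevF4, chevE6, chevE7, chevE8] := by simp

/-- `ι (x_r(c)) = x_{-r}(-c)`. -/
theorem iota_xG (r : Fin chevG2.nroots) (c : K) : iota K (xG hG2' r.1 c) = xG hG2' (Fin.rev r).1 (-c) := by
  apply Units.ext
  ext i j
  rw [coe_iota, coe_xG, coe_xG]
  have hr : r.1 < chevG2.nroots := r.2
  have hr' : (Fin.rev r).1 < chevG2.nroots := (Fin.rev r).2
  unfold ChevalleyDatum.x
  rw [dif_pos hr, dif_pos hr']
  have h := entry_eq_of_negChk (F := K) chevG2 (Fin.rev r) (Fin.rev (Fin.rev r)) j i (piG2 j) (piG2 i) (-c)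
    (neg_chk (Fin.rev r) i j)
  rw [neg_neg, Fin.rev_rev] at h
  exact h.symm

end Cfsg.Agent.Lib.Helper61.ChevJ.G2Invol
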