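/-
helper61: the subgroup generated by the highest root subgroup `X_ρ` of a Chevalley group in characteristic `p` and one
of its conjugates: by the Bruhat decomposition `g = b n u` it is a conjugate (by `b`) of `X_ρ ⊔ X_{wρ}`, and either
`wρ` is the lowest root or `ρ` and `wρ` can be made positive together (certificate), so that `X_ρ ⊔ X_{wρ}` is conjugate
to a subgroup of `U`, a `p`-group.
-/
import Cfsg.Agent.Lib.Helper91.HighRoot
import Cfsg.Agent.Lib.Helper18.Bruhat1
import Cfsg.Agent.S1027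

set_option autoImplicit false

namespace Cfsg.Agent.Lib.Helper61.ChevJ

open Cfsg.Lie Cfsg.Agent.Lib.Helper18 Cfsg.Agent.Lib.Helper91.HighRoot

universe u

variable {F : Type u} [Field F] {D : ChevalleyDatum}

/-- Conjugation by a product. -/
theorem map_conj_mul {G : Type*} [Group G] (K : Subgroup G) (a b : G) :
    K.map (MulAut.conj (a * b)).toMonoidHom
      = (K.map (MulAut.conj b).toMonoidHom).map (MulAut.conj a).toMonoidHom := by
  rw [Subgroup.map_map]
  congr 1
  ext x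
  simp [MulAut.conj_apply, mul_assoc]

/-- Conjugation by an element of the normaliser. -/
theorem map_conj_of_mem_normalizer {G : Type*} [Group G] (K : Subgroup G) (a : G)
    (ha : a ∈ Subgroup.normalizer (K : Set G)) : K.map (MulAut.conj a).toMonoidHom = K := by
  ext x
  rw [Subgroup.mem_map]
  constructor
  · rintro ⟨y, hy, rfl⟩
    exact (Subgroup.mem_normalizer_iff.mp ha y).mp hy
  · intro hx
    refine ⟨a⁻¹ * x * a, ?_, ?_⟩
    · have := (Subgroup.mem_normalizer_iff.mp (inv_mem ha) x).mp hx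
      rwa [inv_inv] at this
    · simp [MulAut.conj_apply, mul_assoc]

theorem map_conj_inv_map_conj {G : Type*} [Group G] (K : Subgroup G) (a : G) :
    (K.map (MulAut.conj a).toMonoidHom).map (MulAut.conj a⁻¹).toMonoidHom = K := by
  rw [← map_conj_mul, inv_mul_cancel]
  ext x
  simp

/-- A subgroup with a conjugate which is a `p`-group is a `p`-group. -/
theorem isPGroup_of_map_conj {G : Type*} [Group G] (p : ℕ) (K : Subgroup G) (a : G)
    (h : IsPGroup p ↥(K.map (MulAut.conj a).toMonoidHom)) : IsPGroup p ↥K := by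
  have := h.map (MulAut.conj a⁻¹).toMonoidHom
  rwa [map_conj_inv_map_conj] at this

/-- `U` is a `p`-group. -/
theorem isPGroup_posUnipotent' [Fintype F] (p : ℕ) [Fact p.Prime] [CharP F p]
    (hD : D ∈ [chevG2, chevB2, chevD4, chevF4, chevE6, chevE7, chevE8]) : IsPGroup p (D.posUnipotent F) := by
  obtain ⟨n, hpp, hq⟩ := FiniteField.card F p
  apply IsPGroup.of_card (n := (n : ℕ) * (D.nroots / 2))
  rw [Cfsg.Agent.S1027.card_posUnipotent D hD, hq, pow_mul]

/-- A word times an element of `H` conjugates the root subgroup `X_r` onto `X_{w r}`. -/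
theorem map_conj_word (hD : D ∈ [chevG2, chevB2, chevD4, chevF4, chevE6, chevE7, chevE8])
    (C : ChevData.{u} D) (ws : List ℕ) (hws : ∀ i ∈ ws, i < D.rank) (h : GL D.Idx F)
    (hh : h ∈ D.diagonalSubgroup F) (r : ℕ) (hr : r < D.nroots) :
    (D.rootSubgroup F r).map (MulAut.conj (nW hD C ws * h)).toMonoidHom
      = D.rootSubgroup F (wordRootF C.tabs ws r) := by
  have hr' := wordRootF_lt C ws hws r hr
  apply le_antisymm
  · rintro _ ⟨x, hx, rfl⟩
    obtain ⟨t, rfl⟩ := (mem_rootSubgroup_iff hD _ x).mp hx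
    obtain ⟨t', -, e⟩ := word_conj_xG hD C ws hws h hh r hr t
    show nW hD C ws * h * xG hD r t * (nW hD C ws * h)⁻¹ ∈ _
    rw [e]
    exact (mem_rootSubgroup_iff hD _ _).mpr ⟨t', rfl⟩
  · intro x hx
    obtain ⟨t, rfl⟩ := (mem_rootSubgroup_iff hD _ x).mp hx
    obtain ⟨ws', h', hws', hh', e'⟩ := isWordH_inv hD C _ ⟨ws, h, hws, hh, rfl⟩
    -- the inverse sends `w r` back to `r`
    obtain ⟨t₂, ht₂, e₂⟩ := word_conj_xG hD C ws hws h hh r hr (1 : F)
    obtain ⟨t₃, -, e₃⟩ := word_conj_xG hD C ws' hws' h' hh' _ hr' t₂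
    rw [← e', ← e₂] at e₃
    have e₄ : xG hD r (1 : F) = xG hD (wordRootF C.tabs ws' (wordRootF C.tabs ws r)) t₃ := by
      rw [← e₃]; group
    have hback : wordRootF C.tabs ws' (wordRootF C.tabs ws r) = r :=
      xG_inj_root hD _ _ hr (wordRootF_lt C ws' hws' _ hr') 1 t₃ one_ne_zero e₄
    obtain ⟨t₅, -, e₅⟩ := word_conj_xG hD C ws' hws' h' hh' _ hr' t
    rw [← e', hback] at e₅
    refine ⟨xG hD r t₅, (mem_rootSubgroup_iff hD _ _).mpr ⟨t₅, rfl⟩, ?_⟩
    show nW hD C ws * h * xG hD r t₅ * (nW hD C ws * h)⁻¹ = _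
    rw [← e₅]; group

/-- If a word makes the roots `r` and `s` positive, `X_r ⊔ X_s` is a `p`-group. -/
theorem isPGroup_sup_rootSubgroup [Fintype F] (p : ℕ) [Fact p.Prime] [CharP F p]
    (hD : D ∈ [chevG2, chevB2, chevD4, chevF4, chevE6, chevE7, chevE8])
    (C : ChevData.{u} D) (ws : List ℕ) (hws : ∀ i ∈ ws, i < D.rank) (r s : ℕ) (hr : r < D.nroots)
    (hs : s < D.nroots) (hr' : D.nroots / 2 ≤ wordRootF C.tabs ws r)
    (hs' : D.nroots / 2 ≤ wordRootF C.tabs ws s) :
    IsPGroup p ↥(D.rootSubgroup F r ⊔ D.rootSubgroup F s) := by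
  apply isPGroup_of_map_conj p _ (nW hD C ws * 1)
  rw [Subgroup.map_sup, map_conj_word hD C ws hws 1 (one_mem _) r hr,
    map_conj_word hD C ws hws 1 (one_mem _) s hs]
  apply (isPGroup_posUnipotent' (F := F) p hD).to_le
  have key : ∀ r', r' < D.nroots → D.nroots / 2 ≤ r' → D.rootSubgroup F r' ≤ D.posUnipotent F := by
    intro r' h1 h2 x hx
    obtain ⟨t, rfl⟩ := (mem_rootSubgroup_iff hD _ x).mp hx
    exact xG_mem_posUnipotent hD r' t ((isPosRoot_iff hD r').mpr ⟨h1, h2⟩)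
  exact sup_le (key _ (wordRootF_lt C ws hws r hr) hr') (key _ (wordRootF_lt C ws hws s hs) hs')

/-- The subgroup generated by the highest root subgroup and one of its conjugates. -/
theorem rootPair_main [Fintype F] (p : ℕ) [Fact p.Prime] [CharP F p]
    (hD : D ∈ [chevG2, chevB2, chevD4, chevF4, chevE6, chevE7, chevE8])
    (C : ChevData.{u} D) {ρ i₀ : ℕ} {negJ : List ℕ} (X : RootCentData D ρ i₀ negJ 0)
    (hwit : ∀ β < D.nroots, β ≠ 0 → ∃ ws : List ℕ, (∀ i ∈ ws, i < D.rank) ∧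
      D.nroots / 2 ≤ wordRootF C.tabs ws ρ ∧ D.nroots / 2 ≤ wordRootF C.tabs ws β)
    (g : GL D.Idx F) (hg : g ∈ D.group F) :
    IsPGroup p ↥(D.rootSubgroup F ρ ⊔ (D.rootSubgroup F ρ).map (MulAut.conj g).toMonoidHom) ∨
    ∃ h ∈ D.group F, (D.rootSubgroup F ρ ⊔
        (D.rootSubgroup F ρ).map (MulAut.conj g).toMonoidHom).map (MulAut.conj h).toMonoidHom
      = D.rootSubgroup F ρ ⊔ D.rootSubgroup F 0 := by
  obtain ⟨L⟩ := nonempty_levelData D hD
  obtain ⟨hBG, -, -⟩ := Cfsg.Agent.S1043.result (F := F) D hD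
  have hρ := X.hρ
  have hBN := borel_le_normalizer_rho (F := F) hD C X (by simp)
  obtain ⟨b, hb, n, hn, u, hu, e⟩ := exists_bruhat_form hD C L g hg
  have huU : u ∈ D.posUnipotent F := closure_UnegSet_le D n hu
  have huB : u ∈ D.borelSubgroup F := (le_sup_left : D.posUnipotent F ≤ D.borelSubgroup F) huU
  obtain ⟨ws, h₀, hws, hh₀, rfl⟩ := isWordH_of_mem_monomial hD C n hn
  have e1 : (D.rootSubgroup F ρ).map (MulAut.conj g).toMonoidHom
      = (D.rootSubgroup F (wordRootF C.tabs ws ρ)).map (MulAut.conj b).toMonoidHom := by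
    rw [e, map_conj_mul, map_conj_of_mem_normalizer _ u (hBN huB), map_conj_mul,
      map_conj_word hD C ws hws h₀ hh₀ ρ hρ]
  have e2 : D.rootSubgroup F ρ ⊔ (D.rootSubgroup F ρ).map (MulAut.conj g).toMonoidHom
      = (D.rootSubgroup F ρ ⊔ D.rootSubgroup F (wordRootF C.tabs ws ρ)).map
          (MulAut.conj b).toMonoidHom := by
    rw [Subgroup.map_sup, map_conj_of_mem_normalizer _ b (hBN hb), e1]
  rw [e2]
  by_cases h0 : wordRootF C.tabs ws ρ = 0
  · right
    refine ⟨b⁻¹, inv_mem (hBG hb), ?_⟩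
    rw [map_conj_inv_map_conj, h0]
  · left
    obtain ⟨ws', hws', h1, h2⟩ := hwit _ (wordRootF_lt C ws hws ρ hρ) h0
    exact (isPGroup_sup_rootSubgroup p hD C ws' hws' ρ _ hρ (wordRootF_lt C ws hws ρ hρ) h1 h2).map _

end Cfsg.Agent.Lib.Helper61.ChevJ
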