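/-
helper61: for the highest root `ρ` (the last root index) of the tabulated data of types G₂, D₄, E₆, E₇, E₈, a certificate
that every root `β` other than the lowest one (index 0, the opposite of `ρ`) can be made positive together with `ρ` by
a word in the fundamental reflections; checked on helper18's packed tables (kernel computations).
-/
import Cfsg.Agent.Lib.Helper18.ChevDataAll

set_option autoImplicit false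

namespace Cfsg.Agent.Lib.Helper61.ChevJ

open Cfsg.Lie Cfsg.Agent.Lib.Helper18

/-- The check: for every root `β ≠ 0` the word `wit[β]` makes `ρ` and `β` positive. -/
def posPairOK (nroots rank : ℕ) (tabs : List ℕ) (ρ : ℕ) (wit : List (List ℕ)) : Bool :=
  (List.range nroots).all fun β0 => forceNat β0 fun β => decide (β = 0) ||
    ((wit.getD β []).all (fun i => decide (i < rank)) &&
      decide (nroots / 2 ≤ wordRootF tabs (wit.getD β []) ρ) &&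
      decide (nroots / 2 ≤ wordRootF tabs (wit.getD β []) β))

theorem posPairOK_spec (nroots rank : ℕ) (tabs : List ℕ) (ρ : ℕ) (wit : List (List ℕ))
    (h : posPairOK nroots rank tabs ρ wit = true) (β : ℕ) (hβ : β < nroots) (hβ0 : β ≠ 0) :
    ∃ ws : List ℕ, (∀ i ∈ ws, i < rank) ∧ nroots / 2 ≤ wordRootF tabs ws ρ ∧ nroots / 2 ≤ wordRootF tabs ws β := by
  unfold posPairOK at h
  rw [List.all_eq_true] at h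
  have h1 := h β (List.mem_range.mpr hβ)
  rw [forceNat_eq, Bool.or_eq_true, decide_eq_true_eq] at h1
  rcases h1 with h1 | h1
  · exact absurd h1 hβ0
  · simp only [Bool.and_eq_true, decide_eq_true_eq, List.all_eq_true] at h1
    exact ⟨wit.getD β [], h1.1.1, h1.1.2, h1.2⟩

/-- The certificate for type G2. -/
def posWit_G2 : List (List ℕ) := [[], [1, 0], [0, 1, 0], [0, 1], [0], [1], [], [], [], [], [], []]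

set_option maxRecDepth 1000000 in
theorem posPairOK_G2 :
    posPairOK chevG2.nroots chevG2.rank wTabs_G2 (chevG2.nroots - 1) posWit_G2 = true := by decide +kernel

/-- The certificate for type D4. -/
def posWit_D4 : List (List ℕ) := 
  [[], [3, 1, 2, 0], [2, 1, 0], [3, 1, 0], [1, 0], [0], [3, 1, 2], [2, 1], [3, 1], [1], [2], [3], [], [], [],
    [], [], [], [], [], [], [], [], []]

set_option maxRecDepth 1000000 in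
theorem posPairOK_D4 :
    posPairOK chevD4.nroots chevD4.rank wTabs_D4 (chevD4.nroots - 1) posWit_D4 = true := by decide +kernel

/-- The certificate for type E6. -/
def posWit_E6 : List (List ℕ) := 
  [[], [5, 4, 3, 2, 1, 3, 4, 0, 2, 3], [5, 4, 3, 2, 1, 3, 4, 0, 2], [5, 4, 3, 2, 1, 3, 0, 2],
    [4, 3, 2, 1, 3, 0, 2], [5, 4, 3, 2, 1, 3, 4, 0], [5, 4, 3, 2, 1, 3, 0], [4, 3, 2, 1, 3, 0],
    [5, 4, 3, 2, 1, 0], [4, 3, 2, 1, 0], [3, 2, 1, 0], [5, 4, 3, 2, 0], [4, 3, 2, 0], [3, 2, 0], [2, 0], [0],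
    [5, 4, 3, 2, 1, 3, 4], [5, 4, 3, 2, 1, 3], [4, 3, 2, 1, 3], [5, 4, 3, 2, 1], [4, 3, 2, 1], [3, 2, 1],
    [5, 4, 3, 1], [4, 3, 1], [3, 1], [1], [5, 4, 3, 2], [4, 3, 2], [3, 2], [2], [5, 4, 3], [4, 3], [3],
    [5, 4], [4], [5], [], [], [], [], [], [], [], [], [], [], [], [], [], [], [], [], [], [], [], [], [], [],
    [], [], [], [], [], [], [], [], [], [], [], [], [], []]

set_option maxRecDepth 1000000 in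
theorem posPairOK_E6 :
    posPairOK chevE6.nroots chevE6.rank wTabs_E6 (chevE6.nroots - 1) posWit_E6 = true := by decide +kernel

/-- The certificate for type E7. -/
def posWit_E7 : List (List ℕ) := 
  [[], [6, 5, 4, 3, 2, 1, 3, 4, 5, 0, 2, 3, 4, 1, 3, 2], [6, 5, 4, 3, 2, 1, 3, 4, 5, 0, 2, 3, 4, 1, 3],
    [6, 5, 4, 3, 2, 1, 3, 4, 5, 0, 2, 3, 4, 1], [6, 5, 4, 3, 2, 1, 3, 4, 5, 0, 2, 3, 1],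
    [6, 5, 4, 3, 2, 1, 3, 4, 0, 2, 3, 1], [5, 4, 3, 2, 1, 3, 4, 0, 2, 3, 1],
    [6, 5, 4, 3, 2, 1, 3, 4, 5, 0, 2, 3, 4], [6, 5, 4, 3, 2, 1, 3, 4, 5, 0, 2, 3],
    [6, 5, 4, 3, 2, 1, 3, 4, 0, 2, 3], [5, 4, 3, 2, 1, 3, 4, 0, 2, 3], [6, 5, 4, 3, 2, 1, 3, 4, 5, 0, 2],
    [6, 5, 4, 3, 2, 1, 3, 4, 0, 2], [5, 4, 3, 2, 1, 3, 4, 0, 2], [6, 5, 4, 3, 2, 1, 3, 0, 2],
    [5, 4, 3, 2, 1, 3, 0, 2], [4, 3, 2, 1, 3, 0, 2], [6, 5, 4, 3, 2, 1, 3, 4, 5, 0],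
    [6, 5, 4, 3, 2, 1, 3, 4, 0], [5, 4, 3, 2, 1, 3, 4, 0], [6, 5, 4, 3, 2, 1, 3, 0], [5, 4, 3, 2, 1, 3, 0],
    [4, 3, 2, 1, 3, 0], [6, 5, 4, 3, 2, 1, 0], [5, 4, 3, 2, 1, 0], [4, 3, 2, 1, 0], [3, 2, 1, 0],
    [6, 5, 4, 3, 2, 0], [5, 4, 3, 2, 0], [4, 3, 2, 0], [3, 2, 0], [2, 0], [0], [6, 5, 4, 3, 2, 1, 3, 4, 5],
    [6, 5, 4, 3, 2, 1, 3, 4], [5, 4, 3, 2, 1, 3, 4], [6, 5, 4, 3, 2, 1, 3], [5, 4, 3, 2, 1, 3],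
    [4, 3, 2, 1, 3], [6, 5, 4, 3, 2, 1], [5, 4, 3, 2, 1], [4, 3, 2, 1], [3, 2, 1], [6, 5, 4, 3, 1],
    [5, 4, 3, 1], [4, 3, 1], [3, 1], [1], [6, 5, 4, 3, 2], [5, 4, 3, 2], [4, 3, 2], [3, 2], [2],
    [6, 5, 4, 3], [5, 4, 3], [4, 3], [3], [6, 5, 4], [5, 4], [4], [6, 5], [5], [6], [], [], [], [], [], [],
    [], [], [], [], [], [], [], [], [], [], [], [], [], [], [], [], [], [], [], [], [], [], [], [], [], [],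
    [], [], [], [], [], [], [], [], [], [], [], [], [], [], [], [], [], [], [], [], [], [], [], [], [], [],
    [], [], [], [], []]

set_option maxRecDepth 1000000 in
theorem posPairOK_E7 :
    posPairOK chevE7.nroots chevE7.rank wTabs_E7 (chevE7.nroots - 1) posWit_E7 = true := by decide +kernel

/-- The certificate for type E8. -/
def posWit_E8 : List (List ℕ) := 
  [[], [7, 6, 5, 4, 3, 2, 1, 3, 4, 5, 6, 0, 2, 3, 4, 5, 1, 3, 4, 2, 3, 0, 2, 1, 3, 4, 5, 6],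
    [7, 6, 5, 4, 3, 2, 1, 3, 4, 5, 6, 0, 2, 3, 4, 5, 1, 3, 4, 2, 3, 0, 2, 1, 3, 4, 5],
    [7, 6, 5, 4, 3, 2, 1, 3, 4, 5, 6, 0, 2, 3, 4, 5, 1, 3, 4, 2, 3, 0, 2, 1, 3, 4],
    [7, 6, 5, 4, 3, 2, 1, 3, 4, 5, 6, 0, 2, 3, 4, 5, 1, 3, 4, 2, 3, 0, 2, 1, 3],
    [7, 6, 5, 4, 3, 2, 1, 3, 4, 5, 6, 0, 2, 3, 4, 5, 1, 3, 4, 2, 3, 0, 2, 1],
    [7, 6, 5, 4, 3, 2, 1, 3, 4, 5, 6, 0, 2, 3, 4, 5, 1, 3, 4, 2, 3, 1, 0],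
    [7, 6, 5, 4, 3, 2, 1, 3, 4, 5, 6, 0, 2, 3, 4, 5, 1, 3, 4, 2, 3, 0, 2],
    [7, 6, 5, 4, 3, 2, 1, 3, 4, 5, 6, 0, 2, 3, 4, 5, 1, 3, 4, 2, 3, 0],
    [7, 6, 5, 4, 3, 2, 1, 3, 4, 5, 6, 0, 2, 3, 4, 5, 1, 3, 4, 2, 0],
    [7, 6, 5, 4, 3, 2, 1, 3, 4, 5, 6, 0, 2, 3, 4, 5, 1, 3, 2, 0],
    [7, 6, 5, 4, 3, 2, 1, 3, 4, 5, 6, 0, 2, 3, 4, 1, 3, 2, 0],
    [7, 6, 5, 4, 3, 2, 1, 3, 4, 5, 0, 2, 3, 4, 1, 3, 2, 0],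
    [6, 5, 4, 3, 2, 1, 3, 4, 5, 0, 2, 3, 4, 1, 3, 2, 0],
    [7, 6, 5, 4, 3, 2, 1, 3, 4, 5, 6, 0, 2, 3, 4, 5, 1, 3, 4, 2, 3, 1],
    [7, 6, 5, 4, 3, 2, 1, 3, 4, 5, 6, 0, 2, 3, 4, 5, 1, 3, 4, 2, 3],
    [7, 6, 5, 4, 3, 2, 1, 3, 4, 5, 6, 0, 2, 3, 4, 5, 1, 3, 4, 2],
    [7, 6, 5, 4, 3, 2, 1, 3, 4, 5, 6, 0, 2, 3, 4, 5, 1, 3, 2],
    [7, 6, 5, 4, 3, 2, 1, 3, 4, 5, 6, 0, 2, 3, 4, 1, 3, 2],
    [7, 6, 5, 4, 3, 2, 1, 3, 4, 5, 0, 2, 3, 4, 1, 3, 2], [6, 5, 4, 3, 2, 1, 3, 4, 5, 0, 2, 3, 4, 1, 3, 2],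
    [7, 6, 5, 4, 3, 2, 1, 3, 4, 5, 6, 0, 2, 3, 4, 5, 1, 3, 4],
    [7, 6, 5, 4, 3, 2, 1, 3, 4, 5, 6, 0, 2, 3, 4, 5, 1, 3],
    [7, 6, 5, 4, 3, 2, 1, 3, 4, 5, 6, 0, 2, 3, 4, 1, 3], [7, 6, 5, 4, 3, 2, 1, 3, 4, 5, 0, 2, 3, 4, 1, 3],
    [6, 5, 4, 3, 2, 1, 3, 4, 5, 0, 2, 3, 4, 1, 3], [7, 6, 5, 4, 3, 2, 1, 3, 4, 5, 6, 0, 2, 3, 4, 5, 1],
    [7, 6, 5, 4, 3, 2, 1, 3, 4, 5, 6, 0, 2, 3, 4, 1], [7, 6, 5, 4, 3, 2, 1, 3, 4, 5, 0, 2, 3, 4, 1],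
    [6, 5, 4, 3, 2, 1, 3, 4, 5, 0, 2, 3, 4, 1], [7, 6, 5, 4, 3, 2, 1, 3, 4, 5, 6, 0, 2, 3, 1],
    [7, 6, 5, 4, 3, 2, 1, 3, 4, 5, 0, 2, 3, 1], [6, 5, 4, 3, 2, 1, 3, 4, 5, 0, 2, 3, 1],
    [7, 6, 5, 4, 3, 2, 1, 3, 4, 0, 2, 3, 1], [6, 5, 4, 3, 2, 1, 3, 4, 0, 2, 3, 1],
    [5, 4, 3, 2, 1, 3, 4, 0, 2, 3, 1], [7, 6, 5, 4, 3, 2, 1, 3, 4, 5, 6, 0, 2, 3, 4, 5],
    [7, 6, 5, 4, 3, 2, 1, 3, 4, 5, 6, 0, 2, 3, 4], [7, 6, 5, 4, 3, 2, 1, 3, 4, 5, 0, 2, 3, 4],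
    [6, 5, 4, 3, 2, 1, 3, 4, 5, 0, 2, 3, 4], [7, 6, 5, 4, 3, 2, 1, 3, 4, 5, 6, 0, 2, 3],
    [7, 6, 5, 4, 3, 2, 1, 3, 4, 5, 0, 2, 3], [6, 5, 4, 3, 2, 1, 3, 4, 5, 0, 2, 3],
    [7, 6, 5, 4, 3, 2, 1, 3, 4, 0, 2, 3], [6, 5, 4, 3, 2, 1, 3, 4, 0, 2, 3], [5, 4, 3, 2, 1, 3, 4, 0, 2, 3],
    [7, 6, 5, 4, 3, 2, 1, 3, 4, 5, 6, 0, 2], [7, 6, 5, 4, 3, 2, 1, 3, 4, 5, 0, 2],
    [6, 5, 4, 3, 2, 1, 3, 4, 5, 0, 2], [7, 6, 5, 4, 3, 2, 1, 3, 4, 0, 2], [6, 5, 4, 3, 2, 1, 3, 4, 0, 2],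
    [5, 4, 3, 2, 1, 3, 4, 0, 2], [7, 6, 5, 4, 3, 2, 1, 3, 0, 2], [6, 5, 4, 3, 2, 1, 3, 0, 2],
    [5, 4, 3, 2, 1, 3, 0, 2], [4, 3, 2, 1, 3, 0, 2], [7, 6, 5, 4, 3, 2, 1, 3, 4, 5, 6, 0],
    [7, 6, 5, 4, 3, 2, 1, 3, 4, 5, 0], [6, 5, 4, 3, 2, 1, 3, 4, 5, 0], [7, 6, 5, 4, 3, 2, 1, 3, 4, 0],
    [6, 5, 4, 3, 2, 1, 3, 4, 0], [5, 4, 3, 2, 1, 3, 4, 0], [7, 6, 5, 4, 3, 2, 1, 3, 0],
    [6, 5, 4, 3, 2, 1, 3, 0], [5, 4, 3, 2, 1, 3, 0], [4, 3, 2, 1, 3, 0], [7, 6, 5, 4, 3, 2, 1, 0],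
    [6, 5, 4, 3, 2, 1, 0], [5, 4, 3, 2, 1, 0], [4, 3, 2, 1, 0], [3, 2, 1, 0], [7, 6, 5, 4, 3, 2, 0],
    [6, 5, 4, 3, 2, 0], [5, 4, 3, 2, 0], [4, 3, 2, 0], [3, 2, 0], [2, 0], [0],
    [7, 6, 5, 4, 3, 2, 1, 3, 4, 5, 6], [7, 6, 5, 4, 3, 2, 1, 3, 4, 5], [6, 5, 4, 3, 2, 1, 3, 4, 5],
    [7, 6, 5, 4, 3, 2, 1, 3, 4], [6, 5, 4, 3, 2, 1, 3, 4], [5, 4, 3, 2, 1, 3, 4], [7, 6, 5, 4, 3, 2, 1, 3],
    [6, 5, 4, 3, 2, 1, 3], [5, 4, 3, 2, 1, 3], [4, 3, 2, 1, 3], [7, 6, 5, 4, 3, 2, 1], [6, 5, 4, 3, 2, 1],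
    [5, 4, 3, 2, 1], [4, 3, 2, 1], [3, 2, 1], [7, 6, 5, 4, 3, 1], [6, 5, 4, 3, 1], [5, 4, 3, 1], [4, 3, 1],
    [3, 1], [1], [7, 6, 5, 4, 3, 2], [6, 5, 4, 3, 2], [5, 4, 3, 2], [4, 3, 2], [3, 2], [2], [7, 6, 5, 4, 3],
    [6, 5, 4, 3], [5, 4, 3], [4, 3], [3], [7, 6, 5, 4], [6, 5, 4], [5, 4], [4], [7, 6, 5], [6, 5], [5],
    [7, 6], [6], [7], [], [], [], [], [], [], [], [], [], [], [], [], [], [], [], [], [], [], [], [], [], [],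
    [], [], [], [], [], [], [], [], [], [], [], [], [], [], [], [], [], [], [], [], [], [], [], [], [], [],
    [], [], [], [], [], [], [], [], [], [], [], [], [], [], [], [], [], [], [], [], [], [], [], [], [], [],
    [], [], [], [], [], [], [], [], [], [], [], [], [], [], [], [], [], [], [], [], [], [], [], [], [], [],
    [], [], [], [], [], [], [], [], [], [], [], [], [], [], [], [], [], [], [], []]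

set_option maxRecDepth 1000000 in
theorem posPairOK_E8 :
    posPairOK chevE8.nroots chevE8.rank wTabs_E8 (chevE8.nroots - 1) posWit_E8 = true := by decide +kernel

end Cfsg.Agent.Lib.Helper61.ChevJ
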